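import Groth.Agent.Abvar.Cube.FibClosed

/-!
# The theorem of the cube over any base
-/

universe u

open CategoryTheory Limits MonoidalCategory CartesianMonoidalCategory AlgebraicGeometry
  TopologicalSpace

namespace Groth.Abvar.Cube

open Seesaw
open Groth.PicAux (Gen)

variable {S : Scheme.{u}}

/-- A product of families with geometrically integral fibres is one. -/
theorem geometricallyIntegral_tensor (X Y : Over S) [Flat X.hom] [LocallyOfFinitePresentation X.hom]
    [GeometricallyIntegral X.hom] [LocallyOfFiniteType Y.hom] [GeometricallyIntegral Y.hom] :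
    GeometricallyIntegral (X ⊗ Y).hom := by
  have sq : IsPullback (fst X Y).left (snd X Y).left X.hom Y.hom := IsPullback.of_hasPullback _ _
  have : Flat (snd X Y).left := MorphismProperty.of_isPullback sq ‹_›
  have : GeometricallyIntegral (snd X Y).left := MorphismProperty.of_isPullback sq ‹_›
  have : LocallyOfFinitePresentation (snd X Y).left := MorphismProperty.of_isPullback sq ‹_›
  have : UniversallyOpen (snd X Y).left := inferInstance
  rw [← Over.w (snd X Y)]
  exact geometricallyIntegral_comp (snd X Y).left Y.hom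

theorem isProper_tensor (X Y : Over S) [IsProper X.hom] [IsProper Y.hom] : IsProper (X ⊗ Y).hom := by
  have sq : IsPullback (fst X Y).left (snd X Y).left X.hom Y.hom := IsPullback.of_hasPullback _ _
  have : IsProper (snd X Y).left := MorphismProperty.of_isPullback sq ‹_›
  rw [← Over.w (snd X Y)]
  exact inferInstanceAs (IsProper (_ ≫ _))

theorem flat_tensor (X Y : Over S) [Flat X.hom] [Flat Y.hom] : Flat (X ⊗ Y).hom := by
  have sq : IsPullback (fst X Y).left (snd X Y).left X.hom Y.hom := IsPullback.of_hasPullback _ _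
  have : Flat (snd X Y).left := MorphismProperty.of_isPullback sq ‹_›
  rw [← Over.w (snd X Y)]
  exact inferInstanceAs (Flat (_ ≫ _))

theorem locallyOfFinitePresentation_tensor (X Y : Over S) [LocallyOfFinitePresentation X.hom]
    [LocallyOfFinitePresentation Y.hom] : LocallyOfFinitePresentation (X ⊗ Y).hom := by
  have sq : IsPullback (fst X Y).left (snd X Y).left X.hom Y.hom := IsPullback.of_hasPullback _ _
  have : LocallyOfFinitePresentation (snd X Y).left := MorphismProperty.of_isPullback sq ‹_›
  rw [← Over.w (snd X Y)]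
  exact inferInstanceAs (LocallyOfFinitePresentation (_ ≫ _))

variable {X Y : Over S} [IsProper X.hom] [Flat X.hom] [LocallyOfFinitePresentation X.hom]
  [GeometricallyIntegral X.hom] [IsProper Y.hom] [Flat Y.hom] [LocallyOfFinitePresentation Y.hom]
  [GeometricallyIntegral Y.hom]
  (x : 𝟙_ (Over S) ⟶ X) (y : 𝟙_ (Over S) ⟶ Y) {L : (X ⊗ Y).left.Modules}
  (hL : PicF.IsInvertible L)
  (hX : Nonempty ((Scheme.Modules.pullback (lift (𝟙 X) (toUnit X ≫ y)).left).obj L ≅
    Coh.structureModule X.left))
  (hY : Nonempty ((Scheme.Modules.pullback (lift (toUnit Y ≫ x) (𝟙 Y)).left).obj L ≅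
    Coh.structureModule Y.left))

include x y hL hX hY in
/-- Near a trivial fibre the module is trivial. -/
theorem exists_gen_near_integral (s : S) (ht : FibTriv (X ⊗ Y).hom L s) :
    ∃ U : S.Opens, s ∈ U ∧ ∃ σ, Gen L ((X ⊗ Y).hom ⁻¹ᵁ U) σ := by
  have := geometricallyIntegral_tensor X Y
  have := isProper_tensor X Y
  have := flat_tensor X Y
  have := locallyOfFinitePresentation_tensor X Y
  have := geometricallyConnected_of_integral X.hom
  have := geometricallyConnected_of_integral Y.hom
  have := geometricallyConnected_of_integral (X ⊗ Y).hom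
  exact exists_gen_near_any x y L hL hX hY s ht (h0Const_of_geometrically _ s)
    (h0Const_of_geometrically _ s) (h0Const_of_geometrically _ s)

include x y hL hX hY in
/-- The trivial fibres form an open and closed set. -/
theorem isClopen_fibTriv : IsClopen {s | FibTriv (X ⊗ Y).hom L s} := by
  have := geometricallyIntegral_tensor X Y
  have := isProper_tensor X Y
  have := flat_tensor X Y
  have := locallyOfFinitePresentation_tensor X Y
  refine ⟨isClosed_fibTriv_any (X ⊗ Y).hom hL, isOpen_iff_forall_mem_open.2 fun s hs => ?_⟩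
  obtain ⟨U, hU, σ, hσ⟩ := exists_gen_near_integral x y hL hX hY s hs
  exact ⟨U, fun w hw => fibTriv_of_gen (X ⊗ Y).hom hσ hw, U.isOpen, hU⟩

include x y hL hX hY in
/-- A module trivial on two slices and on all fibres is trivial. -/
theorem trivial_of_fibres (hall : ∀ s, FibTriv (X ⊗ Y).hom L s) :
    Nonempty (L ≅ Coh.structureModule (X ⊗ Y).left) := by
  have := geometricallyIntegral_tensor X Y
  have := isProper_tensor X Y
  have := flat_tensor X Y
  have := locallyOfFinitePresentation_tensor X Y
  have := geometricallyConnected_of_integral (X ⊗ Y).hom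
  refine trivial_of_local (X ⊗ Y).hom (e := (lift x y).left) (Over.w _)
    (fun V => GrpschAbsch.H0General.app_bijective (X ⊗ Y).hom V)
    (fun s => exists_gen_near_integral x y hL hX hY s (hall s)) ?_
  exact trivial_of_factor y.left
    (congrArg Over.Hom.left (show y ≫ lift (toUnit Y ≫ x) (𝟙 Y) = lift x y by simp)) hY

section baseChange

variable {B : Scheme.{u}} (a : B ⟶ S)

omit [Flat X.hom] [LocallyOfFinitePresentation X.hom] [GeometricallyIntegral X.hom]
  [IsProper Y.hom] [Flat Y.hom] [LocallyOfFinitePresentation Y.hom] [GeometricallyIntegral Y.hom]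
  [IsProper X.hom] in
include hX hY in
/-- The slices of a base change are trivial. -/
theorem exists_baseChange_slices :
    ∃ (h : (Over.mk (pullback.snd X.hom a) ⊗ Over.mk (pullback.snd Y.hom a)).left ⟶ (X ⊗ Y).left)
      (x' : 𝟙_ (Over B) ⟶ Over.mk (pullback.snd X.hom a))
      (y' : 𝟙_ (Over B) ⟶ Over.mk (pullback.snd Y.hom a)),
      IsPullback h (Over.mk (pullback.snd X.hom a) ⊗ Over.mk (pullback.snd Y.hom a)).hom
        (X ⊗ Y).hom a ∧
      Nonempty ((Scheme.Modules.pullback
        (lift (𝟙 (Over.mk (pullback.snd X.hom a))) (toUnit _ ≫ y')).left).obj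
          ((Scheme.Modules.pullback h).obj L) ≅ Coh.structureModule _) ∧
      Nonempty ((Scheme.Modules.pullback
        (lift (toUnit (Over.mk (pullback.snd Y.hom a)) ≫ x') (𝟙 _)).left).obj
          ((Scheme.Modules.pullback h).obj L) ≅ Coh.structureModule _) := by
  let XV := Over.mk (pullback.snd X.hom a)
  let YV := Over.mk (pullback.snd Y.hom a)
  have hXV : IsPullback (pullback.fst X.hom a) XV.hom X.hom a := IsPullback.of_hasPullback _ _
  have hYV : IsPullback (pullback.fst Y.hom a) YV.hom Y.hom a := IsPullback.of_hasPullback _ _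
  obtain ⟨h, h1, h2, sqh⟩ := isPullback_tensor (X' := XV) (Y' := YV) hXV hYV
  obtain ⟨xV, hxV⟩ := exists_section (X' := XV) hXV x
  obtain ⟨yV, hyV⟩ := exists_section (X' := YV) hYV y
  refine ⟨h, xV, yV, sqh, ?_, ?_⟩
  · obtain ⟨i⟩ := trivial_of_factor (g' := (lift (𝟙 XV) (toUnit XV ≫ yV)).left ≫ h)
      (pullback.fst X.hom a) (lift_compat h1 h2
        (show (𝟙 XV : XV ⟶ XV).left ≫ pullback.fst X.hom a =
            pullback.fst X.hom a ≫ (𝟙 X : X ⟶ X).left from
          (Category.id_comp _).trans (Category.comp_id _).symm)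
        (toUnit_compat hXV.w y yV hyV)).symm hX
    exact ⟨(Scheme.Modules.pullbackComp _ h).app L ≪≫ i⟩
  · obtain ⟨i⟩ := trivial_of_factor (g' := (lift (toUnit YV ≫ xV) (𝟙 YV)).left ≫ h)
      (pullback.fst Y.hom a) (lift_compat h1 h2 (toUnit_compat hYV.w x xV hxV)
        (show (𝟙 YV : YV ⟶ YV).left ≫ pullback.fst Y.hom a =
            pullback.fst Y.hom a ≫ (𝟙 Y : Y ⟶ Y).left from
          (Category.id_comp _).trans (Category.comp_id _).symm)).symm hY
    exact ⟨(Scheme.Modules.pullbackComp _ h).app L ≪≫ i⟩

include x y hL hX hY in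
/-- A module trivial on two slices is trivial over any base change all of whose fibres are
trivial. -/
theorem trivial_of_fibres_bc {P : Scheme.{u}} {h : P ⟶ (X ⊗ Y).left}
    {q : P ⟶ B} (H : IsPullback h q (X ⊗ Y).hom a)
    (hall : ∀ b, FibTriv (X ⊗ Y).hom L (a b)) :
    Nonempty ((Scheme.Modules.pullback h).obj L ≅ Coh.structureModule P) := by
  obtain ⟨g, x', y', sq, hX', hY'⟩ := exists_baseChange_slices x y hX hY a
  have : IsProper (Over.mk (pullback.snd X.hom a)).hom :=
    inferInstanceAs (IsProper (pullback.snd _ _))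
  have : IsProper (Over.mk (pullback.snd Y.hom a)).hom :=
    inferInstanceAs (IsProper (pullback.snd _ _))
  have : Flat (Over.mk (pullback.snd X.hom a)).hom := inferInstanceAs (Flat (pullback.snd _ _))
  have : Flat (Over.mk (pullback.snd Y.hom a)).hom := inferInstanceAs (Flat (pullback.snd _ _))
  have : LocallyOfFinitePresentation (Over.mk (pullback.snd X.hom a)).hom :=
    inferInstanceAs (LocallyOfFinitePresentation (pullback.snd _ _))
  have : LocallyOfFinitePresentation (Over.mk (pullback.snd Y.hom a)).hom :=
    inferInstanceAs (LocallyOfFinitePresentation (pullback.snd _ _))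
  have : GeometricallyIntegral (Over.mk (pullback.snd X.hom a)).hom :=
    inferInstanceAs (GeometricallyIntegral (pullback.snd _ _))
  have : GeometricallyIntegral (Over.mk (pullback.snd Y.hom a)).hom :=
    inferInstanceAs (GeometricallyIntegral (pullback.snd _ _))
  exact trivial_of_factor (sq.lift h q H.w) (sq.lift_fst _ _ _)
    (trivial_of_fibres x' y' (PicAux.isInvertible_pullback g hL) hX' hY'
      fun b => fibTriv_of_isPullback sq b (hall b))

end baseChange

end Groth.Abvar.Cube
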