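import Groth.Agent.Abvar.Cube.Main
import Groth.Agent.Abvar.Seesaw.Variety
import Groth.Agent.Abvar.PicCalc
import Groth.Agent.Abvar.AlgClosedAux

/-!
# Consequences of the theorem of the cube for invertible classes on an abelian variety
-/

universe u

open CategoryTheory Limits MonoidalCategory CartesianMonoidalCategory MonObj GrpObj AlgebraicGeometry

namespace Groth.Abvar.Cube

open PicCalc

variable {k : Type u} [Field k] {A : Over (Spec (CommRingCat.of k))} [GrpObj A]

/-- The alternating sum of the cube. -/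
noncomputable def theta {T : Over (Spec (CommRingCat.of k))} (c : PicLoc.PicSet A.left)
    (f g h : T ⟶ A) : PicLoc.PicSet T.left :=
  opull (f * g * h) c * opull f c * opull g c * opull h c /
    (opull (f * g) c * opull (f * h) c * opull (g * h) c)

theorem opull_theta {S T : Over (Spec (CommRingCat.of k))} (m : S ⟶ T)
    (c : PicLoc.PicSet A.left) (f g h : T ⟶ A) :
    opull m (theta c f g h) = theta c (m ≫ f) (m ≫ g) (m ≫ h) := by
  simp only [theta, map_div, map_mul, ← opull_comp, MonObj.comp_mul]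

theorem theta_one_left {T : Over (Spec (CommRingCat.of k))} (c : PicLoc.PicSet A.left) (g h : T ⟶ A) :
    theta c 1 g h = 1 := by
  have h1 : ∀ f : T ⟶ A, (1 : T ⟶ A) * f = f := fun f => _root_.one_mul f
  have h2 : ∀ f : T ⟶ A, f * (1 : T ⟶ A) = f := fun f => _root_.mul_one f
  simp only [theta, h1, h2, opull_one, _root_.one_mul, _root_.mul_one]
  rw [div_eq_one]
  ac_rfl

theorem theta_one_mid {T : Over (Spec (CommRingCat.of k))} (c : PicLoc.PicSet A.left) (f h : T ⟶ A) :
    theta c f 1 h = 1 := by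
  have h1 : ∀ f : T ⟶ A, (1 : T ⟶ A) * f = f := fun f => _root_.one_mul f
  have h2 : ∀ f : T ⟶ A, f * (1 : T ⟶ A) = f := fun f => _root_.mul_one f
  simp only [theta, h1, h2, opull_one, _root_.one_mul, _root_.mul_one]
  rw [div_eq_one]
  ac_rfl

theorem theta_one_right {T : Over (Spec (CommRingCat.of k))} (c : PicLoc.PicSet A.left) (f g : T ⟶ A) :
    theta c f g 1 = 1 := by
  have h1 : ∀ f : T ⟶ A, (1 : T ⟶ A) * f = f := fun f => _root_.one_mul f
  have h2 : ∀ f : T ⟶ A, f * (1 : T ⟶ A) = f := fun f => _root_.mul_one f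
  simp only [theta, h1, h2, opull_one, _root_.one_mul, _root_.mul_one]
  rw [div_eq_one]

variable [IsProper A.hom] [GeometricallyIntegral A.hom]

/-- The theorem of the cube for classes. -/
theorem theta_eq_one {T : Over (Spec (CommRingCat.of k))} (c : PicLoc.PicSet A.left)
    (f g h : T ⟶ A) : theta c f g h = 1 := by
  suffices hu : theta c (fst A (A ⊗ A)) (snd A (A ⊗ A) ≫ fst A A) (snd A (A ⊗ A) ≫ snd A A) = 1 by
    have e := congrArg (opull (lift f (lift g h))) hu
    rw [opull_theta, map_one] at e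
    simpa using e
  have := Seesaw.geometricallyConnected_of_integral A.hom
  obtain ⟨L, hL, e⟩ := PicGrp.exists_eq_cls
    (theta c (fst A (A ⊗ A)) (snd A (A ⊗ A) ≫ fst A A) (snd A (A ⊗ A) ≫ snd A A))
  rw [e, ← nonempty_iso_structure_iff]
  refine trivial_cube η[A] η[A] η[A] L hL ?_ ?_ ?_
  all_goals
    rw [nonempty_iso_structure_iff (PicLoc.isInvertible_pullback _ hL), ← pull_cls _ hL]
    change opull _ (PicGrp.cls L hL) = 1
    rw [← e, opull_theta]
  · simp only [lift_fst, lift_snd_assoc, Category.id_comp, ← Hom.one_def, theta_one_left]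
  · simp only [lift_fst, lift_snd_assoc, lift_snd, lift_fst_assoc, Category.id_comp,
      ← Hom.one_def, theta_one_mid]
  · simp only [lift_fst, lift_snd_assoc, lift_snd, lift_fst_assoc, Category.id_comp,
      ← Hom.one_def, theta_one_right]

/-- The theorem of the cube, without quotients. -/
theorem opull_cube {T : Over (Spec (CommRingCat.of k))} (c : PicLoc.PicSet A.left) (f g h : T ⟶ A) :
    opull (f * g * h) c * opull f c * opull g c * opull h c =
      opull (f * g) c * opull (f * h) c * opull (g * h) c :=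
  div_eq_one.1 (theta_eq_one c f g h)

/-- The theorem of the square. -/
theorem opull_square {T : Over (Spec (CommRingCat.of k))} (c : PicLoc.PicSet A.left) (f : T ⟶ A)
    (a b : 𝟙_ (Over (Spec (CommRingCat.of k))) ⟶ A) :
    opull (f * (toUnit T ≫ (a * b))) c * opull f c =
      opull (f * (toUnit T ≫ a)) c * opull (f * (toUnit T ≫ b)) c := by
  have e := opull_cube c f (toUnit T ≫ a) (toUnit T ≫ b)
  rw [_root_.mul_assoc f, ← MonObj.comp_mul, opull_toUnit_comp, opull_toUnit_comp, opull_toUnit_comp,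
    _root_.mul_one, _root_.mul_one, _root_.mul_one] at e
  exact e

omit [GrpObj A] [IsProper A.hom] [GeometricallyIntegral A.hom] in
/-- The fibre over a rational point is the slice. -/
theorem fibTriv_of_slice {X Y : Over (Spec (CommRingCat.of k))}
    (s : 𝟙_ (Over (Spec (CommRingCat.of k))) ⟶ Y) (L : (X ⊗ Y).left.Modules)
    (h : Nonempty ((Scheme.Modules.pullback (lift (𝟙 X) (toUnit X ≫ s)).left).obj L ≅
      Coh.structureModule X.left)) :
    Seesaw.FibTriv (snd X Y).left L (s.left (IsLocalRing.closedPoint k)) := by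
  have sq : IsPullback (fst X Y).left (snd X Y).left X.hom Y.hom := IsPullback.of_hasPullback _ _
  obtain ⟨d, hd⟩ := fromSpecResidueField_rational s
  have Hs : IsPullback (lift (𝟙 X) (toUnit X ≫ s)).left X.hom (snd X Y).left s.left := by
    refine IsPullback.of_right (t := sq) (p := ?_) (s := ?_)
    rotate_left
    · refine (congrArg Over.Hom.left (lift_snd (𝟙 X) (toUnit X ≫ s))).trans ?_
      rw [Over.comp_left, Over.toUnit_left]
    · rw [show (lift (𝟙 X) (toUnit X ≫ s)).left ≫ (fst X Y).left = 𝟙 _ from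
        congrArg Over.Hom.left (lift_fst (𝟙 X) (toUnit X ≫ s)),
        show s.left ≫ Y.hom = 𝟙 _ from Over.w s]
      exact IsPullback.of_id_fst
  exact Seesaw.trivial_of_factor
    (Hs.lift ((snd X Y).left.fiberι _) ((snd X Y).left.fiberToSpecResidueField _ ≫ d)
      (by rw [Category.assoc, hd]; exact (snd X Y).left.fiber_fac _)) (Hs.lift_fst _ _ _) h

/-- Translation invariance is additivity along the group law. -/
theorem opull_mul_of_invariant [IsAlgClosed k] (c : PicLoc.PicSet A.left)
    (hc : ∀ a : 𝟙_ (Over (Spec (CommRingCat.of k))) ⟶ A, opull (𝟙 A * (toUnit A ≫ a)) c = c) :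
    opull (fst A A * snd A A) c = opull (fst A A) c * opull (snd A A) c := by
  rw [← div_eq_one]
  obtain ⟨L, hL, e⟩ := PicGrp.exists_eq_cls
    (opull (fst A A * snd A A) c / (opull (fst A A) c * opull (snd A A) c))
  rw [e, ← nonempty_iso_structure_iff]
  refine Seesaw.trivial_seesaw η[A] hL (fun y hy => ?_) ?_
  · obtain ⟨s, rfl⟩ := exists_rationalPoint A hy
    refine fibTriv_of_slice s L ?_
    rw [nonempty_iso_structure_iff (PicLoc.isInvertible_pullback _ hL), ← pull_cls _ hL]
    change opull _ (PicGrp.cls L hL) = 1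
    rw [← e, map_div, map_mul, ← opull_comp, ← opull_comp, ← opull_comp, MonObj.comp_mul,
      lift_fst, lift_snd, opull_toUnit_comp, opull_id, hc]
    exact (congrArg (c / ·) (_root_.mul_one c)).trans (div_self' c)
  · rw [nonempty_iso_structure_iff (PicLoc.isInvertible_pullback _ hL), ← pull_cls _ hL]
    change opull _ (PicGrp.cls L hL) = 1
    rw [← e, map_div, map_mul, ← opull_comp, ← opull_comp, ← opull_comp, MonObj.comp_mul,
      lift_fst, lift_snd, ← Hom.one_def, opull_one, opull_id,
      show (1 : A ⟶ A) * 𝟙 A = 𝟙 A from _root_.one_mul _, opull_id]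
    exact (congrArg (c / ·) (_root_.one_mul c)).trans (div_self' c)

/-- Additivity of pullbacks of an invariant class. -/
theorem opull_add_of_invariant [IsAlgClosed k] {T : Over (Spec (CommRingCat.of k))}
    (c : PicLoc.PicSet A.left)
    (hc : ∀ a : 𝟙_ (Over (Spec (CommRingCat.of k))) ⟶ A, opull (𝟙 A * (toUnit A ≫ a)) c = c)
    (f g : T ⟶ A) : opull (f * g) c = opull f c * opull g c := by
  have e := congrArg (opull (lift f g)) (opull_mul_of_invariant c hc)
  rwa [map_mul, ← opull_comp, ← opull_comp, ← opull_comp, MonObj.comp_mul, lift_fst, lift_snd] at e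

/-- Translating `[-1]^*c` and `c` changes both by the same class. -/
theorem opull_inv_translate [IsAlgClosed k] (c : PicLoc.PicSet A.left)
    (a : 𝟙_ (Over (Spec (CommRingCat.of k))) ⟶ A) :
    opull (𝟙 A * (toUnit A ≫ a)) (opull (𝟙 A)⁻¹ c) * c =
      opull (𝟙 A)⁻¹ c * opull (𝟙 A * (toUnit A ≫ a)) c := by
  have hcomm : IsCommMonObj A := isCommMonObj_of_isProper_of_geometricallyIntegral A
  let t := fun b : 𝟙_ (Over (Spec (CommRingCat.of k))) ⟶ A => 𝟙 A * (toUnit A ≫ b)
  have ht : ∀ b b', t b ≫ t b' = t (b * b') := fun b b' => by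
    simp only [t]
    rw [MonObj.comp_mul, Category.comp_id, ← Category.assoc, comp_toUnit, MonObj.comp_mul,
      _root_.mul_assoc]
  have hsq : ∀ b b', opull (t (b * b')) c * c = opull (t b) c * opull (t b') c := fun b b' => by
    have := opull_square c (𝟙 A) b b'
    rwa [opull_id] at this
  let e := fun b => opull (t b) c / c
  have he : ∀ b b', opull (t b') (e b) = e b := fun b b' => by
    simp only [e, map_div, ← opull_comp, ht]
    rw [div_eq_div_iff_mul_eq_mul, hsq b' b]
    exact mul_comm _ _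
  have hinv : ∀ b, opull (𝟙 A)⁻¹ (e b) * e b = 1 := fun b => by
    have := opull_add_of_invariant (e b) (fun b' => he b b') (𝟙 A) (𝟙 A)⁻¹
    rw [mul_inv_cancel, opull_one, opull_id] at this
    exact (mul_comm _ _).trans this.symm
  have hswap : t a ≫ (𝟙 A)⁻¹ = (𝟙 A)⁻¹ ≫ t a⁻¹ := by
    simp only [t]
    rw [GrpObj.comp_inv, Category.comp_id, MonObj.comp_mul, Category.comp_id, ← Category.assoc,
      comp_toUnit, _root_.mul_inv, GrpObj.comp_inv]
  have h1 : opull (t a) (opull (𝟙 A)⁻¹ c) / opull (𝟙 A)⁻¹ c = opull (𝟙 A)⁻¹ (e a⁻¹) := by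
    rw [← opull_comp, hswap, opull_comp, ← map_div]
  have h2 : e a⁻¹ * e a = 1 := by
    simp only [e]
    rw [div_mul_div_comm, div_eq_one, ← hsq, inv_mul_cancel]
    congr 1
    simp only [t]
    rw [show (toUnit A ≫ (1 : 𝟙_ (Over (Spec (CommRingCat.of k))) ⟶ A)) = 1 from MonObj.comp_one _,
      _root_.mul_one, opull_id]
  have h3 : opull (t a) (opull (𝟙 A)⁻¹ c) / opull (𝟙 A)⁻¹ c = opull (t a) c / c :=
    h1.trans ((eq_inv_of_mul_eq_one_left (hinv _)).trans (inv_eq_of_mul_eq_one_right h2))
  rw [div_eq_div_iff_mul_eq_mul] at h3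
  exact h3.trans (mul_comm _ _)

end Groth.Abvar.Cube
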