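import Groth.Agent.Abvar.Cube.Infinitesimal

/-!
# Constant functions along Artinian thickenings

If the functions of a flat family with coefficients in the residue field of an Artinian local
algebra are constant, they are constant with coefficients in all its quotients.
-/

universe u

open scoped TensorProduct
open IsLocalRing

namespace Groth.Abvar.Cube

variable {R : Type u} [CommRing R] {C : Type u} [CommRing C] [Algebra R C] [IsLocalRing C]
  [IsArtinianRing C] {ι : Type}
  {A : ι → Type u} [∀ i, CommRing (A i)] [∀ i, Algebra R (A i)] [∀ i, Module.Flat R (A i)]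
  {A2 : ι → ι → Type u} [∀ i j, CommRing (A2 i j)] [∀ i j, Algebra R (A2 i j)]
  [∀ i j, Module.Flat R (A2 i j)]
  {rl : ∀ i j, A i →ₐ[R] A2 i j} {rr : ∀ i j, A j →ₐ[R] A2 i j}

theorem isConstFam_subsingleton (D : Type u) [CommRing D] [Algebra R D] [Subsingleton D] :
    IsConstFam rl rr D := fun x _ => by
  refine ⟨0, fun i => ?_⟩
  induction x i using TensorProduct.induction_on with
  | zero => simp
  | tmul c a => rw [Subsingleton.elim c 0, TensorProduct.zero_tmul, TensorProduct.zero_tmul]
  | add a b ha hb => rw [ha, hb, TensorProduct.zero_tmul, add_zero]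

/-- Constancy of functions on the closed fibre spreads to the thickenings. -/
theorem isConstFam_of_closed (hK : IsConstFam rl rr (C ⧸ maximalIdeal C)) (J : Ideal C) :
    IsConstFam rl rr (C ⧸ J) := by
  induction J using WellFoundedGT.induction with
  | ind J ih =>
  rcases eq_or_ne J ⊤ with rfl | hne
  · have : Subsingleton (C ⧸ (⊤ : Ideal C)) := Ideal.Quotient.subsingleton_iff.2 rfl
    exact isConstFam_subsingleton _
  rcases (IsLocalRing.le_maximalIdeal hne).lt_or_eq with hlt | rfl
  · obtain ⟨ε, hεm, hεJ, hmε⟩ := exists_small_element hlt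
    let J' := J ⊔ Ideal.span {ε}
    have hJJ' : J < J' := left_lt_sup.2 fun h => hεJ (h (Ideal.mem_span_singleton_self ε))
    let π : C ⧸ J →ₐ[R] C ⧸ J' := Ideal.Quotient.factorₐ R (le_sup_left : J ≤ J')
    let f : C →ₗ[C] C ⧸ J := (Submodule.mkQ J).comp (LinearMap.mulRight C ε)
    let j : C ⧸ maximalIdeal C →ₗ[R] C ⧸ J :=
      ((maximalIdeal C).liftQ f fun c hc => (Ideal.Quotient.eq_zero_iff_mem).2 (hmε c hc))
        |>.restrictScalars R
    have hπ : Function.Surjective π := Ideal.Quotient.factor_surjective le_sup_left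
    have hj : Function.Injective j := by
      rw [injective_iff_map_eq_zero]
      intro x hx
      obtain ⟨c, rfl⟩ := Ideal.Quotient.mk_surjective x
      have hx' : c * ε ∈ J := Ideal.Quotient.eq_zero_iff_mem.1 hx
      refine Ideal.Quotient.eq_zero_iff_mem.2 (by_contra fun hc => ?_)
      obtain ⟨u, rfl⟩ := not_not.1 fun h => hc ((mem_maximalIdeal c).2 h)
      exact hεJ ((J.unit_mul_mem_iff_mem u.isUnit).1 hx')
    have hex : Function.Exact j π.toLinearMap := by
      intro x
      obtain ⟨c, rfl⟩ := Ideal.Quotient.mk_surjective x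
      constructor
      · intro hx
        have hx' : c ∈ J' := Ideal.Quotient.eq_zero_iff_mem.1 hx
        obtain ⟨a, ha, b, hb, rfl⟩ := Submodule.mem_sup.1 hx'
        obtain ⟨d, rfl⟩ := Ideal.mem_span_singleton'.1 hb
        refine ⟨Ideal.Quotient.mk _ d, ?_⟩
        show Ideal.Quotient.mk J (d * ε) = Ideal.Quotient.mk J (a + d * ε)
        rw [map_add, Ideal.Quotient.eq_zero_iff_mem.2 ha, zero_add]
      · rintro ⟨y, hy⟩
        obtain ⟨d, rfl⟩ := Ideal.Quotient.mk_surjective y
        rw [← hy]
        exact Ideal.Quotient.eq_zero_iff_mem.2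
          (Ideal.mem_sup_right (Ideal.mem_span_singleton'.2 ⟨d, rfl⟩))
    have hjbc : ∀ {X X' : Type u} [CommRing X] [Algebra R X] [CommRing X'] [Algebra R X']
        (g : X →ₐ[R] X') (z : (C ⧸ maximalIdeal C) ⊗[R] X),
        bc (C ⧸ J) g (j.rTensor X z) = j.rTensor X' (bc (C ⧸ maximalIdeal C) g z) := by
      intro X X' _ _ _ _ g z
      induction z using TensorProduct.induction_on with
      | zero => simp
      | tmul c x => simp
      | add a b ha hb => simp only [map_add, ha, hb]
    intro x hx
    obtain ⟨t', ht'⟩ := ih J' hJJ' (fun i => coef _ π (x i)) fun i l => by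
      simp only [← coef_bc, hx i l]
    obtain ⟨t, rfl⟩ := hπ t'
    have hker : ∀ i, coef (A i) π (x i - t ⊗ₜ 1) = 0 := fun i => by
      rw [map_sub, ht', Algebra.TensorProduct.map_tmul, map_one, sub_self]
    choose w hw using fun i => (Module.Flat.rTensor_exact (A i) hex (x i - t ⊗ₜ 1)).1
      (by rw [← hker i]; rfl)
    obtain ⟨s, hs⟩ := hK w fun i l => by
      refine Module.Flat.rTensor_preserves_injective_linearMap (M := A2 i l) _ hj ?_
      rw [← hjbc, ← hjbc, hw, hw, map_sub, map_sub, hx i l, Algebra.TensorProduct.map_tmul,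
        Algebra.TensorProduct.map_tmul, map_one, map_one]
    refine ⟨t + j s, fun i => ?_⟩
    rw [TensorProduct.add_tmul, ← LinearMap.rTensor_tmul (A i) j, ← hs i, hw,
      add_sub_cancel]
  · exact hK

end Groth.Abvar.Cube
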