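import Groth.Agent.Abvar.Cube.FunAlg
import Groth.Agent.Abvar.Cube.ConstFam
import Groth.Agent.CohBase.BaseChangeModel
import Groth.Agent.PicAux.Pullback
import Groth.Agent.PicAux.QCoh
import Groth.Agent.CohFin.Proper

/-!
# The theorem of the cube over an Artinian local ring

An invertible module on the product of two proper flat schemes with geometrically reduced and
connected fibres over an Artinian local ring, trivial on the closed fibre and on two slices through
sections, is trivial.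
-/

universe u

open CategoryTheory Limits MonoidalCategory CartesianMonoidalCategory AlgebraicGeometry
  TopologicalSpace Opposite
open scoped TensorProduct
open Groth.PicAux (resX resX_resX resX_self resX_ext resX_glue res res_res res_smul res_self res_ext
  res_glue Gen pullSec pullSec_smul res_pullSec)

namespace Groth.Abvar.Cube

variable {R : Type u} [CommRing R] {X Y : Over (Spec (CommRingCat.of R))}

/-- A finite affine cover with a member containing a section. -/
theorem exists_cover_through [IsLocalRing R] [CompactSpace X.left]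
    (x : 𝟙_ (Over (Spec (CommRingCat.of R))) ⟶ X) :
    ∃ (n : ℕ) (U : Fin n → X.left.Opens), (∀ i, IsAffineOpen (U i)) ∧ ⊤ ≤ iSup U ∧
      ∃ i₀, ⊤ ≤ x.left ⁻¹ᵁ U i₀ := by
  classical
  have hcov : ∀ p : X.left, ∃ U : X.left.Opens, IsAffineOpen U ∧ p ∈ U := fun p => by
    obtain ⟨_, ⟨U, hU, rfl⟩, hp, -⟩ :=
      X.left.isBasis_affineOpens.exists_subset_of_mem_open (Set.mem_univ p) isOpen_univ
    exact ⟨U, hU, hp⟩
  choose U hU hp using hcov
  obtain ⟨s, hs⟩ := isCompact_univ.elim_finite_subcover (fun p : X.left => (U p : Set X.left))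
    (fun p => (U p).2) fun p _ => Set.mem_iUnion.2 ⟨p, hp p⟩
  refine ⟨Fintype.card s, fun i => U ((Fintype.equivFin s).symm i), fun i => hU _,
    fun p _ => ?_, ?_⟩
  · obtain ⟨q, hq, hpq⟩ := Set.mem_iUnion₂.1 (hs (Set.mem_univ p))
    exact Opens.mem_iSup.2 ⟨Fintype.equivFin s ⟨q, hq⟩, by simpa using hpq⟩
  · let c : Spec (CommRingCat.of R) := IsLocalRing.closedPoint R
    obtain ⟨q, hq, hcq⟩ := Set.mem_iUnion₂.1 (hs (Set.mem_univ (x.left c)))
    refine ⟨Fintype.equivFin s ⟨q, hq⟩, fun w _ => ?_⟩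
    simp only [Equiv.symm_apply_apply]
    exact (IsLocalRing.specializes_closedPoint (R := R) w).mem_open
      (x.left ⁻¹ᵁ U q).isOpen hcq

/-- The value at a section, as a homomorphism of algebras. -/
noncomputable def evUnit (x : 𝟙_ (Over (Spec (CommRingCat.of R))) ⟶ X) {U : X.left.Opens}
    (h : ⊤ ≤ x.left ⁻¹ᵁ U) : Γ(X.left, U) →ₐ[R] R :=
  AlgHom.ofLinearMap
    { toFun := fun s => evPt x h (toA R s)
      map_add' := fun a b => map_add (evPt x h) (toA R a) (toA R b)
      map_smul' := fun c a => by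
        rw [RingHom.id_apply, ← map_smul (evPt x h)]
        exact congrArg _ (Algebra.smul_def c a) }
    (evPt_one x h)
    fun a b => by
      show (Scheme.ΓSpecIso (CommRingCat.of R)).hom (x.left.appLE U ⊤ h (a * b)) =
        (Scheme.ΓSpecIso (CommRingCat.of R)).hom (x.left.appLE U ⊤ h a) *
          (Scheme.ΓSpecIso (CommRingCat.of R)).hom (x.left.appLE U ⊤ h b)
      erw [map_mul, map_mul]

/-- Functions on a box, from the tensor product. -/
noncomputable def toBox (U : X.left.Opens) (V : Y.left.Opens) :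
    R ⊗[R] (Γ(X.left, U) ⊗[R] Γ(Y.left, V)) →ₐ[R] Γ((X ⊗ Y).left, box X Y U V) :=
  (boxAlg U V).comp (Algebra.TensorProduct.lid R _).toAlgHom

theorem toBox_tmul (U : X.left.Opens) (V : Y.left.Opens) (c : R) (s : Γ(X.left, U))
    (t : Γ(Y.left, V)) :
    toBox U V (c ⊗ₜ (s ⊗ₜ t)) = CohBase.toSec R _ c *
      ((fst X Y).left.appLE U (box X Y U V) inf_le_left s *
        (snd X Y).left.appLE V (box X Y U V) inf_le_right t) := by
  show boxAlg U V (c • s ⊗ₜ t) = _
  rw [map_smul, Algebra.smul_def, boxAlg_tmul, algebraMap_sec]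

theorem toBox_bijective {U : X.left.Opens} {V : Y.left.Opens} (hU : IsAffineOpen U)
    (hV : IsAffineOpen V) : Function.Bijective (toBox U V) :=
  (boxAlg_bijective hU hV).comp (Algebra.TensorProduct.lid R _).bijective

theorem toBox_bcL {U U' : X.left.Opens} {V : Y.left.Opens} (hU : U' ≤ U)
    (z : R ⊗[R] (Γ(X.left, U) ⊗[R] Γ(Y.left, V))) :
    toBox U' V (bcL R _ (resAlg R hU) z) =
      resX _ (box_mono hU le_rfl) (toBox U V z) := by
  induction z using TensorProduct.induction_on with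
  | zero => simp
  | tmul c p =>
    induction p using TensorProduct.induction_on with
    | zero => simp
    | tmul s t =>
      simp only [Algebra.TensorProduct.map_tmul, AlgHom.coe_id, id_eq, toBox_tmul, map_mul,
        resAlg_apply, resX_appLE, appLE_resX]
      congr 1
      exact (CohBase.resFun_toSec (A := R) _ c).symm
    | add a b ha hb => simp only [TensorProduct.tmul_add, map_add, ha, hb]
  | add a b ha hb => simp only [map_add, ha, hb]

theorem toBox_bcR {U : X.left.Opens} {V V' : Y.left.Opens} (hV : V' ≤ V)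
    (z : R ⊗[R] (Γ(X.left, U) ⊗[R] Γ(Y.left, V))) :
    toBox U V' (bcR R _ (resAlg R hV) z) =
      resX _ (box_mono le_rfl hV) (toBox U V z) := by
  induction z using TensorProduct.induction_on with
  | zero => simp
  | tmul c p =>
    induction p using TensorProduct.induction_on with
    | zero => simp
    | tmul s t =>
      simp only [Algebra.TensorProduct.map_tmul, AlgHom.coe_id, id_eq, toBox_tmul, map_mul,
        resAlg_apply, resX_appLE, appLE_resX]
      congr 1
      exact (CohBase.resFun_toSec (A := R) _ c).symm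
    | add a b ha hb => simp only [TensorProduct.tmul_add, map_add, ha, hb]
  | add a b ha hb => simp only [map_add, ha, hb]

theorem toBox_sliceB (y : 𝟙_ (Over (Spec (CommRingCat.of R))) ⟶ Y) {U : X.left.Opens}
    {V : Y.left.Opens} (h : ⊤ ≤ y.left ⁻¹ᵁ V)
    (e : U ≤ (lift (𝟙 X) (toUnit X ≫ y)).left ⁻¹ᵁ box X Y U V)
    (z : R ⊗[R] (Γ(X.left, U) ⊗[R] Γ(Y.left, V))) :
    (lift (𝟙 X) (toUnit X ≫ y)).left.appLE (box X Y U V) U e (toBox U V z) =
      Algebra.TensorProduct.lid R _ (cutB (evUnit y h) _ z) := by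
  induction z using TensorProduct.induction_on with
  | zero => simp
  | tmul c p =>
    induction p using TensorProduct.induction_on with
    | zero => simp
    | tmul s t =>
      rw [cutB_tmul, Algebra.TensorProduct.lid_tmul, toBox_tmul, map_mul,
        appLE_toSec (lift (𝟙 X) (toUnit X ≫ y)) e, Algebra.smul_def, algebraMap_sec,
        map_mul (CohBase.toSec R U), mul_assoc]
      congr 1
      refine ((slice_prodFun y h e le_rfl (toA R s ⊗ₜ toA R t)).trans ?_)
      rw [LinearMap.lTensor_tmul, TensorProduct.rid_tmul, map_smul, ofA_smul, ofA_res, resX_self]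
      rfl
    | add a b ha hb => simp only [TensorProduct.tmul_add, map_add, ha, hb]
  | add a b ha hb => simp only [map_add, ha, hb]

theorem toBox_sliceA (x : 𝟙_ (Over (Spec (CommRingCat.of R))) ⟶ X) {U : X.left.Opens}
    {V : Y.left.Opens} (h : ⊤ ≤ x.left ⁻¹ᵁ U)
    (e : V ≤ (lift (toUnit Y ≫ x) (𝟙 Y)).left ⁻¹ᵁ box X Y U V)
    (z : R ⊗[R] (Γ(X.left, U) ⊗[R] Γ(Y.left, V))) :
    (lift (toUnit Y ≫ x) (𝟙 Y)).left.appLE (box X Y U V) V e (toBox U V z) =
      Algebra.TensorProduct.lid R _ (cutA (evUnit x h) _ z) := by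
  induction z using TensorProduct.induction_on with
  | zero => simp
  | tmul c p =>
    induction p using TensorProduct.induction_on with
    | zero => simp
    | tmul s t =>
      rw [cutA_tmul, Algebra.TensorProduct.lid_tmul, toBox_tmul, map_mul,
        appLE_toSec (lift (toUnit Y ≫ x) (𝟙 Y)) e, Algebra.smul_def, algebraMap_sec,
        map_mul (CohBase.toSec R V), mul_assoc]
      congr 1
      refine ((slice_prodFun_left x h e le_rfl (toA R s ⊗ₜ toA R t)).trans ?_)
      rw [LinearMap.rTensor_tmul, TensorProduct.lid_tmul, map_smul, ofA_smul, ofA_res, resX_self]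
      rfl
    | add a b ha hb => simp only [TensorProduct.tmul_add, map_add, ha, hb]
  | add a b ha hb => simp only [map_add, ha, hb]

/-- Functions on a box which restrict to one on the closed fibre are one modulo the ideal. -/
theorem coef_eq_one {I : Ideal R} {PK : Scheme.{u}} {g : PK ⟶ (X ⊗ Y).left}
    {q : PK ⟶ Spec (CommRingCat.of (R ⧸ I))}
    (H : IsPullback g q (X ⊗ Y).hom (Spec.map (CommRingCat.ofHom (algebraMap R (R ⧸ I)))))
    {U : X.left.Opens} {V : Y.left.Opens} (hU : IsAffineOpen U) (hV : IsAffineOpen V)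
    (z : R ⊗[R] (Γ(X.left, U) ⊗[R] Γ(Y.left, V))) (hz : g.app _ (toBox U V z) = 1) :
    coef _ (Ideal.Quotient.mkₐ R I) z = 1 := by
  let e := AlgEquiv.ofBijective (boxAlg U V) (boxAlg_bijective hU hV)
  have hb : Function.Bijective (bc (R ⧸ I) (boxAlg U V)) :=
    (Algebra.TensorProduct.congr (AlgEquiv.refl : (R ⧸ I) ≃ₐ[R] (R ⧸ I)) e).bijective
  obtain ⟨p, rfl⟩ : ∃ p, (1 : R) ⊗ₜ[R] p = z :=
    ⟨Algebra.TensorProduct.lid R _ z, (Algebra.TensorProduct.lid R _).symm_apply_apply z⟩
  have hz' : g.app (box X Y U V) (boxAlg U V p) = 1 := by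
    rw [← hz]
    show _ = g.app _ (boxAlg U V ((1 : R) • p))
    rw [one_smul]
  apply hb.1
  apply (bcAlg_bijective H (isAffineOpen_box hU hV)).1
  rw [Algebra.TensorProduct.map_tmul, Algebra.TensorProduct.map_tmul]
  refine (bcAlg_tmul H _ _ _).trans ?_
  rw [map_one, map_one]
  simp only [map_one, one_mul, AlgHom.coe_id, id_eq]
  exact hz'

theorem lid_bc {P : Scheme.{u}} [P.Over (Spec (CommRingCat.of R))] {W S : P.Opens} (e : S ≤ W)
    (z : R ⊗[R] Γ(P, W)) :
    Algebra.TensorProduct.lid R _ (bc R (resAlg R e) z) =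
      resX _ e (Algebra.TensorProduct.lid R _ z) := by
  induction z using TensorProduct.induction_on with
  | zero => simp
  | tmul c s =>
    simp only [Algebra.TensorProduct.map_tmul, AlgHom.coe_id, id_eq, Algebra.TensorProduct.lid_tmul,
      Algebra.smul_def, algebraMap_sec, map_mul, resAlg_apply]
    congr 1
    exact (CohBase.resFun_toSec (A := R) _ c).symm
  | add a b ha hb => simp only [map_add, ha, hb]

/-- A section restricting to a basis along a surjective morphism is a basis. -/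
theorem gen_of_pullSec {P Q : Scheme.{u}} (g : Q ⟶ P) [Surjective g] {L : P.Modules}
    (hL : PicF.IsInvertible L) {W : P.Opens} (t : Γ(L, W))
    (ht : Gen ((Scheme.Modules.pullback g).obj L) (g ⁻¹ᵁ W) (pullSec g L t)) : Gen L W t := by
  replace hL := (PicAux.isInvertible_iff_exists_gen L).1 hL
  choose U e hU he using hL
  refine Gen.of_cover (fun p : P => W ⊓ U p) (fun _ => inf_le_left) (fun p hp => ?_) fun p => ?_
  · exact Opens.mem_iSup.2 ⟨p, hp, hU p⟩
  obtain ⟨r, hr⟩ := (he p).exists_coeff (inf_le_right : W ⊓ U p ≤ U p)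
    (res L (inf_le_left : W ⊓ U p ≤ W) t)
  rw [hr]
  refine Gen.smul_unit ((he p).res inf_le_right) ?_
  have h1 : Gen _ (g ⁻¹ᵁ (W ⊓ U p)) (pullSec g L (res L (inf_le_left : W ⊓ U p ≤ W) t)) := by
    rw [← res_pullSec]
    exact ht.res _
  rw [hr, pullSec_smul] at h1
  have h2 : IsUnit (g.app _ r) := (((he p).res inf_le_right).pull g).isUnit_of_smul h1
  have h3 : P.basicOpen r = W ⊓ U p := by
    refine le_antisymm (P.basicOpen_le r) fun z hz => ?_
    obtain ⟨w, rfl⟩ := g.surjective z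
    have h4 : w ∈ g ⁻¹ᵁ P.basicOpen r := by
      rw [Scheme.preimage_basicOpen, Scheme.basicOpen_of_isUnit _ h2]
      exact hz
    exact h4
  have h5 : IsUnit (resX P (P.basicOpen_le r) r) := P.toRingedSpace.isUnit_res_basicOpen r
  have h6 := h5.map (resX P h3.ge)
  rwa [resX_resX, resX_self] at h6

set_option maxHeartbeats 1000000 in
/-- Generators on affine opens lifting a generator of the closed fibre. -/
theorem exists_gens {P : Scheme.{u}} [P.Over (Spec (CommRingCat.of R))] {I : Ideal R}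
    {PK : Scheme.{u}} {g : PK ⟶ P} [Surjective g] {q : PK ⟶ Spec (CommRingCat.of (R ⧸ I))}
    (H : IsPullback g q (P ↘ Spec (CommRingCat.of R))
      (Spec.map (CommRingCat.ofHom (algebraMap R (R ⧸ I)))))
    {L : P.Modules} (hL : PicF.IsInvertible L) (σ : Γ((Scheme.Modules.pullback g).obj L, ⊤))
    (hσ : Gen _ ⊤ σ) {ι : Type*} (W : ι → P.Opens) (hW : ∀ i, IsAffineOpen (W i)) :
    ∃ t : ∀ i, Γ(L, W i), (∀ i, Gen L (W i) (t i)) ∧
      ∀ i, pullSec g L (t i) = res _ le_top σ := by
  have := PicAux.isQCoh_of_isInvertible hL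
  let _ : PK.Over (Spec (CommRingCat.of (R ⧸ I))) := ⟨q⟩
  suffices h : ∀ p, ∃ t : Γ(L, W p), pullSec g L t = res _ le_top σ by
    choose t ht using h
    exact ⟨t, fun p => gen_of_pullSec g hL _ ((ht p) ▸ hσ.res le_top), ht⟩
  intro p
  obtain ⟨z, hz⟩ := (CohBase.bcSec_bijective (A := R) (A' := R ⧸ I) H L (hW p)).2
    (res _ le_top σ)
  obtain ⟨w, rfl⟩ : ∃ w, w ⊗ₜ (1 : R ⧸ I) = z := by
    clear hz
    induction z using TensorProduct.induction_on with
    | zero => exact ⟨0, TensorProduct.zero_tmul _ _⟩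
    | tmul s c =>
      obtain ⟨c, rfl⟩ := Ideal.Quotient.mk_surjective c
      refine ⟨c • s, ?_⟩
      rw [TensorProduct.smul_tmul, Algebra.smul_def, mul_one]
      rfl
    | add a b ha hb =>
      obtain ⟨a, rfl⟩ := ha
      obtain ⟨b, rfl⟩ := hb
      exact ⟨a + b, TensorProduct.add_tmul _ _ _⟩
  rw [CohBase.bcSec_tmul, map_one, one_smul] at hz
  exact ⟨w, hz⟩

theorem le_lift_id_toUnit (y : 𝟙_ (Over (Spec (CommRingCat.of R))) ⟶ Y) {U : X.left.Opens}
    {V : Y.left.Opens} (hy : ⊤ ≤ y.left ⁻¹ᵁ V) :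
    U ≤ (lift (𝟙 X) (toUnit X ≫ y)).left ⁻¹ᵁ box X Y U V := by
  intro p hp
  refine ⟨?_, ?_⟩
  · show (lift (𝟙 X) (toUnit X ≫ y) ≫ fst X Y).left p ∈ U
    rw [lift_fst]
    exact hp
  · show (lift (𝟙 X) (toUnit X ≫ y) ≫ snd X Y).left p ∈ V
    rw [lift_snd]
    exact hy (x := (toUnit X).left p) trivial

theorem le_lift_toUnit_id (x : 𝟙_ (Over (Spec (CommRingCat.of R))) ⟶ X) {U : X.left.Opens}
    {V : Y.left.Opens} (hx : ⊤ ≤ x.left ⁻¹ᵁ U) :
    V ≤ (lift (toUnit Y ≫ x) (𝟙 Y)).left ⁻¹ᵁ box X Y U V := by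
  intro p hp
  refine ⟨?_, ?_⟩
  · show (lift (toUnit Y ≫ x) (𝟙 Y) ≫ fst X Y).left p ∈ U
    rw [lift_fst]
    exact hx (x := (toUnit Y).left p) trivial
  · show (lift (toUnit Y ≫ x) (𝟙 Y) ≫ snd X Y).left p ∈ V
    rw [lift_snd]
    exact hp

/-- Comparing pulled back generators with a generator of a trivial slice. -/
theorem exists_slice_units {T P : Scheme.{u}} [T.Over (Spec (CommRingCat.of R))] (f : T ⟶ P)
    {L : P.Modules} (hf : Nonempty ((Scheme.Modules.pullback f).obj L ≅ Coh.structureModule T))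
    {ι : Type} {U : ι → T.Opens} {W : ι → P.Opens} (t : ∀ i, Γ(L, W i))
    (htg : ∀ i, Gen L (W i) (t i)) (hUW : ∀ i, U i ≤ f ⁻¹ᵁ W i) {W2 : ι → ι → P.Opens}
    {M : ι → ι → Type u} (val : ∀ i j, M i j → Γ(P, W2 i j))
    (cut : ∀ i j, M i j → R ⊗[R] Γ(T, U i ⊓ U j)) (hU2 : ∀ i j, U i ⊓ U j ≤ f ⁻¹ᵁ W2 i j)
    (hW2 : ∀ i j, W2 i j ≤ W i ⊓ W j)
    (hcut : ∀ i j z, f.appLE (W2 i j) (U i ⊓ U j) (hU2 i j) (val i j z) =
      Algebra.TensorProduct.lid R _ (cut i j z))
    (h : ∀ i j, M i j) (η : ∀ i j, Γ(P, W i ⊓ W j))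
    (hval : ∀ i j, val i j (h i j) = resX P (hW2 i j) (η i j))
    (hη : ∀ i j, res L ((hW2 i j).trans inf_le_right) (t j) =
      resX P (hW2 i j) (η i j) • res L ((hW2 i j).trans inf_le_left) (t i)) :
    ∃ v : ∀ i, R ⊗[R] Γ(T, U i), (∀ i, IsUnit (v i)) ∧
      ∀ i j, cut i j (h i j) * bc R (resAlg R (inf_le_left : U i ⊓ U j ≤ U i)) (v i) =
        bc R (resAlg R (inf_le_right : U i ⊓ U j ≤ U j)) (v j) := by
  obtain ⟨e, he⟩ := PicAux.nonempty_iso_structure_iff.1 hf
  choose v hv using fun i => ((he.res (le_top : U i ≤ ⊤)).exists_unit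
    (((htg i).pull f).res (hUW i)))
  refine ⟨fun i => (Algebra.TensorProduct.lid R _).symm (v i : Γ(T, U i)),
    fun i => (v i).isUnit.map _, fun i j => (Algebra.TensorProduct.lid R _).injective ?_⟩
  rw [map_mul, lid_bc, lid_bc, AlgEquiv.apply_symm_apply, AlgEquiv.apply_symm_apply, ← hcut, hval]
  refine he.smul_inj (le_top : U i ⊓ U j ≤ ⊤) ?_
  have e0 := congrArg (fun s => res _ (hU2 i j) (pullSec f L s)) (hη i j)
  simp only [pullSec_smul, res_smul, ← res_pullSec, res_res] at e0
  have ei := congrArg (res _ (inf_le_left : U i ⊓ U j ≤ U i)) (hv i)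
  have ej := congrArg (res _ (inf_le_right : U i ⊓ U j ≤ U j)) (hv j)
  simp only [res_smul, res_res] at ei ej
  rw [mul_smul, ← ei, ← ej]
  exact e0.symm

/-- A coboundary gives a global generator. -/
theorem trivial_of_coboundary {P : Scheme.{u}} {L : P.Modules} {ι κ : Type} (W : ι → κ → P.Opens)
    (t : ∀ i a, Γ(L, W i a)) (htg : ∀ i a, Gen L (W i a) (t i a))
    (η : ∀ i a j b, Γ(P, W i a ⊓ W j b))
    (hη : ∀ i a j b, res L inf_le_right (t j b) =
      resX P le_rfl (η i a j b) • res L inf_le_left (t i a))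
    (WX : ι → ι → κ → P.Opens) (WY : ι → κ → κ → P.Opens)
    (hXW : ∀ i j a, WX i j a ≤ W i a ⊓ W j a) (hYW : ∀ i a b, WY i a b ≤ W i a ⊓ W i b)
    (hW : ∀ i j a b, W i a ⊓ W j b ≤ WX i j b ⊓ WY i a b)
    (u : ∀ i a, Γ(P, W i a)) (hu : ∀ i a, IsUnit (u i a))
    (hh : ∀ a i j, resX P (hXW i j a) (η i a j a) * resX P ((hXW i j a).trans inf_le_left) (u i a) =
      resX P ((hXW i j a).trans inf_le_right) (u j a))
    (hc : ∀ i a b, resX P (hYW i a b) (η i a i b) * resX P ((hYW i a b).trans inf_le_left) (u i a) =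
      resX P ((hYW i a b).trans inf_le_right) (u i b))
    (hcov : ⊤ ≤ ⨆ p : ι × κ, W p.1 p.2) :
    Nonempty (L ≅ Coh.structureModule P) := by
  choose bi hbi using fun i a => (hu i a).exists_left_inv
  have hstep : ∀ {i a j b} {S : P.Opens} (hS : S ≤ W i a ⊓ W j b),
      resX P hS (η i a j b) * resX P (hS.trans inf_le_left) (u i a) =
        resX P (hS.trans inf_le_right) (u j b) →
      res L (hS.trans inf_le_left) (bi i a • t i a) =
        res L (hS.trans inf_le_right) (bi j b • t j b) := by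
    intro i a j b S hS e
    have e1 : resX P (hS.trans inf_le_left) (bi i a) * resX P (hS.trans inf_le_left) (u i a) = 1 := by
      rw [← map_mul, hbi, map_one]
    have e2 : resX P (hS.trans inf_le_right) (bi j b) * resX P (hS.trans inf_le_right) (u j b) = 1 := by
      rw [← map_mul, hbi, map_one]
    have ht := congrArg (res L hS) (hη i a j b)
    simp only [res_smul, res_res, resX_resX] at ht
    rw [res_smul, res_smul, ht, ← mul_smul]
    congr 1
    linear_combination (resX P hS (η i a j b) * resX P (hS.trans inf_le_right) (bi j b)) * e1 -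
      (resX P (hS.trans inf_le_left) (bi i a) * resX P (hS.trans inf_le_right) (bi j b)) * e -
      resX P (hS.trans inf_le_left) (bi i a) * e2
  obtain ⟨s, hs, -⟩ := res_glue (M := L) (U := ⊤) (fun p : ι × κ => W p.1 p.2)
    (fun _ => le_top) hcov (fun p => bi p.1 p.2 • t p.1 p.2) fun p p' => by
      obtain ⟨i, a⟩ := p
      obtain ⟨j, b⟩ := p'
      have h1 := congrArg (resX P ((hW i j a b).trans inf_le_right)) (hc i a b)
      have h2 := congrArg (resX P ((hW i j a b).trans inf_le_left)) (hh b i j)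
      simp only [map_mul, resX_resX] at h1 h2
      exact (hstep _ h1).trans (hstep _ h2)
  refine PicAux.nonempty_iso_structure_iff.2 ⟨s, Gen.of_cover _ (fun _ => le_top) hcov fun p => ?_⟩
  rw [hs p]
  exact (htg p.1 p.2).smul_unit (IsUnit.of_mul_eq_one _ (hbi p.1 p.2))

/-- The cocycle relation of transition functions. -/
theorem rel_of_transition {L : (X ⊗ Y).left.Modules} {ι κ : Type} {U : ι → X.left.Opens}
    {V : κ → Y.left.Opens} (hU2 : ∀ i j, IsAffineOpen (U i ⊓ U j))
    (hV2 : ∀ a b, IsAffineOpen (V a ⊓ V b))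
    (t : ∀ p : ι × κ, Γ(L, box X Y (U p.1) (V p.2))) (htg : ∀ p, Gen L _ (t p))
    (η : ∀ p p' : ι × κ, Γ((X ⊗ Y).left, box X Y (U p.1) (V p.2) ⊓ box X Y (U p'.1) (V p'.2)))
    (hη : ∀ p p', res L inf_le_right (t p') = resX _ le_rfl (η p p') • res L inf_le_left (t p))
    (hXW : ∀ i j a, box X Y (U i ⊓ U j) (V a) ≤ box X Y (U i) (V a) ⊓ box X Y (U j) (V a))
    (hYW : ∀ i a b, box X Y (U i) (V a ⊓ V b) ≤ box X Y (U i) (V a) ⊓ box X Y (U i) (V b))
    (h : ∀ a i j, R ⊗[R] (Γ(X.left, U i ⊓ U j) ⊗[R] Γ(Y.left, V a)))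
    (c : ∀ i a b, R ⊗[R] (Γ(X.left, U i) ⊗[R] Γ(Y.left, V a ⊓ V b)))
    (hh : ∀ a i j, toBox (U i ⊓ U j) (V a) (h a i j) = resX _ (hXW i j a) (η (i, a) (j, a)))
    (hc : ∀ i a b, toBox (U i) (V a ⊓ V b) (c i a b) = resX _ (hYW i a b) (η (i, a) (i, b)))
    (i j : ι) (a b : κ) :
    bcR R _ (resL Y V a b) (h a i j) * bcL R _ (resR X U i j) (c j a b) =
      bcL R _ (resL X U i j) (c i a b) * bcR R _ (resR Y V a b) (h b i j) := by
  apply (toBox_bijective (hU2 i j) (hV2 a b)).1
  have hη' : ∀ {p p' : ι × κ} {W : (X ⊗ Y).left.Opens}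
      (hW : W ≤ box X Y (U p.1) (V p.2) ⊓ box X Y (U p'.1) (V p'.2)),
      res L (hW.trans inf_le_right) (t p') =
        resX _ hW (η p p') • res L (hW.trans inf_le_left) (t p) := by
    intro p p' W hW
    simpa only [res_smul, res_res, resX_resX] using congrArg (res L hW) (hη p p')
  rw [map_mul, map_mul, toBox_bcL, toBox_bcL, toBox_bcR, toBox_bcR, hh, hh, hc, hc, resX_resX,
    resX_resX, resX_resX, resX_resX]
  have hW : box X Y (U i ⊓ U j) (V a ⊓ V b) ≤ box X Y (U i) (V a) :=
    box_mono inf_le_left inf_le_left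
  refine (htg (i, a)).smul_inj hW ?_
  have e1 : box X Y (U i ⊓ U j) (V a ⊓ V b) ≤ box X Y (U i ⊓ U j) (V a) :=
    box_mono le_rfl inf_le_left
  have e2 : box X Y (U i ⊓ U j) (V a ⊓ V b) ≤ box X Y (U j) (V a ⊓ V b) :=
    box_mono inf_le_right le_rfl
  have e3 : box X Y (U i ⊓ U j) (V a ⊓ V b) ≤ box X Y (U i) (V a ⊓ V b) :=
    box_mono inf_le_left le_rfl
  have e4 : box X Y (U i ⊓ U j) (V a ⊓ V b) ≤ box X Y (U i ⊓ U j) (V b) :=
    box_mono le_rfl inf_le_right
  have q1 := hη' (p := (i, a)) (p' := (j, a)) (e1.trans (hXW i j a))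
  have q2 := hη' (p := (j, a)) (p' := (j, b)) (e2.trans (hYW j a b))
  have q3 := hη' (p := (i, a)) (p' := (i, b)) (e3.trans (hYW i a b))
  have q4 := hη' (p := (i, b)) (p' := (j, b)) (e4.trans (hXW i j b))
  rw [q1, smul_smul] at q2
  rw [q3, smul_smul] at q4
  exact (congrArg (· • res L hW (t (i, a))) (mul_comm _ _)).trans ((q2.symm.trans q4).trans
    (congrArg (· • res L hW (t (i, a))) (mul_comm _ _)))

/-- Restricting a transition identity. -/
theorem transition_res {P : Scheme.{u}} {L : P.Modules} {A B W : P.Opens} {a : Γ(L, A)}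
    {b : Γ(L, B)} {r : Γ(P, A ⊓ B)}
    (h : res L inf_le_right b = r • res L inf_le_left a) (hW : W ≤ A ⊓ B) :
    res L (hW.trans inf_le_right) b = resX P hW r • res L (hW.trans inf_le_left) a := by
  simpa only [res_smul, res_res] using congrArg (res L hW) h

/-- Transition functions of lifts of a single generator are one on the fibre. -/
theorem app_transition {P Q : Scheme.{u}} (g : Q ⟶ P) {L : P.Modules}
    {σ : Γ((Scheme.Modules.pullback g).obj L, ⊤)} (hσ : Gen _ ⊤ σ) {A B W : P.Opens} {a : Γ(L, A)}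
    {b : Γ(L, B)} {r : Γ(P, A ⊓ B)} (ha : pullSec g L a = res _ le_top σ)
    (hb : pullSec g L b = res _ le_top σ)
    (h : res L inf_le_right b = r • res L inf_le_left a) (hW : W ≤ A ⊓ B) :
    g.app W (resX P hW r) = 1 := by
  refine ((hσ.res (le_top : g ⁻¹ᵁ W ≤ ⊤))).smul_inj le_rfl ?_
  have e := congrArg (pullSec g L) (transition_res h hW)
  rw [pullSec_smul, ← res_pullSec, ← res_pullSec, ha, hb, res_res, res_res] at e
  rw [one_smul, res_self]
  exact e.symm

set_option maxHeartbeats 1000000 in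
/-- The theorem of the cube over an Artinian local ring, for constant functions on the closed
fibres. -/
theorem trivial_of_artinian' [IsLocalRing R] [IsArtinianRing R]
    [IsProper X.hom] [Flat X.hom] [IsProper Y.hom] [Flat Y.hom]
    (x : 𝟙_ (Over (Spec (CommRingCat.of R))) ⟶ X) (y : 𝟙_ (Over (Spec (CommRingCat.of R))) ⟶ Y)
    (L : (X ⊗ Y).left.Modules) (hL : PicF.IsInvertible L)
    (hX : Nonempty ((Scheme.Modules.pullback (lift (𝟙 X) (toUnit X ≫ y)).left).obj L ≅
      Coh.structureModule X.left))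
    (hY : Nonempty ((Scheme.Modules.pullback (lift (toUnit Y ≫ x) (𝟙 Y)).left).obj L ≅
      Coh.structureModule Y.left))
    (hXK : Function.Bijective (Coh.toGlobal (pullback.snd X.hom
      (Spec.map (CommRingCat.ofHom (algebraMap R (R ⧸ IsLocalRing.maximalIdeal R)))))))
    (hYK : Function.Bijective (Coh.toGlobal (pullback.snd Y.hom
      (Spec.map (CommRingCat.ofHom (algebraMap R (R ⧸ IsLocalRing.maximalIdeal R)))))))
    {PK : Scheme.{u}} {g : PK ⟶ (X ⊗ Y).left}
    {q : PK ⟶ Spec (CommRingCat.of (R ⧸ IsLocalRing.maximalIdeal R))}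
    (H : IsPullback g q (X ⊗ Y).hom
      (Spec.map (CommRingCat.ofHom (algebraMap R (R ⧸ IsLocalRing.maximalIdeal R)))))
    (hK : Nonempty ((Scheme.Modules.pullback g).obj L ≅ Coh.structureModule PK)) :
    Nonempty (L ≅ Coh.structureModule (X ⊗ Y).left) := by
  let K := R ⧸ IsLocalRing.maximalIdeal R
  have : CompactSpace X.left := CohFin.compactSpace_of_proper X.hom
  have : CompactSpace Y.left := CohFin.compactSpace_of_proper Y.hom
  have : X.left.IsSeparated := CohFin.isSeparated_of_proper X.hom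
  have : Y.left.IsSeparated := CohFin.isSeparated_of_proper Y.hom
  have : Flat (X.left ↘ Spec (CommRingCat.of R)) := ‹Flat X.hom›
  have : Flat (Y.left ↘ Spec (CommRingCat.of R)) := ‹Flat Y.hom›
  obtain ⟨n, U, hU, hUc, i₀, hi₀⟩ := exists_cover_through x
  obtain ⟨m, V, hV, hVc, a₀, ha₀⟩ := exists_cover_through y
  have hU2 : ∀ i j, IsAffineOpen (U i ⊓ U j) := fun i j => (hU i).inf (hU j)
  have hV2 : ∀ a b, IsAffineOpen (V a ⊓ V b) := fun a b => (hV a).inf (hV b)
  have : ∀ i, Module.Flat R Γ(X.left, U i) := fun i => flat_sec (hU i)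
  have : ∀ i j, Module.Flat R Γ(X.left, U i ⊓ U j) := fun i j => flat_sec (hU2 i j)
  have : ∀ a, Module.Flat R Γ(Y.left, V a) := fun a => flat_sec (hV a)
  have : ∀ a b, Module.Flat R Γ(Y.left, V a ⊓ V b) := fun a b => flat_sec (hV2 a b)
  have : Surjective (Spec.map (CommRingCat.ofHom (algebraMap R K))) :=
    have : Nontrivial K :=
      Ideal.Quotient.nontrivial_iff.2 (IsLocalRing.maximalIdeal.isMaximal R).ne_top
    ⟨fun p => ⟨(Classical.arbitrary (PrimeSpectrum K) :), Subsingleton.elim (α := PrimeSpectrum R) _ _⟩⟩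
  have : Surjective g := MorphismProperty.of_isPullback H.flip ‹_›
  have := PicAux.isQCoh_of_isInvertible hL
  letI : PK.Over (Spec (CommRingCat.of K)) := ⟨q⟩
  have hsq : CohBase.IsBC (A := R) (A' := K) g := H
  -- generators lifting the one of the closed fibre
  obtain ⟨σ, hσ⟩ := PicAux.nonempty_iso_structure_iff.1 hK
  obtain ⟨t, htg, ht⟩ : ∃ t : ∀ p : Fin n × Fin m, Γ(L, box X Y (U p.1) (V p.2)),
      (∀ p, Gen L _ (t p)) ∧ ∀ p, pullSec g L (t p) = res _ le_top σ :=
    exists_gens H hL σ hσ _ fun p => isAffineOpen_box (hU p.1) (hV p.2)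
  -- the transition functions
  choose η hη using fun p p' : Fin n × Fin m => (htg p).exists_coeff
    (inf_le_left : box X Y (U p.1) (V p.2) ⊓ box X Y (U p'.1) (V p'.2) ≤ _)
    (res L inf_le_right (t p'))
  have hXW : ∀ i j a, box X Y (U i ⊓ U j) (V a) ≤ box X Y (U i) (V a) ⊓ box X Y (U j) (V a) :=
    fun i j a => le_inf (box_mono inf_le_left le_rfl) (box_mono inf_le_right le_rfl)
  have hYW : ∀ i a b, box X Y (U i) (V a ⊓ V b) ≤ box X Y (U i) (V a) ⊓ box X Y (U i) (V b) :=
    fun i a b => le_inf (box_mono le_rfl inf_le_left) (box_mono le_rfl inf_le_right)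
  choose h hh using fun a i j => (toBox_bijective (hU2 i j) (hV a)).2
    (resX _ (hXW i j a) (η (i, a) (j, a)))
  choose c hc using fun i a b => (toBox_bijective (hU i) (hV2 a b)).2
    (resX _ (hYW i a b) (η (i, a) (i, b)))
  let ηc : Cocycle (resL X U) (resR X U) (resL Y V) (resR Y V) R :=
    { h := h
      c := c
      rel := fun i j a b => rel_of_transition hU2 hV2 t htg η (fun p p' => transition_res (hη p p') le_rfl) hXW hYW h c hh hc i j a b }
  -- it is one modulo the maximal ideal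
  -- and a coboundary on the axes
  have hax : ηc.IsTrivialOnAxes (evUnit x hi₀) (evUnit y ha₀) :=
    ⟨exists_slice_units (U := U) (lift (𝟙 X) (toUnit X ≫ y)).left hX (fun i => t (i, a₀))
      (fun i => htg (i, a₀)) (fun i => le_lift_id_toUnit y ha₀) (fun i j => toBox (U i ⊓ U j) (V a₀))
      (fun i j => cutB (evUnit y ha₀) _) (fun i j => le_lift_id_toUnit y ha₀)
      (fun i j => hXW i j a₀) (fun i j => toBox_sliceB y ha₀ _) (h a₀) (fun i j => η (i, a₀) (j, a₀))
      (fun i j => hh a₀ i j) (fun i j => transition_res (hη (i, a₀) (j, a₀)) (hXW i j a₀)),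
    exists_slice_units (U := V) (lift (toUnit Y ≫ x) (𝟙 Y)).left hY (fun a => t (i₀, a))
      (fun a => htg (i₀, a)) (fun a => le_lift_toUnit_id x hi₀) (fun a b => toBox (U i₀) (V a ⊓ V b))
      (fun a b => cutA (evUnit x hi₀) _) (fun a b => le_lift_toUnit_id x hi₀)
      (fun a b => hYW i₀ a b) (fun a b => toBox_sliceA x hi₀ _) (c i₀) (fun a b => η (i₀, a) (i₀, b))
      (fun a b => hc i₀ a b) (fun a b => transition_res (hη (i₀, a) (i₀, b)) (hYW i₀ a b))⟩
  obtain ⟨u, hu, huh, huc⟩ := Cocycle.isTrivial_of_artinian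
    (isConstFam_of_closed (exists_const_of_bc (IsPullback.of_hasPullback X.hom _) hXK U hU hUc))
    (isConstFam_of_closed (exists_const_of_bc (IsPullback.of_hasPullback Y.hom _) hYK V hV hVc)) ηc hax
    (fun a i j => coef_eq_one H (hU2 i j) (hV a) _ ((congrArg _ (hh a i j)).trans (app_transition g hσ (ht (i, a)) (ht (j, a)) (hη (i, a) (j, a)) (hXW i j a))))
    (fun i a b => coef_eq_one H (hU i) (hV2 a b) _ ((congrArg _ (hc i a b)).trans (app_transition g hσ (ht (i, a)) (ht (i, b)) (hη (i, a) (i, b)) (hYW i a b))))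
  -- glue a global generator
  have hcov : ⊤ ≤ ⨆ p : Fin n × Fin m, box X Y (U p.1) (V p.2) := fun z _ => by
    obtain ⟨i, hi⟩ := Opens.mem_iSup.1 (hUc (show (fst X Y).left z ∈ (⊤ : X.left.Opens) from trivial))
    obtain ⟨a, ha⟩ := Opens.mem_iSup.1 (hVc (show (snd X Y).left z ∈ (⊤ : Y.left.Opens) from trivial))
    exact Opens.mem_iSup.2 ⟨(i, a), hi, ha⟩
  let b : ∀ p : Fin n × Fin m, Γ((X ⊗ Y).left, box X Y (U p.1) (V p.2)) := fun p =>
    toBox (U p.1) (V p.2) (u p.1 p.2)
  have hb : ∀ p, IsUnit (b p) := fun p => (hu p.1 p.2).map _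
  have hbh : ∀ a i j, resX _ (hXW i j a) (η (i, a) (j, a)) *
      resX _ (box_mono inf_le_left le_rfl) (b (i, a)) =
      resX _ (box_mono inf_le_right le_rfl) (b (j, a)) := by
    intro a i j
    have e := congrArg (toBox (U i ⊓ U j) (V a)) (huh a i j)
    rw [map_mul, toBox_bcL, toBox_bcL, hh] at e
    exact e
  have hbc : ∀ i a b', resX _ (hYW i a b') (η (i, a) (i, b')) *
      resX _ (box_mono le_rfl inf_le_left) (b (i, a)) =
      resX _ (box_mono le_rfl inf_le_right) (b (i, b')) := by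
    intro i a b'
    have e := congrArg (toBox (U i) (V a ⊓ V b')) (huc i a b')
    rw [map_mul, toBox_bcR, toBox_bcR, hc] at e
    exact e
  exact trivial_of_coboundary (fun i a => box X Y (U i) (V a)) (fun i a => t (i, a))
    (fun i a => htg (i, a)) (fun i a j b' => η (i, a) (j, b')) (fun i a j b' => transition_res (hη (i, a) (j, b')) le_rfl)
    (fun i j a => box X Y (U i ⊓ U j) (V a)) (fun i a b' => box X Y (U i) (V a ⊓ V b'))
    hXW hYW (fun i j a b' => (box_inf _ _ _ _).le.trans (le_inf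
      (box_mono le_rfl inf_le_right) (box_mono inf_le_left le_rfl)))
    (fun i a => b (i, a)) (fun i a => hb (i, a)) (fun a i j => hbh a i j) hbc hcov

/-- The theorem of the cube over an Artinian local ring. -/
theorem trivial_of_artinian [IsLocalRing R] [IsArtinianRing R]
    [IsProper X.hom] [Flat X.hom] [LocallyOfFinitePresentation X.hom]
    [GeometricallyReduced X.hom] [GeometricallyConnected X.hom]
    [IsProper Y.hom] [Flat Y.hom] [LocallyOfFinitePresentation Y.hom]
    [GeometricallyReduced Y.hom] [GeometricallyConnected Y.hom]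
    (x : 𝟙_ (Over (Spec (CommRingCat.of R))) ⟶ X) (y : 𝟙_ (Over (Spec (CommRingCat.of R))) ⟶ Y)
    (L : (X ⊗ Y).left.Modules) (hL : PicF.IsInvertible L)
    (hX : Nonempty ((Scheme.Modules.pullback (lift (𝟙 X) (toUnit X ≫ y)).left).obj L ≅
      Coh.structureModule X.left))
    (hY : Nonempty ((Scheme.Modules.pullback (lift (toUnit Y ≫ x) (𝟙 Y)).left).obj L ≅
      Coh.structureModule Y.left))
    {PK : Scheme.{u}} {g : PK ⟶ (X ⊗ Y).left}
    {q : PK ⟶ Spec (CommRingCat.of (R ⧸ IsLocalRing.maximalIdeal R))}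
    (H : IsPullback g q (X ⊗ Y).hom
      (Spec.map (CommRingCat.ofHom (algebraMap R (R ⧸ IsLocalRing.maximalIdeal R)))))
    (hK : Nonempty ((Scheme.Modules.pullback g).obj L ≅ Coh.structureModule PK)) :
    Nonempty (L ≅ Coh.structureModule (X ⊗ Y).left) :=
  let b := Spec.map (CommRingCat.ofHom (algebraMap R (R ⧸ IsLocalRing.maximalIdeal R)))
  trivial_of_artinian' x y L hL hX hY
    ((GrpschAbsch.H0General.appTop_bijective (pullback.snd X.hom b)).comp
      (ConcreteCategory.bijective_of_isIso (Scheme.ΓSpecIso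
        (CommRingCat.of (R ⧸ IsLocalRing.maximalIdeal R))).inv))
    ((GrpschAbsch.H0General.appTop_bijective (pullback.snd Y.hom b)).comp
      (ConcreteCategory.bijective_of_isIso (Scheme.ΓSpecIso
        (CommRingCat.of (R ⧸ IsLocalRing.maximalIdeal R))).inv))
    H hK

end Groth.Abvar.Cube
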