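import Groth.Agent.AlgGrp1.Geom

/-!
# Fibres of abelian schemes

A group scheme, proper and locally of finite type, with geometrically reduced and geometrically
connected fibres has geometrically integral fibres.
-/

universe u

open CategoryTheory Limits MonoidalCategory CartesianMonoidalCategory MonObj AlgebraicGeometry

namespace Groth.Abvar.Cube

variable {S : Scheme.{u}}

/-- The fibres of a group scheme with connected fibres are geometrically irreducible. -/
theorem geometricallyIrreducible_of_grpObj (X : Over S) [GrpObj X] [LocallyOfFiniteType X.hom]
    [QuasiCompact X.hom] [GeometricallyConnected X.hom] : GeometricallyIrreducible X.hom := by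
  refine (GeometricallyIrreducible.iff_geometricallyIrreducible_fiber X.hom).2 fun s => ?_
  let b : Spec (CommRingCat.of (S.residueField s)) ⟶ S := S.fromSpecResidueField s
  let : GrpObj (Over.mk X.hom) := ‹GrpObj X›
  let : GrpObj (Over.mk (pullback.snd X.hom b)) := Over.grpObjMkPullbackSnd
  have : LocallyOfFiniteType (Over.mk (pullback.snd X.hom b)).hom :=
    inferInstanceAs (LocallyOfFiniteType (pullback.snd _ _))
  have : QuasiCompact (Over.mk (pullback.snd X.hom b)).hom :=
    inferInstanceAs (QuasiCompact (pullback.snd _ _))
  have : ConnectedSpace (Over.mk (pullback.snd X.hom b)).left :=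
    inferInstanceAs (ConnectedSpace (X.hom.fiber s))
  exact AlgGrp1.geometricallyIrreducible_of_connected (Over.mk (pullback.snd X.hom b))

/-- An abelian scheme has geometrically integral fibres. -/
theorem geometricallyIntegral_of_grpObj (X : Over S) [GrpObj X] [LocallyOfFiniteType X.hom]
    [QuasiCompact X.hom] [GeometricallyReduced X.hom] [GeometricallyConnected X.hom] :
    GeometricallyIntegral X.hom :=
  have := geometricallyIrreducible_of_grpObj X
  GeometricallyIntegral.of_geometricallyReduced_of_geometricallyIrreducible X.hom

end Groth.Abvar.Cube
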