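import Groth.Agent.Abvar.Cube.Base
import Groth.Agent.Abvar.PicCalc
import Groth.Agent.PicAux.LimitInv
import Groth.Agent.SpectralTopology.NoethSystem
import Groth.Agent.S0591
import Groth.Agent.S2074
import Groth.Agent.S2075

/-!
# Triviality near a fibre over an arbitrary base

A module on the product of two proper flat schemes of finite presentation over any base, trivial on
the slices through two sections, is trivial near every fibre where it is trivial and functions are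
constant: everything descends to a Noetherian base.
-/

universe u

open CategoryTheory Limits MonoidalCategory CartesianMonoidalCategory AlgebraicGeometry
  TopologicalSpace

namespace Groth.Abvar.Cube

open Seesaw PicCalc
open Groth.PicAux (Gen)
open Groth.SpectralTopology (fgSchemes fgCone isLimitFgCone)

variable {R : CommRingCat.{u}}

section stage

variable {i j : (SpectralTopology.FGSub R)ᵒᵖ} (φ : j ⟶ i)

instance : IsCofiltered (SpectralTopology.FGSub R)ᵒᵖ := inferInstance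

/-- A base change of a family over a later stage. -/
theorem exists_stage_bump {X : Scheme.{u}} {f : X ⟶ (fgCone R).pt} {X₀ : Scheme.{u}}
    {f₀ : X₀ ⟶ (fgSchemes R).obj i} {g : X ⟶ X₀}
    (h : IsPullback g f f₀ ((fgCone R).π.app i)) :
    ∃ (g' : X ⟶ pullback f₀ ((fgSchemes R).map φ)),
      IsPullback g' f (pullback.snd f₀ ((fgSchemes R).map φ)) ((fgCone R).π.app j) ∧
      g' ≫ pullback.fst _ _ = g := by
  have sq := IsPullback.of_hasPullback f₀ ((fgSchemes R).map φ)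
  let g' := sq.lift g (f ≫ (fgCone R).π.app j) (by rw [Category.assoc, (fgCone R).w]; exact h.w)
  refine ⟨g', IsPullback.of_right ?_ (sq.lift_snd _ _ _) sq, sq.lift_fst _ _ _⟩
  rw [sq.lift_fst, (fgCone R).w]
  exact h

end stage

/-- A proper flat family of finite presentation comes from a stage. -/
theorem exists_stage_family {X : Scheme.{u}} (f : X ⟶ (fgCone R).pt) [IsProper f] [Flat f]
    [LocallyOfFinitePresentation f] :
    ∃ (i : (SpectralTopology.FGSub R)ᵒᵖ) (X₀ : Scheme.{u}) (f₀ : X₀ ⟶ (fgSchemes R).obj i)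
      (g : X ⟶ X₀), IsPullback g f f₀ ((fgCone R).π.app i) ∧ IsProper f₀ ∧ Flat f₀ := by
  have hc := isLimitFgCone R
  obtain ⟨i, X₀, f₀, g, hlfp, hqc, hqs, sq⟩ :=
    Groth.Agent.S0591.result (fgSchemes R) (fgCone R) hc X f
  have : CompactSpace X₀ := QuasiCompact.compactSpace_of_compactSpace f₀
  have : QuasiSeparatedSpace X₀ := quasiSeparatedSpace_of_quasiSeparated f₀
  have hY : IsPullback ((fgCone R).π.app i) (𝟙 _) (𝟙 ((fgSchemes R).obj i))
      ((fgCone R).π.app i) := IsPullback.of_vert_isIso ⟨by simp⟩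
  obtain ⟨i₁, φ, X₁, Y₁, f₁, g₁, pY, pX, hY₁, hX₁, hp⟩ := Groth.Agent.S2074.result (fgSchemes R)
    (fgCone R) hc i f₀ (𝟙 _) f (𝟙 _) _ g hY sq
  have : IsIso g₁ := hY₁.isIso_snd_of_isIso
  let f₁' := f₁ ≫ g₁
  have hp₁ : IsProper f₁' := inferInstanceAs (IsProper (_ ≫ _))
  have hpY : pY = g₁ ≫ (fgSchemes R).map φ := by simpa using hY₁.w
  have sq₁ : IsPullback pX f₁' f₀ ((fgSchemes R).map φ) :=
    hX₁.of_iso (Iso.refl _) (Iso.refl _) (asIso g₁) (Iso.refl _) (by simp) (by simp [f₁'])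
      (by simp) (by simp [hpY])
  let gX₁ : X ⟶ X₁ := sq₁.lift g (f ≫ (fgCone R).π.app i₁)
    (by rw [Category.assoc, (fgCone R).w]; exact sq.w)
  have sqX₁ : IsPullback gX₁ f f₁' ((fgCone R).π.app i₁) :=
    IsPullback.of_right (by rw [sq₁.lift_fst, (fgCone R).w]; exact sq) (sq₁.lift_snd _ _ _) sq₁
  have : LocallyOfFinitePresentation f₁' := MorphismProperty.of_isPullback sq₁ hlfp
  have : CompactSpace X₁ := QuasiCompact.compactSpace_of_compactSpace f₁'
  have : QuasiSeparatedSpace X₁ := quasiSeparatedSpace_of_quasiSeparated f₁'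
  have hY' : IsPullback ((fgCone R).π.app i₁) (𝟙 _) (𝟙 ((fgSchemes R).obj i₁))
      ((fgCone R).π.app i₁) := IsPullback.of_vert_isIso ⟨by simp⟩
  obtain ⟨i₂, ψ, X₂, Y₂, f₂, g₂, pY', pX', hY₂, hX₂, hf⟩ := Groth.Agent.S2075.result (fgSchemes R)
    (fgCone R) hc i₁ f₁' (𝟙 _) f (𝟙 _) _ gX₁ hY' sqX₁
  have : IsIso g₂ := hY₂.isIso_snd_of_isIso
  let f₂' := f₂ ≫ g₂
  have hpY' : pY' = g₂ ≫ (fgSchemes R).map ψ := by simpa using hY₂.w
  have sq₂ : IsPullback pX' f₂' f₁' ((fgSchemes R).map ψ) :=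
    hX₂.of_iso (Iso.refl _) (Iso.refl _) (asIso g₂) (Iso.refl _) (by simp) (by simp [f₂'])
      (by simp) (by simp [hpY'])
  have hp₂ : IsProper f₂' := MorphismProperty.of_isPullback sq₂ hp₁
  let gX₂ : X ⟶ X₂ := sq₂.lift gX₁ (f ≫ (fgCone R).π.app i₂)
    (by rw [Category.assoc, (fgCone R).w]; exact sqX₁.w)
  exact ⟨i₂, X₂, f₂', gX₂,
    IsPullback.of_right (by rw [sq₂.lift_fst, (fgCone R).w]; exact sqX₁) (sq₂.lift_snd _ _ _) sq₂,
    hp₂, inferInstanceAs (Flat (_ ≫ _))⟩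

/-- A section of a family comes from a stage. -/
theorem exists_stage_section {i : (SpectralTopology.FGSub R)ᵒᵖ} {X₀ : Scheme.{u}}
    (f₀ : X₀ ⟶ (fgSchemes R).obj i) [LocallyOfFinitePresentation f₀]
    (a : (fgCone R).pt ⟶ X₀) (ha : a ≫ f₀ = (fgCone R).π.app i) :
    ∃ (j : (SpectralTopology.FGSub R)ᵒᵖ) (φ : j ⟶ i) (a₀ : (fgSchemes R).obj j ⟶ X₀),
      a₀ ≫ f₀ = (fgSchemes R).map φ ∧ (fgCone R).π.app j ≫ a₀ = a := by
  have hc := (Functor.Initial.isLimitWhiskerEquiv (Over.forget i) (fgCone R)).symm (isLimitFgCone R)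
  have : ∀ k : Over i, CompactSpace ((Over.forget i ⋙ fgSchemes R).obj k) := fun k =>
    inferInstanceAs (CompactSpace ((fgSchemes R).obj k.left))
  have : ∀ k : Over i, QuasiSeparatedSpace ((Over.forget i ⋙ fgSchemes R).obj k) := fun k =>
    inferInstanceAs (QuasiSeparatedSpace ((fgSchemes R).obj k.left))
  obtain ⟨k, a₀, h1, h2⟩ := Scheme.exists_π_app_comp_eq_of_locallyOfFinitePresentation
    (Over.forget i ⋙ fgSchemes R) (Groth.Limits.overTrans (fgSchemes R) i) f₀ _ hc a (by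
      ext k : 2
      show (fgCone R).π.app k.left ≫ (fgSchemes R).map k.hom = a ≫ f₀
      rw [(fgCone R).w, ha])
  exact ⟨k.left, k.hom, a₀, h2, h1⟩

/-- A pair of pointed proper flat families of finite presentation is the base change of a pair over a
stage. -/
theorem exists_stage_pair {X Y : Over (Spec R)} [IsProper X.hom] [Flat X.hom]
    [LocallyOfFinitePresentation X.hom] [IsProper Y.hom] [Flat Y.hom]
    [LocallyOfFinitePresentation Y.hom]
    (x : 𝟙_ (Over (Spec R)) ⟶ X) (y : 𝟙_ (Over (Spec R)) ⟶ Y) :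
    ∃ (i : (SpectralTopology.FGSub R)ᵒᵖ) (X₀ Y₀ : Over ((fgSchemes R).obj i))
      (_ : IsProper X₀.hom) (_ : Flat X₀.hom) (_ : IsProper Y₀.hom) (_ : Flat Y₀.hom)
      (x₀ : 𝟙_ (Over ((fgSchemes R).obj i)) ⟶ X₀) (y₀ : 𝟙_ (Over ((fgSchemes R).obj i)) ⟶ Y₀)
      (gX : X.left ⟶ X₀.left) (gY : Y.left ⟶ Y₀.left),
      IsPullback gX X.hom X₀.hom ((fgCone R).π.app i) ∧
      IsPullback gY Y.hom Y₀.hom ((fgCone R).π.app i) ∧
      x.left ≫ gX = (fgCone R).π.app i ≫ x₀.left ∧
      y.left ≫ gY = (fgCone R).π.app i ≫ y₀.left := by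
  have : IsProper (Y := (fgCone R).pt) X.hom := ‹_›
  have : Flat (Y := (fgCone R).pt) X.hom := ‹_›
  have : LocallyOfFinitePresentation (Y := (fgCone R).pt) X.hom := ‹_›
  have : IsProper (Y := (fgCone R).pt) Y.hom := ‹_›
  have : Flat (Y := (fgCone R).pt) Y.hom := ‹_›
  have : LocallyOfFinitePresentation (Y := (fgCone R).pt) Y.hom := ‹_›
  obtain ⟨i₁, X₁, f₁, g₁, hX₁, hp₁, hf₁⟩ := exists_stage_family (R := R) X.hom
  obtain ⟨i₂, Y₂, f₂, g₂, hY₂, hp₂, hf₂⟩ := exists_stage_family (R := R) Y.hom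
  have : LocallyOfFinitePresentation f₁ :=
    Seesaw.locallyOfFinitePresentation_of_isNoetherian f₁
  have : LocallyOfFinitePresentation f₂ :=
    Seesaw.locallyOfFinitePresentation_of_isNoetherian f₂
  obtain ⟨j₁, φ₁, a₁, ha₁, ha₁'⟩ := exists_stage_section f₁ (x.left ≫ g₁) (by
    rw [Category.assoc, hX₁.w, ← Category.assoc]
    exact (congrArg (· ≫ (fgCone R).π.app i₁) (Over.w x)).trans (Category.id_comp _))
  obtain ⟨j₂, φ₂, a₂, ha₂, ha₂'⟩ := exists_stage_section f₂ (y.left ≫ g₂) (by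
    rw [Category.assoc, hY₂.w, ← Category.assoc]
    exact (congrArg (· ≫ (fgCone R).π.app i₂) (Over.w y)).trans (Category.id_comp _))
  let j := IsCofiltered.min j₁ j₂
  let ψ₁ : j ⟶ j₁ := IsCofiltered.minToLeft j₁ j₂
  let ψ₂ : j ⟶ j₂ := IsCofiltered.minToRight j₁ j₂
  obtain ⟨gX, hgX, hgX'⟩ := exists_stage_bump (ψ₁ ≫ φ₁) hX₁
  obtain ⟨gY, hgY, hgY'⟩ := exists_stage_bump (ψ₂ ≫ φ₂) hY₂
  have e₁ : ((fgSchemes R).map ψ₁ ≫ a₁) ≫ f₁ = 𝟙 _ ≫ (fgSchemes R).map (ψ₁ ≫ φ₁) := by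
    rw [Category.assoc, ha₁, Category.id_comp, Functor.map_comp]
  have e₂ : ((fgSchemes R).map ψ₂ ≫ a₂) ≫ f₂ = 𝟙 _ ≫ (fgSchemes R).map (ψ₂ ≫ φ₂) := by
    rw [Category.assoc, ha₂, Category.id_comp, Functor.map_comp]
  let X₀ : Over ((fgSchemes R).obj j) := Over.mk (pullback.snd f₁ ((fgSchemes R).map (ψ₁ ≫ φ₁)))
  let Y₀ : Over ((fgSchemes R).obj j) := Over.mk (pullback.snd f₂ ((fgSchemes R).map (ψ₂ ≫ φ₂)))
  refine ⟨j, X₀, Y₀, inferInstanceAs (IsProper (pullback.snd _ _)),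
    inferInstanceAs (Flat (pullback.snd _ _)), inferInstanceAs (IsProper (pullback.snd _ _)),
    inferInstanceAs (Flat (pullback.snd _ _)),
    Over.homMk (pullback.lift _ _ e₁) (pullback.lift_snd _ _ _),
    Over.homMk (pullback.lift _ _ e₂) (pullback.lift_snd _ _ _), gX, gY, hgX, hgY, ?_, ?_⟩
  · refine (IsPullback.of_hasPullback f₁ _).hom_ext ?_ ?_
    · exact (Category.assoc _ _ _).trans ((congrArg (x.left ≫ ·) hgX').trans (ha₁'.symm.trans
        ((congrArg (· ≫ a₁) ((fgCone R).w ψ₁).symm).trans ((Category.assoc _ _ _).trans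
          ((congrArg ((fgCone R).π.app j ≫ ·) (pullback.lift_fst _ _ e₁).symm).trans
            (Category.assoc _ _ _).symm)))))
    · exact (Category.assoc _ _ _).trans ((congrArg (x.left ≫ ·) hgX.w).trans
        ((Category.assoc _ _ _).symm.trans ((congrArg (· ≫ (fgCone R).π.app j) (Over.w x)).trans
          ((Category.id_comp _).trans ((Category.comp_id _).symm.trans
            ((congrArg ((fgCone R).π.app j ≫ ·) (pullback.lift_snd _ _ e₁).symm).trans
              (Category.assoc _ _ _).symm))))))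
  · refine (IsPullback.of_hasPullback f₂ _).hom_ext ?_ ?_
    · exact (Category.assoc _ _ _).trans ((congrArg (y.left ≫ ·) hgY').trans (ha₂'.symm.trans
        ((congrArg (· ≫ a₂) ((fgCone R).w ψ₂).symm).trans ((Category.assoc _ _ _).trans
          ((congrArg ((fgCone R).π.app j ≫ ·) (pullback.lift_fst _ _ e₂).symm).trans
            (Category.assoc _ _ _).symm)))))
    · exact (Category.assoc _ _ _).trans ((congrArg (y.left ≫ ·) hgY.w).trans
        ((Category.assoc _ _ _).symm.trans ((congrArg (· ≫ (fgCone R).π.app j) (Over.w y)).trans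
          ((Category.id_comp _).trans ((Category.comp_id _).symm.trans
            ((congrArg ((fgCone R).π.app j ≫ ·) (pullback.lift_snd _ _ e₂).symm).trans
              (Category.assoc _ _ _).symm))))))

end Groth.Abvar.Cube
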