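import Groth.Agent.Abvar.Cube.Connected
import Groth.Agent.Abvar.Seesaw.FieldDescent

/-!
# The theorem of the cube over a locally Noetherian base

For proper flat schemes with geometrically integral fibres over a locally Noetherian scheme, an
invertible module on a triple product trivial on the three slices through sections is trivial.
-/

universe u

open CategoryTheory Limits MonoidalCategory CartesianMonoidalCategory AlgebraicGeometry
  TopologicalSpace

namespace Groth.Abvar.Cube

open Seesaw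
open Groth.PicAux (Gen)

variable {S B : Scheme.{u}} {a : B ⟶ S}

/-- Base change of a product. -/
theorem isPullback_tensor {X Y : Over S} {X' Y' : Over B} {gX : X'.left ⟶ X.left}
    {gY : Y'.left ⟶ Y.left} (hX : IsPullback gX X'.hom X.hom a)
    (hY : IsPullback gY Y'.hom Y.hom a) :
    ∃ h : (X' ⊗ Y').left ⟶ (X ⊗ Y).left,
      h ≫ (fst X Y).left = (fst X' Y').left ≫ gX ∧
      h ≫ (snd X Y).left = (snd X' Y').left ≫ gY ∧
      IsPullback h (X' ⊗ Y').hom (X ⊗ Y).hom a := by
  have hXY : IsPullback (fst X Y).left (snd X Y).left X.hom Y.hom :=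
    IsPullback.of_hasPullback _ _
  have hC : IsPullback (fst X' Y').left (snd X' Y').left X'.hom Y'.hom :=
    IsPullback.of_hasPullback _ _
  have h1 : IsPullback ((fst X' Y').left ≫ gX) (snd X' Y').left X.hom (gY ≫ Y.hom) := by
    rw [hY.w]
    exact hC.paste_horiz hX
  let h := hXY.lift ((fst X' Y').left ≫ gX) ((snd X' Y').left ≫ gY)
    (by rw [Category.assoc _ gY]; exact h1.w)
  refine ⟨h, hXY.lift_fst _ _ _, hXY.lift_snd _ _ _, ?_⟩
  have h2 : IsPullback h (snd X' Y').left (snd X Y).left gY :=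
    IsPullback.of_right (by rw [hXY.lift_fst]; exact h1) (hXY.lift_snd _ _ _) hXY
  have h3 := h2.paste_vert hY
  rw [Over.w (snd X Y), Over.w (snd X' Y')] at h3
  exact h3

/-- Pairs of compatible morphisms. -/
theorem lift_compat {T X Y : Over S} {T' X' Y' : Over B} {gT : T'.left ⟶ T.left}
    {gX : X'.left ⟶ X.left} {gY : Y'.left ⟶ Y.left} {h : (X' ⊗ Y').left ⟶ (X ⊗ Y).left}
    (h1 : h ≫ (fst X Y).left = (fst X' Y').left ≫ gX)
    (h2 : h ≫ (snd X Y).left = (snd X' Y').left ≫ gY)
    {f' : T' ⟶ X'} {g' : T' ⟶ Y'} {f : T ⟶ X} {g : T ⟶ Y}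
    (ef : f'.left ≫ gX = gT ≫ f.left) (eg : g'.left ≫ gY = gT ≫ g.left) :
    (lift f' g').left ≫ h = gT ≫ (lift f g).left := by
  have a1 : (lift f' g').left ≫ (fst X' Y').left = f'.left := congrArg Over.Hom.left (lift_fst f' g')
  have a2 : (lift f' g').left ≫ (snd X' Y').left = g'.left := congrArg Over.Hom.left (lift_snd f' g')
  have b1 : (lift f g).left ≫ (fst X Y).left = f.left := congrArg Over.Hom.left (lift_fst f g)
  have b2 : (lift f g).left ≫ (snd X Y).left = g.left := congrArg Over.Hom.left (lift_snd f g)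
  refine (IsPullback.of_hasPullback X.hom Y.hom).hom_ext ?_ ?_
  · change _ ≫ (fst X Y).left = _ ≫ (fst X Y).left
    rw [Category.assoc, Category.assoc, h1, b1, ← Category.assoc, a1]
    exact ef
  · change _ ≫ (snd X Y).left = _ ≫ (snd X Y).left
    rw [Category.assoc, Category.assoc, h2, b2, ← Category.assoc, a2]
    exact eg

/-- A constant morphism and its base change. -/
theorem toUnit_compat {T X : Over S} {T' X' : Over B} {gT : T'.left ⟶ T.left}
    {gX : X'.left ⟶ X.left} (hT : gT ≫ T.hom = T'.hom ≫ a) (x : 𝟙_ (Over S) ⟶ X)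
    (x' : 𝟙_ (Over B) ⟶ X') (hx : x'.left ≫ gX = a ≫ x.left) :
    (toUnit T' ≫ x').left ≫ gX = gT ≫ (toUnit T ≫ x).left := by
  rw [Over.comp_left, Over.comp_left, Over.toUnit_left, Over.toUnit_left, Category.assoc, hx,
    ← Category.assoc gT, hT]
  exact (Category.assoc _ _ _).symm

/-- The base change of a section. -/
theorem exists_section {X : Over S} {X' : Over B} {gX : X'.left ⟶ X.left}
    (hX : IsPullback gX X'.hom X.hom a) (x : 𝟙_ (Over S) ⟶ X) :
    ∃ x' : 𝟙_ (Over B) ⟶ X', x'.left ≫ gX = a ≫ x.left :=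
  ⟨Over.homMk (hX.lift (a ≫ x.left) (𝟙 B) (by
      rw [Category.assoc, Over.w x]
      exact (Category.comp_id a).trans (Category.id_comp a).symm)) (hX.lift_snd _ _ _),
    hX.lift_fst _ _ _⟩

/-- A module trivial on two slices is trivial on the Artinian thickenings of a fibre where it is
trivial. -/
theorem trivial_thickening_base {X Y : Over S} [IsProper X.hom] [Flat X.hom]
    [IsProper Y.hom] [Flat Y.hom]
    (x : 𝟙_ (Over S) ⟶ X) (y : 𝟙_ (Over S) ⟶ Y) (L : (X ⊗ Y).left.Modules)
    (hL : PicF.IsInvertible L)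
    (hX : Nonempty ((Scheme.Modules.pullback (lift (𝟙 X) (toUnit X ≫ y)).left).obj L ≅
      Coh.structureModule X.left))
    (hY : Nonempty ((Scheme.Modules.pullback (lift (toUnit Y ≫ x) (𝟙 Y)).left).obj L ≅
      Coh.structureModule Y.left))
    {C : Type u} [CommRing C] [IsLocalRing C] [IsArtinianRing C]
    (c : Spec (CommRingCat.of C) ⟶ S) (ht : FibTriv (X ⊗ Y).hom L (c (IsLocalRing.closedPoint C)))
    (h0X : H0Const X.hom (c (IsLocalRing.closedPoint C)))
    (h0Y : H0Const Y.hom (c (IsLocalRing.closedPoint C)))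
    {W : Scheme.{u}} {g : W ⟶ (X ⊗ Y).left} {q : W ⟶ Spec (CommRingCat.of C)}
    (H : IsPullback g q (X ⊗ Y).hom c) :
    Nonempty ((Scheme.Modules.pullback g).obj L ≅ Coh.structureModule W) := by
  let XC := Over.mk (pullback.snd X.hom c)
  let YC := Over.mk (pullback.snd Y.hom c)
  have hXC : IsPullback (pullback.fst X.hom c) XC.hom X.hom c := IsPullback.of_hasPullback _ _
  have hYC : IsPullback (pullback.fst Y.hom c) YC.hom Y.hom c := IsPullback.of_hasPullback _ _
  obtain ⟨h', h1, h2, hh'⟩ := isPullback_tensor (X' := XC) (Y' := YC) hXC hYC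
  refine trivial_of_factor (hh'.lift g q H.w) (hh'.lift_fst _ _ _) ?_
  obtain ⟨xC, hxC⟩ := exists_section (X' := XC) hXC x
  obtain ⟨yC, hyC⟩ := exists_section (X' := YC) hYC y
  have : IsProper XC.hom := inferInstanceAs (IsProper (pullback.snd _ _))
  have : IsProper YC.hom := inferInstanceAs (IsProper (pullback.snd _ _))
  have : Flat XC.hom := inferInstanceAs (Flat (pullback.snd _ _))
  have : Flat YC.hom := inferInstanceAs (Flat (pullback.snd _ _))
  have hXs : Nonempty ((Scheme.Modules.pullback (lift (𝟙 XC) (toUnit XC ≫ yC)).left).obj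
      ((Scheme.Modules.pullback h').obj L) ≅ Coh.structureModule XC.left) := by
    obtain ⟨i⟩ := trivial_of_factor (g' := (lift (𝟙 XC) (toUnit XC ≫ yC)).left ≫ h')
      (pullback.fst X.hom c) (lift_compat h1 h2
        (show (𝟙 XC : XC ⟶ XC).left ≫ pullback.fst X.hom c =
            pullback.fst X.hom c ≫ (𝟙 X : X ⟶ X).left from
          (Category.id_comp _).trans (Category.comp_id _).symm)
        (toUnit_compat hXC.w y yC hyC)).symm hX
    exact ⟨(Scheme.Modules.pullbackComp _ h').app L ≪≫ i⟩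
  have hYs : Nonempty ((Scheme.Modules.pullback (lift (toUnit YC ≫ xC) (𝟙 YC)).left).obj
      ((Scheme.Modules.pullback h').obj L) ≅ Coh.structureModule YC.left) := by
    obtain ⟨i⟩ := trivial_of_factor (g' := (lift (toUnit YC ≫ xC) (𝟙 YC)).left ≫ h')
      (pullback.fst Y.hom c) (lift_compat h1 h2 (toUnit_compat hYC.w x xC hxC)
        (show (𝟙 YC : YC ⟶ YC).left ≫ pullback.fst Y.hom c =
            pullback.fst Y.hom c ≫ (𝟙 Y : Y ⟶ Y).left from
          (Category.id_comp _).trans (Category.comp_id _).symm)).symm hY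
    exact ⟨(Scheme.Modules.pullbackComp _ h').app L ≪≫ i⟩
  let K := C ⧸ IsLocalRing.maximalIdeal C
  let sK := Spec.map (CommRingCat.ofHom (algebraMap C K))
  let _ : Field K := Ideal.Quotient.field (IsLocalRing.maximalIdeal C)
  have hp : (sK ≫ c) (IsLocalRing.closedPoint K) = c (IsLocalRing.closedPoint C) := by
    rw [Scheme.Hom.comp_apply]
    refine congrArg c (PrimeSpectrum.ext ?_)
    show Ideal.comap (algebraMap C K) (IsLocalRing.maximalIdeal K) = IsLocalRing.maximalIdeal C
    rw [IsLocalRing.maximalIdeal_eq_bot]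
    exact Ideal.mk_ker
  have hK : Nonempty ((Scheme.Modules.pullback (pullback.fst (XC ⊗ YC).hom sK)).obj
      ((Scheme.Modules.pullback h').obj L) ≅ Coh.structureModule _) := by
    obtain ⟨i⟩ := trivial_of_fibTriv (K := K) (sK ≫ c) _ hp ht
      ((IsPullback.of_hasPullback (XC ⊗ YC).hom sK).paste_horiz hh')
    exact ⟨(Scheme.Modules.pullbackComp _ h').app L ≪≫ i⟩
  exact trivial_of_artinian' xC yC _ (PicAux.isInvertible_pullback _ hL) hXs hYs
    (toGlobal_bijective_of_h0Const (L := K) (sK ≫ c) _ hp h0X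
      ((IsPullback.of_hasPullback XC.hom sK).paste_horiz hXC))
    (toGlobal_bijective_of_h0Const (L := K) (sK ≫ c) _ hp h0Y
      ((IsPullback.of_hasPullback YC.hom sK).paste_horiz hYC))
    (IsPullback.of_hasPullback (XC ⊗ YC).hom sK) hK

/-- A module trivial on two slices is trivial near a fibre where it is trivial and functions are
constant. -/
theorem exists_gen_near_slices' [IsLocallyNoetherian S] {X Y : Over S} [IsProper X.hom] [Flat X.hom]
    [IsProper Y.hom] [Flat Y.hom]
    (x : 𝟙_ (Over S) ⟶ X) (y : 𝟙_ (Over S) ⟶ Y) (L : (X ⊗ Y).left.Modules)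
    (hL : PicF.IsInvertible L)
    (hX : Nonempty ((Scheme.Modules.pullback (lift (𝟙 X) (toUnit X ≫ y)).left).obj L ≅
      Coh.structureModule X.left))
    (hY : Nonempty ((Scheme.Modules.pullback (lift (toUnit Y ≫ x) (𝟙 Y)).left).obj L ≅
      Coh.structureModule Y.left))
    (s : S) (ht : FibTriv (X ⊗ Y).hom L s) (h0X : H0Const X.hom s) (h0Y : H0Const Y.hom s)
    (h0 : H0Const (X ⊗ Y).hom s) :
    ∃ U : S.Opens, s ∈ U ∧ ∃ σ, Gen L ((X ⊗ Y).hom ⁻¹ᵁ U) σ := by
  have sq : IsPullback (fst X Y).left (snd X Y).left X.hom Y.hom := IsPullback.of_hasPullback _ _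
  have : IsProper (snd X Y).left := MorphismProperty.of_isPullback sq ‹_›
  have : Flat (snd X Y).left := MorphismProperty.of_isPullback sq ‹_›
  have hw : (snd X Y).left ≫ Y.hom = (X ⊗ Y).hom := Over.w _
  have : IsProper (X ⊗ Y).hom := hw ▸ inferInstanceAs (IsProper (_ ≫ _))
  have : Flat (X ⊗ Y).hom := hw ▸ inferInstanceAs (Flat (_ ≫ _))
  obtain ⟨_, ⟨V, hV, rfl⟩, hsV, -⟩ :=
    S.isBasis_affineOpens.exists_subset_of_mem_open (Set.mem_univ s) isOpen_univ
  obtain ⟨w, rfl⟩ : s ∈ Set.range hV.fromSpec := by rw [hV.range_fromSpec]; exact hsV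
  have := noetherian_of_affineOpen hV
  have H1 := (fibTriv_restrict_iff (X ⊗ Y).hom hV L w).2 ht
  refine exists_gen_descend _ hV L (exists_gen_of_artinian (R := Γ(S, V))
    (pullback.snd (X ⊗ Y).hom hV.fromSpec) (PicAux.isInvertible_pullback _ hL) w
    (h0Const_restrict _ hV w h0) H1 fun n {W g q} H => ?_)
  let M := Localization.AtPrime w.asIdeal
  let I := IsLocalRing.maximalIdeal M ^ (n + 1)
  have hI : I ≠ ⊤ := fun h => (IsLocalRing.maximalIdeal.isMaximal M).ne_top
    (top_le_iff.1 (h.ge.trans (Ideal.pow_le_self n.succ_ne_zero)))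
  have : Nontrivial (M ⧸ I) := Ideal.Quotient.nontrivial_iff.2 hI
  have : IsLocalRing (M ⧸ I) :=
    IsLocalRing.of_surjective' (Ideal.Quotient.mk I) Ideal.Quotient.mk_surjective
  have : IsNoetherianRing M :=
    IsLocalization.isNoetherianRing w.asIdeal.primeCompl M inferInstance
  have hm : Ideal.comap (Ideal.Quotient.mk I) (IsLocalRing.maximalIdeal (M ⧸ I)) =
      IsLocalRing.maximalIdeal M :=
    IsLocalRing.eq_maximalIdeal (Ideal.comap_isMaximal_of_surjective (Ideal.Quotient.mk I)
      Ideal.Quotient.mk_surjective (K := IsLocalRing.maximalIdeal (M ⧸ I)))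
  have : IsArtinianRing (M ⧸ I) :=
    (isArtinianRing_iff_isNilpotent_maximalIdeal (M ⧸ I)).2 ⟨n + 1, by
      rw [← Ideal.map_comap_of_surjective (Ideal.Quotient.mk I) Ideal.Quotient.mk_surjective
          (IsLocalRing.maximalIdeal (M ⧸ I)), hm, ← Ideal.map_pow]
      exact Ideal.map_quotient_self I⟩
  let C := M ⧸ I
  let cR := Spec.map (CommRingCat.ofHom (algebraMap Γ(S, V) C))
  have hcp : cR (IsLocalRing.closedPoint C) = w := by
    refine PrimeSpectrum.ext ?_
    show Ideal.comap (algebraMap Γ(S, V) C) (IsLocalRing.maximalIdeal C) = w.asIdeal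
    rw [show algebraMap Γ(S, V) C = (Ideal.Quotient.mk I).comp (algebraMap Γ(S, V) M) from rfl,
      ← Ideal.comap_comap, hm]
    exact IsLocalization.AtPrime.under_maximalIdeal M w.asIdeal
  exact trivial_thickening_base x y L hL hX hY (cR ≫ hV.fromSpec)
    (by rw [Scheme.Hom.comp_apply, hcp]; exact ht)
    (by rw [Scheme.Hom.comp_apply, hcp]; exact h0X)
    (by rw [Scheme.Hom.comp_apply, hcp]; exact h0Y)
    (H.paste_horiz (IsPullback.of_hasPullback (X ⊗ Y).hom hV.fromSpec)) |>.map
    ((Scheme.Modules.pullbackComp g (pullback.fst (X ⊗ Y).hom hV.fromSpec)).app L ≪≫ ·)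

/-- A module trivial on two slices is trivial near every fibre of the base where it is trivial. -/
theorem exists_gen_near_slices [IsLocallyNoetherian S] {X Y : Over S} [IsProper X.hom] [Flat X.hom]
    [GeometricallyReduced X.hom] [GeometricallyConnected X.hom] [IsProper Y.hom] [Flat Y.hom]
    [GeometricallyReduced Y.hom] [GeometricallyConnected Y.hom]
    (x : 𝟙_ (Over S) ⟶ X) (y : 𝟙_ (Over S) ⟶ Y) (L : (X ⊗ Y).left.Modules)
    (hL : PicF.IsInvertible L)
    (hX : Nonempty ((Scheme.Modules.pullback (lift (𝟙 X) (toUnit X ≫ y)).left).obj L ≅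
      Coh.structureModule X.left))
    (hY : Nonempty ((Scheme.Modules.pullback (lift (toUnit Y ≫ x) (𝟙 Y)).left).obj L ≅
      Coh.structureModule Y.left))
    (s : S) (ht : FibTriv (X ⊗ Y).hom L s) :
    ∃ U : S.Opens, s ∈ U ∧ ∃ σ, Gen L ((X ⊗ Y).hom ⁻¹ᵁ U) σ := by
  have := locallyOfFinitePresentation_of_isNoetherian X.hom
  have := locallyOfFinitePresentation_of_isNoetherian Y.hom
  have sq : IsPullback (fst X Y).left (snd X Y).left X.hom Y.hom := IsPullback.of_hasPullback _ _
  have : IsProper (snd X Y).left := MorphismProperty.of_isPullback sq ‹_›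
  have : Flat (snd X Y).left := MorphismProperty.of_isPullback sq ‹_›
  have : LocallyOfFinitePresentation (snd X Y).left := MorphismProperty.of_isPullback sq ‹_›
  have : GeometricallyReduced (snd X Y).left := MorphismProperty.of_isPullback sq ‹_›
  have : GeometricallyConnected (snd X Y).left := MorphismProperty.of_isPullback sq ‹_›
  have hw : (snd X Y).left ≫ Y.hom = (X ⊗ Y).hom := Over.w _
  exact exists_gen_near_slices' x y L hL hX hY s ht (h0Const_of_geometrically _ _)
    (h0Const_of_geometrically _ _) (hw ▸ h0Const_comp (snd X Y).left Y.hom s)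

/-- The theorem of the cube over a locally Noetherian base. -/
theorem trivial_cube_base [IsLocallyNoetherian S] {X Y Z : Over S} [IsProper X.hom] [Flat X.hom]
    [GeometricallyIntegral X.hom] [IsProper Y.hom] [Flat Y.hom] [GeometricallyIntegral Y.hom]
    [IsProper Z.hom] [Flat Z.hom] [GeometricallyIntegral Z.hom]
    (x : 𝟙_ (Over S) ⟶ X) (y : 𝟙_ (Over S) ⟶ Y) (z : 𝟙_ (Over S) ⟶ Z)
    (L : (X ⊗ Y ⊗ Z).left.Modules) (hL : PicF.IsInvertible L)
    (hx : Nonempty ((Scheme.Modules.pullback (lift (toUnit (Y ⊗ Z) ≫ x) (𝟙 (Y ⊗ Z))).left).obj L ≅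
      Coh.structureModule (Y ⊗ Z).left))
    (hy : Nonempty ((Scheme.Modules.pullback
      (lift (fst X Z) (lift (toUnit (X ⊗ Z) ≫ y) (snd X Z))).left).obj L ≅
      Coh.structureModule (X ⊗ Z).left))
    (hz : Nonempty ((Scheme.Modules.pullback
      (lift (fst X Y) (lift (snd X Y) (toUnit (X ⊗ Y) ≫ z))).left).obj L ≅
      Coh.structureModule (X ⊗ Y).left)) :
    Nonempty (L ≅ Coh.structureModule (X ⊗ Y ⊗ Z).left) := by
  have sqY : IsPullback (fst Y Z).left (snd Y Z).left Y.hom Z.hom := IsPullback.of_hasPullback _ _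
  have sqX : IsPullback (fst X (Y ⊗ Z)).left (snd X (Y ⊗ Z)).left X.hom (Y ⊗ Z).hom :=
    IsPullback.of_hasPullback _ _
  have hwY : (snd Y Z).left ≫ Z.hom = (Y ⊗ Z).hom := Over.w _
  have hwX : (snd X (Y ⊗ Z)).left ≫ (Y ⊗ Z).hom = (X ⊗ Y ⊗ Z).hom := Over.w _
  have := locallyOfFinitePresentation_of_isNoetherian X.hom
  have := locallyOfFinitePresentation_of_isNoetherian Y.hom
  have : IsProper (snd Y Z).left := MorphismProperty.of_isPullback sqY ‹_›
  have : Flat (snd Y Z).left := MorphismProperty.of_isPullback sqY ‹_›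
  have : LocallyOfFinitePresentation (snd Y Z).left := MorphismProperty.of_isPullback sqY ‹_›
  have : GeometricallyIntegral (snd Y Z).left := MorphismProperty.of_isPullback sqY ‹_›
  have : UniversallyOpen (snd Y Z).left := inferInstance
  have : IsProper (Y ⊗ Z).hom := hwY ▸ inferInstanceAs (IsProper (_ ≫ _))
  have : Flat (Y ⊗ Z).hom := hwY ▸ inferInstanceAs (Flat (_ ≫ _))
  have : GeometricallyIntegral (Y ⊗ Z).hom := hwY ▸ geometricallyIntegral_comp (snd Y Z).left Z.hom
  have : IsProper (snd X (Y ⊗ Z)).left := MorphismProperty.of_isPullback sqX ‹_›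
  have : Flat (snd X (Y ⊗ Z)).left := MorphismProperty.of_isPullback sqX ‹_›
  have : LocallyOfFinitePresentation (snd X (Y ⊗ Z)).left := MorphismProperty.of_isPullback sqX ‹_›
  have : GeometricallyIntegral (snd X (Y ⊗ Z)).left := MorphismProperty.of_isPullback sqX ‹_›
  have : UniversallyOpen (snd X (Y ⊗ Z)).left := inferInstance
  have : IsProper (X ⊗ Y ⊗ Z).hom := hwX ▸ inferInstanceAs (IsProper (_ ≫ _))
  have : Flat (X ⊗ Y ⊗ Z).hom := hwX ▸ inferInstanceAs (Flat (_ ≫ _))
  have : GeometricallyIntegral (X ⊗ Y ⊗ Z).hom :=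
    hwX ▸ geometricallyIntegral_comp (snd X (Y ⊗ Z)).left (Y ⊗ Z).hom
  have := geometricallyConnected_of_integral X.hom
  have := geometricallyConnected_of_integral (Y ⊗ Z).hom
  have := geometricallyConnected_of_integral (X ⊗ Y ⊗ Z).hom
  have := locallyOfFinitePresentation_of_isNoetherian (X ⊗ Y ⊗ Z).hom
  -- every fibre is trivial
  have hall : ∀ s, FibTriv (X ⊗ Y ⊗ Z).hom L s := by
    intro s
    let b : Spec (CommRingCat.of (S.residueField s)) ⟶ S := S.fromSpecResidueField s
    let Xs := Over.mk (pullback.snd X.hom b)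
    let Ys := Over.mk (pullback.snd Y.hom b)
    let Zs := Over.mk (pullback.snd Z.hom b)
    have hXs : IsPullback (pullback.fst X.hom b) Xs.hom X.hom b := IsPullback.of_hasPullback _ _
    have hYs : IsPullback (pullback.fst Y.hom b) Ys.hom Y.hom b := IsPullback.of_hasPullback _ _
    have hZs : IsPullback (pullback.fst Z.hom b) Zs.hom Z.hom b := IsPullback.of_hasPullback _ _
    obtain ⟨g, g1, g2, hg⟩ := isPullback_tensor (X' := Ys) (Y' := Zs) hYs hZs
    obtain ⟨h', h1, h2, hh'⟩ := isPullback_tensor (X' := Xs) (Y' := Ys ⊗ Zs) hXs hg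
    obtain ⟨xs, hxs⟩ := exists_section (X' := Xs) hXs x
    obtain ⟨ys, hys⟩ := exists_section (X' := Ys) hYs y
    obtain ⟨zs, hzs⟩ := exists_section (X' := Zs) hZs z
    have : IsProper Xs.hom := inferInstanceAs (IsProper (pullback.snd _ _))
    have : IsProper Ys.hom := inferInstanceAs (IsProper (pullback.snd _ _))
    have : IsProper Zs.hom := inferInstanceAs (IsProper (pullback.snd _ _))
    have : GeometricallyIntegral Xs.hom := MorphismProperty.of_isPullback hXs ‹_›
    have : GeometricallyIntegral Ys.hom := MorphismProperty.of_isPullback hYs ‹_›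
    have : GeometricallyIntegral Zs.hom := MorphismProperty.of_isPullback hZs ‹_›
    have := geometricallyConnected_of_integral Ys.hom
    suffices hgoal : Nonempty ((Scheme.Modules.pullback h').obj L ≅ Coh.structureModule _) from
      trivial_of_factor (hh'.lift ((X ⊗ Y ⊗ Z).hom.fiberι s)
        ((X ⊗ Y ⊗ Z).hom.fiberToSpecResidueField s) ((X ⊗ Y ⊗ Z).hom.fiber_fac s))
        (hh'.lift_fst _ _ _) hgoal
    have hL' := PicAux.isInvertible_pullback h' hL
    refine trivial_cube xs ys zs _ hL' ?_ ?_ ?_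
    · obtain ⟨i⟩ := trivial_of_factor (g' := (lift (toUnit (Ys ⊗ Zs) ≫ xs) (𝟙 _)).left ≫ h') g
        (lift_compat h1 h2 (toUnit_compat hg.w x xs hxs)
          (show (𝟙 (Ys ⊗ Zs) : _ ⟶ _).left ≫ g = g ≫ (𝟙 (Y ⊗ Z) : _ ⟶ _).left from
            (Category.id_comp _).trans (Category.comp_id _).symm)).symm hx
      exact ⟨(Scheme.Modules.pullbackComp _ h').app L ≪≫ i⟩
    · obtain ⟨f, f1, f2, hf⟩ := isPullback_tensor (X' := Xs) (Y' := Zs) hXs hZs
      obtain ⟨i⟩ := trivial_of_factor
        (g' := (lift (fst Xs Zs) (lift (toUnit (Xs ⊗ Zs) ≫ ys) (snd Xs Zs))).left ≫ h') f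
        (lift_compat h1 h2 f1.symm
          (lift_compat g1 g2 (toUnit_compat hf.w y ys hys) f2.symm)).symm hy
      exact ⟨(Scheme.Modules.pullbackComp _ h').app L ≪≫ i⟩
    · obtain ⟨f, f1, f2, hf⟩ := isPullback_tensor (X' := Xs) (Y' := Ys) hXs hYs
      obtain ⟨i⟩ := trivial_of_factor
        (g' := (lift (fst Xs Ys) (lift (snd Xs Ys) (toUnit (Xs ⊗ Ys) ≫ zs))).left ≫ h') f
        (lift_compat h1 h2 f1.symm
          (lift_compat g1 g2 f2.symm (toUnit_compat hf.w z zs hzs))).symm hz
      exact ⟨(Scheme.Modules.pullbackComp _ h').app L ≪≫ i⟩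
  -- the slice `X × (y, z)`
  have hX1 : Nonempty ((Scheme.Modules.pullback (lift (𝟙 X) (toUnit X ≫ lift y z)).left).obj L ≅
      Coh.structureModule X.left) :=
    trivial_of_factor (lift (𝟙 X) (toUnit X ≫ z)).left
      (congrArg Over.Hom.left (show lift (𝟙 X) (toUnit X ≫ z) ≫
          lift (fst X Z) (lift (toUnit (X ⊗ Z) ≫ y) (snd X Z)) =
          lift (𝟙 X) (toUnit X ≫ lift y z) by simp)) hy
  refine trivial_of_local (X ⊗ Y ⊗ Z).hom (e := (lift x (lift y z)).left) (Over.w _)
    (fun V => GrpschAbsch.H0General.app_bijective (X ⊗ Y ⊗ Z).hom V)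
    (fun s => exists_gen_near_slices x (lift y z) L hL hX1 hx s (hall s)) ?_
  exact trivial_of_factor (lift y z).left
    (congrArg Over.Hom.left (show lift y z ≫ lift (toUnit (Y ⊗ Z) ≫ x) (𝟙 (Y ⊗ Z)) =
      lift x (lift y z) by simp)) hx

end Groth.Abvar.Cube
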