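import Groth.Agent.Abvar.Cube.KuennethAlg
import Mathlib.RingTheory.TensorProduct.Maps
import Mathlib.LinearAlgebra.TensorProduct.Tower
import Mathlib.RingTheory.Flat.Stability

/-!
# Functions of a product cover with coefficients in an algebra over the base
-/

universe u

open scoped TensorProduct

namespace Groth.Abvar.Cube

variable {R : Type u} [CommRing R] {C C' : Type u} [CommRing C] [Algebra R C] [CommRing C']
  [Algebra R C'] {X X' Y Y' : Type u} [CommRing X] [Algebra R X] [CommRing X'] [Algebra R X']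
  [CommRing Y] [Algebra R Y] [CommRing Y'] [Algebra R Y']

variable (C) in
/-- A homomorphism with coefficients in `C`. -/
noncomputable abbrev bc (f : X →ₐ[R] X') : C ⊗[R] X →ₐ[R] C ⊗[R] X' :=
  Algebra.TensorProduct.map (AlgHom.id R C) f

variable (X) in
/-- Change of coefficients. -/
noncomputable abbrev coef (π : C →ₐ[R] C') : C ⊗[R] X →ₐ[R] C' ⊗[R] X :=
  Algebra.TensorProduct.map π (AlgHom.id R X)

variable (C Y) in
/-- A homomorphism of the left factor with coefficients in `C`. -/
noncomputable abbrev bcL (f : X →ₐ[R] X') : C ⊗[R] (X ⊗[R] Y) →ₐ[R] C ⊗[R] (X' ⊗[R] Y) :=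
  bc C (Algebra.TensorProduct.map f (AlgHom.id R Y))

variable (C X) in
/-- A homomorphism of the right factor with coefficients in `C`. -/
noncomputable abbrev bcR (g : Y →ₐ[R] Y') : C ⊗[R] (X ⊗[R] Y) →ₐ[R] C ⊗[R] (X ⊗[R] Y') :=
  bc C (Algebra.TensorProduct.map (AlgHom.id R X) g)

/-- Evaluation of the left factor. -/
noncomputable def cutA (ev : X →ₐ[R] C) (Y : Type u) [CommRing Y] [Algebra R Y] :
    C ⊗[R] (X ⊗[R] Y) →ₐ[R] C ⊗[R] Y :=
  Algebra.TensorProduct.lift Algebra.TensorProduct.includeLeft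
    (Algebra.TensorProduct.map ev (AlgHom.id R Y)) fun _ _ => Commute.all _ _

/-- Evaluation of the right factor. -/
noncomputable def cutB (ev : Y →ₐ[R] C) (X : Type u) [CommRing X] [Algebra R X] :
    C ⊗[R] (X ⊗[R] Y) →ₐ[R] C ⊗[R] X :=
  Algebra.TensorProduct.lift Algebra.TensorProduct.includeLeft
    ((Algebra.TensorProduct.comm R X C).toAlgHom.comp
      (Algebra.TensorProduct.map (AlgHom.id R X) ev)) fun _ _ => Commute.all _ _

@[simp] theorem cutA_tmul (ev : X →ₐ[R] C) (c : C) (x : X) (y : Y) :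
    cutA ev Y (c ⊗ₜ (x ⊗ₜ y)) = (c * ev x) ⊗ₜ y := by
  simp [cutA, Algebra.TensorProduct.tmul_mul_tmul]

@[simp] theorem cutB_tmul (ev : Y →ₐ[R] C) (c : C) (x : X) (y : Y) :
    cutB ev X (c ⊗ₜ (x ⊗ₜ y)) = (c * ev y) ⊗ₜ x := by
  simp [cutB, Algebra.TensorProduct.tmul_mul_tmul]

theorem coef_bc (π : C →ₐ[R] C') (f : X →ₐ[R] X') (z : C ⊗[R] X) :
    coef X' π (bc C f z) = bc C' f (coef X π z) := by
  induction z using TensorProduct.induction_on with
  | zero => simp
  | tmul c x => simp
  | add a b ha hb => simp only [map_add, ha, hb]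

theorem coef_coef {C'' : Type u} [CommRing C''] [Algebra R C''] (π : C →ₐ[R] C')
    (π' : C' →ₐ[R] C'') (z : C ⊗[R] X) :
    coef X π' (coef X π z) = coef X (π'.comp π) z := by
  induction z using TensorProduct.induction_on with
  | zero => simp
  | tmul c x => simp
  | add a b ha hb => simp only [map_add, ha, hb]

theorem coef_cutA (π : C →ₐ[R] C') (ev : X →ₐ[R] C) (z : C ⊗[R] (X ⊗[R] Y)) :
    coef Y π (cutA ev Y z) = cutA (π.comp ev) Y (coef _ π z) := by
  induction z using TensorProduct.induction_on with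
  | zero => simp
  | tmul c p =>
    induction p using TensorProduct.induction_on with
    | zero => simp
    | tmul x y => simp
    | add a b ha hb => simp only [TensorProduct.tmul_add, map_add, ha, hb]
  | add a b ha hb => simp only [map_add, ha, hb]

theorem coef_cutB (π : C →ₐ[R] C') (ev : Y →ₐ[R] C) (z : C ⊗[R] (X ⊗[R] Y)) :
    coef X π (cutB ev X z) = cutB (π.comp ev) X (coef _ π z) := by
  induction z using TensorProduct.induction_on with
  | zero => simp
  | tmul c p =>
    induction p using TensorProduct.induction_on with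
    | zero => simp
    | tmul x y => simp
    | add a b ha hb => simp only [TensorProduct.tmul_add, map_add, ha, hb]
  | add a b ha hb => simp only [map_add, ha, hb]

theorem cutA_bcR (ev : X →ₐ[R] C) (g : Y →ₐ[R] Y') (z : C ⊗[R] (X ⊗[R] Y)) :
    cutA ev Y' (bcR C X g z) = bc C g (cutA ev Y z) := by
  induction z using TensorProduct.induction_on with
  | zero => simp
  | tmul c p =>
    induction p using TensorProduct.induction_on with
    | zero => simp
    | tmul x y => simp
    | add a b ha hb => simp only [TensorProduct.tmul_add, map_add, ha, hb]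
  | add a b ha hb => simp only [map_add, ha, hb]

theorem cutB_bcL (ev : Y →ₐ[R] C) (f : X →ₐ[R] X') (z : C ⊗[R] (X ⊗[R] Y)) :
    cutB ev X' (bcL C Y f z) = bc C f (cutB ev X z) := by
  induction z using TensorProduct.induction_on with
  | zero => simp
  | tmul c p =>
    induction p using TensorProduct.induction_on with
    | zero => simp
    | tmul x y => simp
    | add a b ha hb => simp only [TensorProduct.tmul_add, map_add, ha, hb]
  | add a b ha hb => simp only [map_add, ha, hb]

section kuenneth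

variable {ι κ : Type} [Finite ι]
  {A : ι → Type u} [∀ i, CommRing (A i)] [∀ i, Algebra R (A i)]
  {A2 : ι → ι → Type u} [∀ i j, CommRing (A2 i j)] [∀ i j, Algebra R (A2 i j)]
  {B : κ → Type u} [∀ a, CommRing (B a)] [∀ a, Algebra R (B a)]
  {B2 : κ → κ → Type u} [∀ a b, CommRing (B2 a b)] [∀ a b, Algebra R (B2 a b)]
  (rl : ∀ i j, A i →ₐ[R] A2 i j) (rr : ∀ i j, A j →ₐ[R] A2 i j)
  (sl : ∀ a b, B a →ₐ[R] B2 a b) (sr : ∀ a b, B b →ₐ[R] B2 a b)

/-- Compatible families with coefficients in `C` are constants. -/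
def IsConstFam (C : Type u) [CommRing C] [Algebra R C] : Prop :=
  ∀ x : ∀ i, C ⊗[R] A i, (∀ i j, bc C (rl i j) (x i) = bc C (rr i j) (x j)) →
    ∃ t : C, ∀ i, x i = t ⊗ₜ 1

/-- Künneth with coefficients in a field over the base. -/
theorem exists_primitive_coef (K : Type u) [Field K] [Algebra R K]
    (hA : IsConstFam rl rr K) (hB : IsConstFam sl sr K)
    {i₀ : ι} (evA : A i₀ →ₐ[R] K) {a₀ : κ} (evB : B a₀ →ₐ[R] K)
    (h : ∀ a i j, K ⊗[R] (A2 i j ⊗[R] B a)) (c : ∀ i a b, K ⊗[R] (A i ⊗[R] B2 a b))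
    (hrel : ∀ i j a b, bcR K _ (sl a b) (h a i j) + bcL K _ (rr i j) (c j a b) =
      bcL K _ (rl i j) (c i a b) + bcR K _ (sr a b) (h b i j))
    (hX : ∃ e : ∀ i, K ⊗[R] A i,
      ∀ i j, cutB evB _ (h a₀ i j) = bc K (rr i j) (e j) - bc K (rl i j) (e i))
    (hY : ∃ e : ∀ a, K ⊗[R] B a,
      ∀ a b, cutA evA _ (c i₀ a b) = bc K (sr a b) (e b) - bc K (sl a b) (e a)) :
    ∃ g : ∀ i a, K ⊗[R] (A i ⊗[R] B a),
      (∀ a i j, h a i j = bcL K _ (rr i j) (g j a) - bcL K _ (rl i j) (g i a)) ∧
      (∀ i a b, c i a b = bcR K _ (sr a b) (g i b) - bcR K _ (sl a b) (g i a)) := by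
  let d : ∀ (P Q : Type u) [CommRing P] [Algebra R P] [CommRing Q] [Algebra R Q],
      K ⊗[R] (P ⊗[R] Q) ≃ₗ[K] (K ⊗[R] P) ⊗[K] (K ⊗[R] Q) :=
    fun P Q _ _ _ _ => TensorProduct.AlgebraTensorModule.distribBaseChange R K P Q
  have hd : ∀ (P Q : Type u) [CommRing P] [Algebra R P] [CommRing Q] [Algebra R Q] (t : K) (x : P)
      (y : Q), d P Q (t ⊗ₜ (x ⊗ₜ y)) = (t ⊗ₜ x) ⊗ₜ (1 ⊗ₜ y) := by
    intros
    simp [d, TensorProduct.AlgebraTensorModule.distribBaseChange]
  have hL : ∀ {P P' Q : Type u} [CommRing P] [Algebra R P] [CommRing P'] [Algebra R P']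
      [CommRing Q] [Algebra R Q] (f : P →ₐ[R] P') (z : K ⊗[R] (P ⊗[R] Q)),
      d P' Q (bcL K Q f z) = (f.toLinearMap.baseChange K).rTensor _ (d P Q z) := by
    intro P P' Q _ _ _ _ _ _ f z
    induction z using TensorProduct.induction_on with
    | zero => simp
    | tmul c p =>
      induction p using TensorProduct.induction_on with
      | zero => simp
      | tmul x y => simp [hd]
      | add a b ha hb => simp only [TensorProduct.tmul_add, map_add, ha, hb]
    | add a b ha hb => simp only [map_add, ha, hb]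
  have hR : ∀ {P Q Q' : Type u} [CommRing P] [Algebra R P] [CommRing Q] [Algebra R Q]
      [CommRing Q'] [Algebra R Q'] (f : Q →ₐ[R] Q') (z : K ⊗[R] (P ⊗[R] Q)),
      d P Q' (bcR K P f z) = (f.toLinearMap.baseChange K).lTensor _ (d P Q z) := by
    intro P Q Q' _ _ _ _ _ _ f z
    induction z using TensorProduct.induction_on with
    | zero => simp
    | tmul c p =>
      induction p using TensorProduct.induction_on with
      | zero => simp
      | tmul x y => simp [hd]
      | add a b ha hb => simp only [TensorProduct.tmul_add, map_add, ha, hb]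
    | add a b ha hb => simp only [map_add, ha, hb]
  let ψA : K ⊗[R] A i₀ →ₗ[K] K :=
    (Algebra.TensorProduct.lift (AlgHom.id K K) evA fun _ _ => Commute.all _ _).toLinearMap
  let ψB : K ⊗[R] B a₀ →ₗ[K] K :=
    (Algebra.TensorProduct.lift (AlgHom.id K K) evB fun _ _ => Commute.all _ _).toLinearMap
  have hcA : ∀ {Q : Type u} [CommRing Q] [Algebra R Q] (z : K ⊗[R] (A i₀ ⊗[R] Q)),
      cutL ψA (d _ Q z) = cutA evA Q z := by
    intro Q _ _ z
    induction z using TensorProduct.induction_on with
    | zero => simp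
    | tmul c p =>
      induction p using TensorProduct.induction_on with
      | zero => simp
      | tmul x y => simp [hd, ψA, TensorProduct.smul_tmul', mul_comm]
      | add a b ha hb => simp only [TensorProduct.tmul_add, map_add, ha, hb]
    | add a b ha hb => simp only [map_add, ha, hb]
  have hcB : ∀ {P : Type u} [CommRing P] [Algebra R P] (z : K ⊗[R] (P ⊗[R] B a₀)),
      cutR ψB (d P _ z) = cutB evB P z := by
    intro P _ _ z
    induction z using TensorProduct.induction_on with
    | zero => simp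
    | tmul c p =>
      induction p using TensorProduct.induction_on with
      | zero => simp
      | tmul x y => simp [hd, ψB, TensorProduct.smul_tmul', mul_comm]
      | add a b ha hb => simp only [TensorProduct.tmul_add, map_add, ha, hb]
    | add a b ha hb => simp only [map_add, ha, hb]
  have hone : ∀ {P P' : Type u} [CommRing P] [Algebra R P] [CommRing P'] [Algebra R P']
      (f : P →ₐ[R] P'), f.toLinearMap.baseChange K ((1 : K) ⊗ₜ (1 : P)) = (1 : K) ⊗ₜ (1 : P') := by
    intros
    simp
  have hbc : ∀ {P P' : Type u} [CommRing P] [Algebra R P] [CommRing P'] [Algebra R P']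
      (f : P →ₐ[R] P') (z : K ⊗[R] P), f.toLinearMap.baseChange K z = bc K f z := by
    intro P P' _ _ _ _ f z
    induction z using TensorProduct.induction_on with
    | zero => simp
    | tmul c x => simp
    | add a b ha hb => simp only [map_add, ha, hb]
  obtain ⟨e₁, he₁⟩ := hX
  obtain ⟨e₂, he₂⟩ := hY
  obtain ⟨g, hg1, hg2⟩ := exists_primitive (k := K)
    (A := fun i => K ⊗[R] A i) (A2 := fun i j => K ⊗[R] A2 i j)
    (B := fun a => K ⊗[R] B a) (B2 := fun a b => K ⊗[R] B2 a b)
    (fun i j => (rl i j).toLinearMap.baseChange K) (fun i j => (rr i j).toLinearMap.baseChange K)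
    (fun a b => (sl a b).toLinearMap.baseChange K) (fun a b => (sr a b).toLinearMap.baseChange K)
    (fun i => 1 ⊗ₜ 1) (fun a => 1 ⊗ₜ 1) (fun i j => (hone _).trans (hone _).symm)
    (fun x hx => (hA x fun i j => by simpa only [hbc] using hx i j).imp fun t ht i => by
      rw [ht, TensorProduct.smul_tmul', smul_eq_mul, mul_one])
    (fun x hx => (hB x fun i j => by simpa only [hbc] using hx i j).imp fun t ht i => by
      rw [ht, TensorProduct.smul_tmul', smul_eq_mul, mul_one])
    i₀ ψA (by simp [ψA]) a₀ ψB (by simp [ψB]) (fun a i j => d _ _ (h a i j))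
    (fun i a b => d _ _ (c i a b))
    (fun i j a b => by
      rw [← hR, ← hL, ← hL, ← hR, ← map_add, ← map_add, hrel])
    ⟨e₁, fun i j => by rw [hcB, he₁, hbc, hbc]⟩ ⟨e₂, fun a b => by rw [hcA, he₂, hbc, hbc]⟩
  refine ⟨fun i a => (d _ _).symm (g i a), fun a i j => (d _ _).injective ?_,
    fun i a b => (d _ _).injective ?_⟩
  · rw [hg1, map_sub, hL, hL, LinearEquiv.apply_symm_apply, LinearEquiv.apply_symm_apply]
  · rw [hg2, map_sub, hR, hR, LinearEquiv.apply_symm_apply, LinearEquiv.apply_symm_apply]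

end kuenneth

end Groth.Abvar.Cube
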