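import Groth.Agent.Abvar.Cube.Theta

/-!
# The theorem of the cube over a connected base

A module on `X × Y × Z`, for `X`, `Y` proper and geometrically integral and `Z` locally Noetherian and
connected, trivial on two slices and on the fibre over one point of `Z`, is trivial.
-/

universe u

open CategoryTheory Limits MonoidalCategory CartesianMonoidalCategory AlgebraicGeometry
  TopologicalSpace

namespace Groth.Abvar.Cube

open Seesaw PicCalc
open scoped MonObj

/-- Fibres of a composite of geometrically integral morphisms are integral. -/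
theorem geometricallyIntegral_comp {P B S : Scheme.{u}} (π : P ⟶ B) (q : B ⟶ S)
    [GeometricallyIntegral π] [Flat π] [UniversallyOpen π] [GeometricallyIntegral q]
    [LocallyOfFiniteType q] : GeometricallyIntegral (π ≫ q) := by
  refine ⟨fun K _ y W fst snd H => ?_⟩
  have h : IsIntegral (pullback q y) :=
    GeometricallyIntegral.geometrically_isIntegral (f := q) y _ _ (IsPullback.of_hasPullback q y)
  have : IsLocallyNoetherian (pullback q y) :=
    LocallyOfFiniteType.isLocallyNoetherian (pullback.snd q y)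
  have hsq : IsPullback (pullback.fst π (pullback.fst q y))
      (pullback.snd π (pullback.fst q y) ≫ pullback.snd q y) (π ≫ q) y :=
    (IsPullback.of_hasPullback π (pullback.fst q y)).paste_vert (IsPullback.of_hasPullback q y)
  let e := H.isoIsPullback _ _ hsq
  have : Nonempty W := ⟨e.inv (Classical.arbitrary _)⟩
  exact isIntegral_of_isOpenImmersion e.hom

variable {k : Type u} [Field k] {X Y Z : Over (Spec (CommRingCat.of k))}
  [IsProper X.hom] [GeometricallyIntegral X.hom] [IsProper Y.hom] [GeometricallyIntegral Y.hom]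
  (x₀ : 𝟙_ (Over (Spec (CommRingCat.of k))) ⟶ X) (y₀ : 𝟙_ (Over (Spec (CommRingCat.of k))) ⟶ Y)

/-- The theorem of the cube over a connected base. -/
theorem trivial_cube_connected [IsLocallyNoetherian Z.left] [ConnectedSpace Z.left]
    (L : (X ⊗ Y ⊗ Z).left.Modules) (hL : PicF.IsInvertible L)
    (hx : Nonempty ((Scheme.Modules.pullback (lift (toUnit (Y ⊗ Z) ≫ x₀) (𝟙 (Y ⊗ Z))).left).obj L ≅
      Coh.structureModule (Y ⊗ Z).left))
    (hy : Nonempty ((Scheme.Modules.pullback
      (lift (fst X Z) (lift (toUnit (X ⊗ Z) ≫ y₀) (snd X Z))).left).obj L ≅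
      Coh.structureModule (X ⊗ Z).left))
    (z : Z.left) (hz : FibTriv ((snd X (Y ⊗ Z)).left ≫ (snd Y Z).left) L z) :
    Nonempty (L ≅ Coh.structureModule (X ⊗ Y ⊗ Z).left) := by
  have := geometricallyConnected_of_integral X.hom
  have := geometricallyConnected_of_integral Y.hom
  let ρ := (snd X (Y ⊗ Z)).left ≫ (snd Y Z).left
  have sqX : IsPullback (fst X (Y ⊗ Z)).left (snd X (Y ⊗ Z)).left X.hom (Y ⊗ Z).hom :=
    IsPullback.of_hasPullback _ _
  have sqY : IsPullback (fst Y Z).left (snd Y Z).left Y.hom Z.hom := IsPullback.of_hasPullback _ _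
  have : IsProper (snd X (Y ⊗ Z)).left := MorphismProperty.of_isPullback sqX ‹_›
  have : Flat (snd X (Y ⊗ Z)).left :=
    MorphismProperty.of_isPullback sqX (inferInstance : Flat X.hom)
  have : UniversallyOpen (snd X (Y ⊗ Z)).left :=
    MorphismProperty.of_isPullback sqX (inferInstance : UniversallyOpen X.hom)
  have : GeometricallyIntegral (snd X (Y ⊗ Z)).left := MorphismProperty.of_isPullback sqX ‹_›
  have : IsProper (snd Y Z).left := MorphismProperty.of_isPullback sqY ‹_›
  have : Flat (snd Y Z).left := MorphismProperty.of_isPullback sqY (inferInstance : Flat Y.hom)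
  have : GeometricallyIntegral (snd Y Z).left := MorphismProperty.of_isPullback sqY ‹_›
  have : IsProper ρ := inferInstanceAs (IsProper (_ ≫ _))
  have : Flat ρ := inferInstanceAs (Flat (_ ≫ _))
  have : GeometricallyIntegral ρ := geometricallyIntegral_comp _ _
  have hopen : IsOpen {y | FibTriv ρ L y} := isOpen_iff_forall_mem_open.2 fun y hy' => by
    obtain ⟨U, hU, σ, hσ⟩ := exists_gen_near_point x₀ y₀ L hL hx hy y hy'
    exact ⟨U, fun w hw => fibTriv_of_gen ρ hσ hw, U.isOpen, hU⟩
  have hall : ∀ y, FibTriv ρ L y := fun y => by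
    have h := IsClopen.eq_univ ⟨isClosed_fibTriv_of_integral ρ hL, hopen⟩ ⟨z, hz⟩
    exact h.ge (Set.mem_univ y)
  have := geometricallyConnected_of_integral ρ
  have := locallyOfFinitePresentation_of_isNoetherian ρ
  refine trivial_of_local ρ (e := (lift (toUnit Z ≫ y₀) (𝟙 Z)).left ≫
      (lift (toUnit (Y ⊗ Z) ≫ x₀) (𝟙 (Y ⊗ Z))).left) ?_
    (fun V => GrpschAbsch.H0General.app_bijective ρ V)
    (fun y => exists_gen_near_point x₀ y₀ L hL hx hy y (hall y)) ?_
  · have : (lift (toUnit Z ≫ y₀) (𝟙 Z) ≫ lift (toUnit (Y ⊗ Z) ≫ x₀) (𝟙 (Y ⊗ Z))) ≫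
        snd X (Y ⊗ Z) ≫ snd Y Z = 𝟙 Z := by simp
    exact congrArg Over.Hom.left this
  · obtain ⟨i⟩ := hx
    obtain ⟨j⟩ := PicAux.pullback_structure_iso (lift (toUnit Z ≫ y₀) (𝟙 Z)).left
    exact ⟨((Scheme.Modules.pullbackComp _ _).app L).symm ≪≫
      (Scheme.Modules.pullback _).mapIso i ≪≫ j⟩

omit [IsProper Y.hom] [GeometricallyIntegral Y.hom] in
/-- The points where a family on `X` is trivial form a closed set. -/
theorem exists_isClosed_slice_trivial [IsAlgClosed k] [LocallyOfFiniteType Y.hom]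
    (c : PicLoc.PicSet (X ⊗ Y).left) :
    ∃ S : Set Y.left, IsClosed S ∧ ∀ s : 𝟙_ (Over (Spec (CommRingCat.of k))) ⟶ Y,
      s.left (IsLocalRing.closedPoint k) ∈ S ↔ opull (lift (𝟙 X) (toUnit X ≫ s)) c = 1 := by
  obtain ⟨L, hL, rfl⟩ := PicGrp.exists_eq_cls c
  have sq : IsPullback (fst X Y).left (snd X Y).left X.hom Y.hom := IsPullback.of_hasPullback _ _
  have : IsProper (snd X Y).left := MorphismProperty.of_isPullback sq ‹_›
  have : Flat (snd X Y).left := MorphismProperty.of_isPullback sq (inferInstance : Flat X.hom)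
  have : GeometricallyIntegral (snd X Y).left := MorphismProperty.of_isPullback sq ‹_›
  have : IsLocallyNoetherian Y.left := LocallyOfFiniteType.isLocallyNoetherian Y.hom
  refine ⟨{y | FibTriv (snd X Y).left L y}, isClosed_fibTriv_of_integral _ hL, fun s => ?_⟩
  have key : Nonempty ((Scheme.Modules.pullback (lift (𝟙 X) (toUnit X ≫ s)).left).obj L ≅
      Coh.structureModule X.left) ↔ opull (lift (𝟙 X) (toUnit X ≫ s)) (cls hL) = 1 := by
    rw [nonempty_iso_structure_iff (PicLoc.isInvertible_pullback _ hL), ← pull_cls _ hL]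
  refine ⟨fun h => key.1 ?_, fun h => fibTriv_of_slice s L (key.2 h)⟩
  refine trivial_of_fibTriv s.left (s.left (IsLocalRing.closedPoint k)) rfl h (q := X.hom) ?_
  refine IsPullback.of_right (t := sq) (p := ?_) (s := ?_)
  rotate_left
  · refine (congrArg Over.Hom.left (lift_snd (𝟙 X) (toUnit X ≫ s))).trans ?_
    rw [Over.comp_left, Over.toUnit_left]
  · rw [show (lift (𝟙 X) (toUnit X ≫ s)).left ≫ (fst X Y).left = 𝟙 _ from
      congrArg Over.Hom.left (lift_fst (𝟙 X) (toUnit X ≫ s)),
      show s.left ≫ Y.hom = 𝟙 _ from Over.w s]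
    exact IsPullback.of_id_fst

/-- The relative Mumford class is trivial when it is trivial on one fibre. -/
theorem mumford_eq_one [GrpObj X] {T : Over (Spec (CommRingCat.of k))}
    [IsLocallyNoetherian T.left] [ConnectedSpace T.left] (c : PicLoc.PicSet (X ⊗ T).left)
    (t : T.left)
    (ht : pull (pullback.fst (snd (X ⊗ X) T).left (T.left.fromSpecResidueField t))
        (opull (μ[X] ▷ T) c) =
      pull (pullback.fst (snd (X ⊗ X) T).left (T.left.fromSpecResidueField t))
        (opull (fst X X ▷ T) c * opull (snd X X ▷ T) c)) :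
    opull (μ[X] ▷ T) c * opull (snd (X ⊗ X) T) (opull (lift (toUnit T ≫ η[X]) (𝟙 T)) c) =
      opull (fst X X ▷ T) c * opull (snd X X ▷ T) c := by
  let p : X ⊗ X ⊗ T ⟶ X := fst X (X ⊗ T)
  let q : X ⊗ X ⊗ T ⟶ X := snd X (X ⊗ T) ≫ fst X T
  let r : X ⊗ X ⊗ T ⟶ T := snd X (X ⊗ T) ≫ snd X T
  let δ := opull (lift (p * q) r) c * opull (lift 1 r) c / (opull (lift p r) c * opull (lift q r) c)
  have eα : ∀ {U : Over (Spec (CommRingCat.of k))} (m : U ⟶ (X ⊗ X) ⊗ T),
      opull (m ≫ (α_ X X T).hom) δ =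
        opull m (opull (μ[X] ▷ T) c * opull (snd (X ⊗ X) T) (opull (lift (toUnit T ≫ η[X]) (𝟙 T)) c)) /
          opull m (opull (fst X X ▷ T) c * opull (snd X X ▷ T) c) := fun {U} m => by
    have a1 : (α_ X X T).hom ≫ p = fst (X ⊗ X) T ≫ fst X X := by simp [p]
    have a2 : (α_ X X T).hom ≫ q = fst (X ⊗ X) T ≫ snd X X := by simp [q]
    have a3 : (α_ X X T).hom ≫ r = snd (X ⊗ X) T := by simp [r]
    have b1 : (α_ X X T).hom ≫ lift (p * q) r = μ[X] ▷ T := by
      rw [comp_lift, MonObj.comp_mul, a1, a2, a3, ← MonObj.comp_mul]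
      ext1 <;> simp [MonObj.mul_eq_mul]
    have b2 : (α_ X X T).hom ≫ lift p r = fst X X ▷ T := by
      rw [comp_lift, a1, a3]
      ext1 <;> simp
    have b3 : (α_ X X T).hom ≫ lift q r = snd X X ▷ T := by
      rw [comp_lift, a2, a3]
      ext1 <;> simp
    have b4 : (α_ X X T).hom ≫ lift (1 : X ⊗ X ⊗ T ⟶ X) r =
        snd (X ⊗ X) T ≫ lift (toUnit T ≫ η[X]) (𝟙 T) := by
      rw [comp_lift, comp_lift, MonObj.comp_one, a3, ← Hom.one_def, MonObj.comp_one,
        Category.comp_id]
    simp only [δ, map_div, map_mul, ← opull_comp, Category.assoc, b1, b2, b3, b4]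
  suffices hδ : δ = 1 by
    have := eα (𝟙 _)
    rw [hδ, map_one, opull_id, opull_id] at this
    exact div_eq_one.1 this.symm
  obtain ⟨L, hL, e⟩ := PicGrp.exists_eq_cls δ
  rw [e, ← nonempty_iso_structure_iff]
  refine trivial_cube_connected η[X] η[X] L hL ?_ ?_ t ?_
  · rw [nonempty_iso_structure_iff (PicLoc.isInvertible_pullback _ hL), ← pull_cls _ hL]
    change opull _ (PicGrp.cls L hL) = 1
    rw [← e]
    have u1 : lift (toUnit (X ⊗ T) ≫ η[X]) (𝟙 (X ⊗ T)) ≫ p = 1 := by simp [p, ← Hom.one_def]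
    have u2 : lift (toUnit (X ⊗ T) ≫ η[X]) (𝟙 (X ⊗ T)) ≫ q = fst X T := by simp [q]
    have u3 : lift (toUnit (X ⊗ T) ≫ η[X]) (𝟙 (X ⊗ T)) ≫ r = snd X T := by simp [r]
    simp only [δ, map_div, map_mul, ← opull_comp, comp_lift, MonObj.comp_mul, MonObj.comp_one, u1,
      u2, u3]
    rw [show (1 : X ⊗ T ⟶ X) * fst X T = fst X T from _root_.one_mul _, div_eq_one, mul_comm]
  · rw [nonempty_iso_structure_iff (PicLoc.isInvertible_pullback _ hL), ← pull_cls _ hL]
    change opull _ (PicGrp.cls L hL) = 1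
    rw [← e]
    have u1 : lift (fst X T) (lift (toUnit (X ⊗ T) ≫ η[X]) (snd X T)) ≫ p = fst X T := by simp [p]
    have u2 : lift (fst X T) (lift (toUnit (X ⊗ T) ≫ η[X]) (snd X T)) ≫ q = 1 := by
      simp [q, ← Hom.one_def]
    have u3 : lift (fst X T) (lift (toUnit (X ⊗ T) ≫ η[X]) (snd X T)) ≫ r = snd X T := by simp [r]
    simp only [δ, map_div, map_mul, ← opull_comp, comp_lift, MonObj.comp_mul, MonObj.comp_one, u1,
      u2, u3]
    rw [show fst X T * (1 : X ⊗ T ⟶ X) = fst X T from _root_.mul_one _, div_eq_one]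
  · let ρ := (snd X (X ⊗ T)).left ≫ (snd X T).left
    have hρ : (α_ X X T).inv.left ≫ (snd (X ⊗ X) T).left = ρ :=
      congrArg Over.Hom.left (associator_inv_snd X X T)
    let g0 := pullback.fst (snd (X ⊗ X) T).left (T.left.fromSpecResidueField t)
    let e0 : ρ.fiber t ⟶ pullback (snd (X ⊗ X) T).left (T.left.fromSpecResidueField t) :=
      pullback.lift (ρ.fiberι t ≫ (α_ X X T).inv.left) (ρ.fiberToSpecResidueField t)
        (by rw [Category.assoc, hρ]; exact ρ.fiber_fac t)
    have he0 : e0 ≫ g0 = ρ.fiberι t ≫ (α_ X X T).inv.left := pullback.lift_fst _ _ _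
    refine (nonempty_iso_structure_iff (PicLoc.isInvertible_pullback _ hL)).2 ?_
    rw [← pull_cls _ hL]
    change pull _ (PicGrp.cls L hL) = 1
    rw [← e]
    have hsub : Subsingleton ↥(Spec (T.left.residueField t)) := inferInstance
    have h1 : opull ((α_ X X T).inv) (opull ((α_ X X T).hom) δ) = δ := by
      rw [← opull_comp, Iso.inv_hom_id, opull_id]
    have h2 := eα (𝟙 _)
    rw [Category.id_comp, opull_id, opull_id] at h2
    rw [← h1, h2, ← pull_comp, ← he0, pull_comp, map_div, map_mul,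
      show pull g0 (opull (μ[X] ▷ T) c) = _ from ht]
    have h3 : pull g0 (opull (snd (X ⊗ X) T) (opull (lift (toUnit T ≫ η[X]) (𝟙 T)) c)) = 1 := by
      rw [← pull_comp g0 (snd (X ⊗ X) T).left, pullback.condition, pull_comp,
        eq_one_of_subsingleton (pull (T.left.fromSpecResidueField t) _), map_one]
    rw [h3, _root_.mul_one, div_self', map_one]

end Groth.Abvar.Cube
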