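import Groth.Agent.Abvar.Cube.AnyBase

/-!
# The theorem of the cube over an arbitrary base

For proper flat schemes of finite presentation with geometrically integral fibres over any scheme,
an invertible module on a triple product trivial on the three slices through sections is trivial.
-/

universe u

open CategoryTheory Limits MonoidalCategory CartesianMonoidalCategory AlgebraicGeometry

namespace Groth.Abvar.Cube

open Seesaw

variable {S : Scheme.{u}}

/-- The theorem of the cube over an arbitrary base. -/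
theorem trivial_cube_any {X Y Z : Over S} [IsProper X.hom] [Flat X.hom]
    [LocallyOfFinitePresentation X.hom] [GeometricallyIntegral X.hom] [IsProper Y.hom] [Flat Y.hom]
    [LocallyOfFinitePresentation Y.hom] [GeometricallyIntegral Y.hom]
    [IsProper Z.hom] [Flat Z.hom] [LocallyOfFinitePresentation Z.hom] [GeometricallyIntegral Z.hom]
    (x : 𝟙_ (Over S) ⟶ X) (y : 𝟙_ (Over S) ⟶ Y) (z : 𝟙_ (Over S) ⟶ Z)
    (L : (X ⊗ Y ⊗ Z).left.Modules) (hL : PicF.IsInvertible L)
    (hx : Nonempty ((Scheme.Modules.pullback (lift (toUnit (Y ⊗ Z) ≫ x) (𝟙 (Y ⊗ Z))).left).obj L ≅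
      Coh.structureModule (Y ⊗ Z).left))
    (hy : Nonempty ((Scheme.Modules.pullback
      (lift (fst X Z) (lift (toUnit (X ⊗ Z) ≫ y) (snd X Z))).left).obj L ≅
      Coh.structureModule (X ⊗ Z).left))
    (hz : Nonempty ((Scheme.Modules.pullback
      (lift (fst X Y) (lift (snd X Y) (toUnit (X ⊗ Y) ≫ z))).left).obj L ≅
      Coh.structureModule (X ⊗ Y).left)) :
    Nonempty (L ≅ Coh.structureModule (X ⊗ Y ⊗ Z).left) := by
  have := geometricallyIntegral_tensor Y Z
  have := isProper_tensor Y Z
  have := flat_tensor Y Z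
  have := locallyOfFinitePresentation_tensor Y Z
  -- every fibre is trivial
  have hall : ∀ s, FibTriv (X ⊗ Y ⊗ Z).hom L s := by
    intro s
    let b : Spec (CommRingCat.of (S.residueField s)) ⟶ S := S.fromSpecResidueField s
    let Xs := Over.mk (pullback.snd X.hom b)
    let Ys := Over.mk (pullback.snd Y.hom b)
    let Zs := Over.mk (pullback.snd Z.hom b)
    have hXs : IsPullback (pullback.fst X.hom b) Xs.hom X.hom b := IsPullback.of_hasPullback _ _
    have hYs : IsPullback (pullback.fst Y.hom b) Ys.hom Y.hom b := IsPullback.of_hasPullback _ _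
    have hZs : IsPullback (pullback.fst Z.hom b) Zs.hom Z.hom b := IsPullback.of_hasPullback _ _
    obtain ⟨g, g1, g2, hg⟩ := isPullback_tensor (X' := Ys) (Y' := Zs) hYs hZs
    obtain ⟨h', h1, h2, hh'⟩ := isPullback_tensor (X' := Xs) (Y' := Ys ⊗ Zs) hXs hg
    obtain ⟨xs, hxs⟩ := exists_section (X' := Xs) hXs x
    obtain ⟨ys, hys⟩ := exists_section (X' := Ys) hYs y
    obtain ⟨zs, hzs⟩ := exists_section (X' := Zs) hZs z
    have : IsProper Xs.hom := inferInstanceAs (IsProper (pullback.snd _ _))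
    have : IsProper Ys.hom := inferInstanceAs (IsProper (pullback.snd _ _))
    have : IsProper Zs.hom := inferInstanceAs (IsProper (pullback.snd _ _))
    have : GeometricallyIntegral Xs.hom := MorphismProperty.of_isPullback hXs ‹_›
    have : GeometricallyIntegral Ys.hom := MorphismProperty.of_isPullback hYs ‹_›
    have : GeometricallyIntegral Zs.hom := MorphismProperty.of_isPullback hZs ‹_›
    have := geometricallyConnected_of_integral Ys.hom
    suffices hgoal : Nonempty ((Scheme.Modules.pullback h').obj L ≅ Coh.structureModule _) from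
      trivial_of_factor (hh'.lift ((X ⊗ Y ⊗ Z).hom.fiberι s)
        ((X ⊗ Y ⊗ Z).hom.fiberToSpecResidueField s) ((X ⊗ Y ⊗ Z).hom.fiber_fac s))
        (hh'.lift_fst _ _ _) hgoal
    have hL' := PicAux.isInvertible_pullback h' hL
    refine trivial_cube xs ys zs _ hL' ?_ ?_ ?_
    · obtain ⟨i⟩ := trivial_of_factor (g' := (lift (toUnit (Ys ⊗ Zs) ≫ xs) (𝟙 _)).left ≫ h') g
        (lift_compat h1 h2 (toUnit_compat hg.w x xs hxs)
          (show (𝟙 (Ys ⊗ Zs) : _ ⟶ _).left ≫ g = g ≫ (𝟙 (Y ⊗ Z) : _ ⟶ _).left from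
            (Category.id_comp _).trans (Category.comp_id _).symm)).symm hx
      exact ⟨(Scheme.Modules.pullbackComp _ h').app L ≪≫ i⟩
    · obtain ⟨f, f1, f2, hf⟩ := isPullback_tensor (X' := Xs) (Y' := Zs) hXs hZs
      obtain ⟨i⟩ := trivial_of_factor
        (g' := (lift (fst Xs Zs) (lift (toUnit (Xs ⊗ Zs) ≫ ys) (snd Xs Zs))).left ≫ h') f
        (lift_compat h1 h2 f1.symm
          (lift_compat g1 g2 (toUnit_compat hf.w y ys hys) f2.symm)).symm hy
      exact ⟨(Scheme.Modules.pullbackComp _ h').app L ≪≫ i⟩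
    · obtain ⟨f, f1, f2, hf⟩ := isPullback_tensor (X' := Xs) (Y' := Ys) hXs hYs
      obtain ⟨i⟩ := trivial_of_factor
        (g' := (lift (fst Xs Ys) (lift (snd Xs Ys) (toUnit (Xs ⊗ Ys) ≫ zs))).left ≫ h') f
        (lift_compat h1 h2 f1.symm
          (lift_compat g1 g2 f2.symm (toUnit_compat hf.w z zs hzs))).symm hz
      exact ⟨(Scheme.Modules.pullbackComp _ h').app L ≪≫ i⟩
  -- the slice `X × (y, z)`
  have hX1 : Nonempty ((Scheme.Modules.pullback (lift (𝟙 X) (toUnit X ≫ lift y z)).left).obj L ≅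
      Coh.structureModule X.left) :=
    trivial_of_factor (lift (𝟙 X) (toUnit X ≫ z)).left
      (congrArg Over.Hom.left (show lift (𝟙 X) (toUnit X ≫ z) ≫
          lift (fst X Z) (lift (toUnit (X ⊗ Z) ≫ y) (snd X Z)) =
          lift (𝟙 X) (toUnit X ≫ lift y z) by simp)) hy
  exact trivial_of_fibres x (lift y z) hL hX1 hx hall

end Groth.Abvar.Cube
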