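import Groth.Agent.Abvar.Cube.Near
import Groth.Agent.Abvar.Seesaw.Sections

/-!
# The locus of trivial fibres is closed over any base
-/

universe u

open CategoryTheory Limits MonoidalCategory CartesianMonoidalCategory AlgebraicGeometry
  TopologicalSpace

namespace Groth.Abvar.Cube

open Seesaw
open Groth.SpectralTopology (fgSchemes fgCone fgDiagram)

/-- Over a Noetherian ring, the points over which some field-valued fibre has a nonzero section form
a closed set. -/
theorem exists_support {A : Type u} [CommRing A] [IsNoetherianRing A] {P : Scheme.{u}}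
    (π : P ⟶ Spec (CommRingCat.of A)) [IsProper π] [Flat π] {L : P.Modules}
    (hL : PicF.IsInvertible L) :
    ∃ C : Set (PrimeSpectrum A), IsClosed C ∧
      ∀ (K : Type u) [Field K] (b : Spec (CommRingCat.of K) ⟶ Spec (CommRingCat.of A))
        {P' : Scheme.{u}} {g : P' ⟶ P} {q : P' ⟶ Spec (CommRingCat.of K)}, IsPullback g q π b →
        (b (IsLocalRing.closedPoint K) ∈ C ↔
          ∃ s : Γ((Scheme.Modules.pullback g).obj L, ⊤), s ≠ 0) := by
  letI : P.Over (Spec (CommRingCat.of A)) := ⟨π⟩
  have hprop : IsProper (P ↘ Spec (CommRingCat.of A)) := ‹IsProper π›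
  obtain ⟨Q, hQ, h1, -, -⟩ := exists_rep (A := A) L
    ⟨PicAux.isQCoh_of_isInvertible hL, Ega2Proj.isFT_of_isInvertible hL⟩
    (isFlatOver_of_isInvertible π hL)
  refine ⟨Module.support A Q, Module.isClosed_support, fun K _ b {P' g q} H => ?_⟩
  letI : Algebra A K := (Spec.preimage b).hom.toAlgebra
  have hb : Spec.map (CommRingCat.ofHom (algebraMap A K)) = b := Spec.map_preimage b
  obtain ⟨w, -⟩ := h1 K (g := g) (q := q) (hb.symm ▸ H)
  have hker : RingHom.ker (algebraMap A K) =
      PrimeSpectrum.asIdeal (R := A) (b (IsLocalRing.closedPoint K)) := by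
    rw [← hb]
    show _ = Ideal.comap (algebraMap A K) (IsLocalRing.maximalIdeal K)
    rw [IsLocalRing.maximalIdeal_eq_bot]
    rfl
  refine (mem_support_iff_finrank (Q := Q) (b (IsLocalRing.closedPoint K) : PrimeSpectrum A) K hker).trans ?_
  have e : (Q →ₗ[A] K) ≃ₗ[K] Module.Dual K (TensorProduct A K Q) :=
    LinearMap.liftBaseChangeEquiv K
  constructor
  · intro h
    rw [← Subspace.dual_finrank_eq] at h
    have : Nontrivial (Q →ₗ[A] K) := e.toEquiv.nontrivial_congr.2
      (Module.nontrivial_of_finrank_pos (Nat.pos_of_ne_zero h))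
    obtain ⟨φ, hφ⟩ := exists_ne (0 : Q →ₗ[A] K)
    exact ⟨w.symm φ, fun h => hφ (w.symm.injective (h.trans (map_zero _).symm))⟩
  · rintro ⟨s, hs⟩ h
    rw [← Subspace.dual_finrank_eq, Module.finrank_zero_iff] at h
    have : Subsingleton (Q →ₗ[A] K) := e.toEquiv.subsingleton
    exact hs (w.injective (Subsingleton.elim _ _))

/-- Over any affine base, the points with a nonzero section on the fibre form a closed set. -/
theorem isClosed_sections {R : CommRingCat.{u}} {P : Scheme.{u}} (π : P ⟶ Spec R) [IsProper π]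
    [Flat π] [LocallyOfFinitePresentation π] {L : P.Modules} (hL : PicF.IsInvertible L) :
    IsClosed {x | ∃ s : Γ((Scheme.Modules.pullback (π.fiberι x)).obj L, ⊤), s ≠ 0} := by
  have : IsProper (Y := (fgCone R).pt) π := ‹_›
  have : Flat (Y := (fgCone R).pt) π := ‹_›
  have : LocallyOfFinitePresentation (Y := (fgCone R).pt) π := ‹_›
  obtain ⟨i, P₀, p₀, g, sq', hp₀, hf₀⟩ := exists_stage_family (R := R) π
  have sq : IsPullback g π p₀ (fgπ i) := sq'
  obtain ⟨j, φ, m, E₀, hm1, hm2, hE₀, ⟨η⟩⟩ := exists_stage_module p₀ sq hL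
  let A := (fgDiagram R).obj j.unop
  have : Algebra.FiniteType ℤ j.unop.1 := j.unop.1.fg_iff_finiteType.1 j.unop.2
  have hN : IsNoetherianRing j.unop.1 := Algebra.FiniteType.isNoetherianRing ℤ _
  have : IsNoetherianRing A := hN
  let π₁ : pullback p₀ ((fgSchemes R).map φ) ⟶ Spec (CommRingCat.of A) := pullback.snd _ _
  have : IsProper π₁ := MorphismProperty.pullback_snd _ _ hp₀
  have : Flat π₁ := MorphismProperty.pullback_snd _ _ hf₀
  have sqm : IsPullback m π π₁ (fgπ j) := by
    refine IsPullback.of_right ?_ hm2 (IsPullback.of_hasPullback p₀ ((fgSchemes R).map φ))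
    rw [hm1, fgπ_map]
    exact sq
  obtain ⟨C, hC, hC'⟩ := exists_support π₁ hE₀
  have key : {x | ∃ s : Γ((Scheme.Modules.pullback (π.fiberι x)).obj L, ⊤), s ≠ 0} =
      (fgπ j) ⁻¹' C := by
    ext x
    have h := hC' ((Spec R).residueField x) ((Spec R).fromSpecResidueField x ≫ fgπ j)
      (g := π.fiberι x ≫ m) (q := π.fiberToSpecResidueField x)
      ((IsPullback.of_hasPullback π ((Spec R).fromSpecResidueField x)).paste_horiz sqm)
    rw [Scheme.Hom.comp_apply, Scheme.fromSpecResidueField_apply] at h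
    let ε := ((Scheme.Modules.pullbackComp (π.fiberι x) m).app E₀).symm ≪≫
      (Scheme.Modules.pullback (π.fiberι x)).mapIso η
    let Φ := Scheme.Modules.Hom.app ε.hom ⊤
    have hΦ : Function.Bijective Φ := by
      have : IsIso Φ := inferInstance
      exact ConcreteCategory.bijective_of_isIso Φ
    refine Iff.trans ?_ h.symm
    constructor
    · rintro ⟨s, hs⟩
      obtain ⟨s', rfl⟩ := hΦ.2 s
      exact ⟨s', fun h0 => hs (by rw [h0]; exact map_zero _)⟩
    · rintro ⟨s, hs⟩
      exact ⟨Φ s, fun h0 => hs (hΦ.1 (h0.trans (map_zero _).symm))⟩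
  rw [key]
  exact hC.preimage (fgπ j).continuous

/-- The locus of trivial fibres of a family with geometrically integral fibres is closed. -/
theorem isClosed_fibTriv_any {P B : Scheme.{u}} (π : P ⟶ B) [IsProper π] [Flat π]
    [LocallyOfFinitePresentation π] [GeometricallyIntegral π] {L : P.Modules}
    (hL : PicF.IsInvertible L) : IsClosed {y | FibTriv π L y} := by
  obtain ⟨N, hN, ⟨ι⟩⟩ := PicAux.exists_inverse hL
  rw [← isOpen_compl_iff, isOpen_iff_forall_mem_open]
  intro y hy
  obtain ⟨_, ⟨V, hV, rfl⟩, hyV, -⟩ :=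
    B.isBasis_affineOpens.exists_subset_of_mem_open (Set.mem_univ y) isOpen_univ
  obtain ⟨x, rfl⟩ : y ∈ Set.range hV.fromSpec := by rw [hV.range_fromSpec]; exact hyV
  let π' := pullback.snd π hV.fromSpec
  let p := pullback.fst π hV.fromSpec
  have hL' := PicAux.isInvertible_pullback p hL
  have hN' := PicAux.isInvertible_pullback p hN
  have := geometricallyConnected_of_integral π'
  have key : ∀ z, FibTriv π' ((Scheme.Modules.pullback p).obj L) z ↔
      (∃ s : Γ((Scheme.Modules.pullback (π'.fiberι z)).obj ((Scheme.Modules.pullback p).obj L), ⊤),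
        s ≠ 0) ∧
      ∃ s : Γ((Scheme.Modules.pullback (π'.fiberι z)).obj ((Scheme.Modules.pullback p).obj N), ⊤),
        s ≠ 0 := by
    intro z
    let K := (Spec Γ(B, V)).residueField z
    have h0 : H0Const π' z := h0Const_of_geometrically π' z
    have hne : Nonempty (π'.fiber z) := nonempty_of_toGlobal_bijective (K := K) h0
    have hex : ∀ M : (π'.fiber z).Modules, Nonempty (M ≅ Coh.structureModule (π'.fiber z)) →
        ∃ s : Γ(M, ⊤), s ≠ 0 := fun M hM => by
      obtain ⟨σ, hσ⟩ := PicAux.nonempty_iso_structure_iff.1 hM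
      exact ⟨σ, gen_top_ne_zero hσ⟩
    obtain ⟨eT, -⟩ := PicAux.exists_pullback_tensorMod (π'.fiberι z)
      ((Scheme.Modules.pullback p).obj N) ((Scheme.Modules.pullback p).obj L)
    obtain ⟨eP, -⟩ := PicAux.exists_pullback_tensorMod p N L
    let ιz : CohB1.tensorMod ((Scheme.Modules.pullback (π'.fiberι z)).obj
        ((Scheme.Modules.pullback p).obj N))
        ((Scheme.Modules.pullback (π'.fiberι z)).obj ((Scheme.Modules.pullback p).obj L)) ≅
        Coh.structureModule (π'.fiber z) :=
      eT.symm ≪≫ (Scheme.Modules.pullback (π'.fiberι z)).mapIso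
        (eP.symm ≪≫ (Scheme.Modules.pullback p).mapIso ι ≪≫ (PicAux.pullback_structure_iso p).some)
        ≪≫ (PicAux.pullback_structure_iso (π'.fiberι z)).some
    constructor
    · intro h
      refine ⟨hex _ h, hex _ ?_⟩
      obtain ⟨i⟩ := h
      exact ⟨(SecTwist.unitorR _).symm ≪≫ PicGrp.tensorModIso (Iso.refl _) i.symm ≪≫ ιz⟩
    · rintro ⟨⟨s, hs⟩, ⟨s', hs'⟩⟩
      have : IsIntegral (π'.fiber z) := inferInstance
      exact trivial_of_sections (K := K) h0 (PicAux.isInvertible_pullback _ hL')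
        (PicAux.isInvertible_pullback _ hN') ιz hs hs'
  have hcl : IsClosed {z | FibTriv π' ((Scheme.Modules.pullback p).obj L) z} := by
    have e : {z | FibTriv π' ((Scheme.Modules.pullback p).obj L) z} = _ ∩ _ := Set.ext key
    exact e ▸ (isClosed_sections π' hL').inter (isClosed_sections π' hN')
  refine ⟨hV.fromSpec '' {z | FibTriv π' ((Scheme.Modules.pullback p).obj L) z}ᶜ, ?_,
    hV.fromSpec.isOpenEmbedding.isOpenMap _ hcl.isOpen_compl, x, ?_, rfl⟩
  · rintro _ ⟨z, hz, rfl⟩ h
    exact hz ((fibTriv_restrict_iff π hV L z).2 h)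
  · exact fun h => hy ((fibTriv_restrict_iff π hV L x).1 h)

end Groth.Abvar.Cube
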