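import Groth.Agent.Abvar.Cube.Coef
import Mathlib.RingTheory.Artinian.Ring
import Mathlib.RingTheory.Ideal.Quotient.Operations
import Mathlib.RingTheory.LocalRing.ResidueField.Basic
import Mathlib.Tactic.LinearCombination
import Mathlib.RingTheory.HopkinsLevitzki

/-!
# The infinitesimal step of the theorem of the cube, as algebra

A multiplicative cocycle of a product cover with coefficients in an Artinian local algebra which is
trivial modulo the maximal ideal and is a coboundary on the two axes is a coboundary.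
-/

universe u

open scoped TensorProduct

namespace Groth.Abvar.Cube

variable {R : Type u} [CommRing R] {C C' K : Type u} [CommRing C] [Algebra R C] [CommRing C']
  [Algebra R C'] [CommRing K] [Algebra R K]

/-- A small surjection `π` of algebras, with kernel the image of the residue algebra `K`. -/
structure SmallData (π : C →ₐ[R] C') (ρ : C →ₐ[R] K) where
  /-- the inclusion of the kernel -/
  j : K →ₗ[R] C
  π_surj : Function.Surjective π
  ρ_surj : Function.Surjective ρ
  inj : Function.Injective j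
  exact : Function.Exact j π.toLinearMap
  /-- the generator of the kernel -/
  ε : C
  j_apply : ∀ c, j (ρ c) = c * ε
  sq : ε * ε = 0

namespace SmallData

variable {π : C →ₐ[R] C'} {ρ : C →ₐ[R] K} (S : SmallData π ρ) {X X' : Type u} [CommRing X]
  [Algebra R X] [CommRing X'] [Algebra R X']

variable (X) in
/-- The kernel with coefficients. -/
noncomputable def jT : K ⊗[R] X →ₗ[R] C ⊗[R] X := S.j.rTensor X

theorem jT_injective [Module.Flat R X] : Function.Injective (S.jT X) :=
  Module.Flat.rTensor_preserves_injective_linearMap _ S.inj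

theorem exists_jT {z : C ⊗[R] X} [Module.Flat R X] (hz : coef X π z = 0) : ∃ w, S.jT X w = z := by
  refine (Module.Flat.rTensor_exact X S.exact z).1 ?_
  rw [← hz]
  rfl

theorem jT_bc (f : X →ₐ[R] X') (z : K ⊗[R] X) : bc C f (S.jT X z) = S.jT X' (bc K f z) := by
  induction z using TensorProduct.induction_on with
  | zero => simp
  | tmul c x => simp [jT]
  | add a b ha hb => simp only [map_add, ha, hb]

theorem jT_mul_jT (z w : K ⊗[R] X) : S.jT X z * S.jT X w = 0 := by
  induction z using TensorProduct.induction_on with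
  | zero => simp
  | tmul c x =>
    induction w using TensorProduct.induction_on with
    | zero => simp
    | tmul d y =>
      obtain ⟨c, rfl⟩ := S.ρ_surj c
      obtain ⟨d, rfl⟩ := S.ρ_surj d
      simp only [jT, LinearMap.rTensor_tmul, S.j_apply, Algebra.TensorProduct.tmul_mul_tmul]
      rw [mul_mul_mul_comm, S.sq, mul_zero, TensorProduct.zero_tmul]
    | add a b ha hb => rw [map_add, mul_add, ha, hb, add_zero]
  | add a b ha hb => rw [map_add, add_mul, ha, hb, add_zero]

theorem one_add_mul (z w : K ⊗[R] X) :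
    (1 + S.jT X z) * (1 + S.jT X w) = 1 + S.jT X (z + w) := by
  rw [mul_add, add_mul, add_mul, S.jT_mul_jT, map_add]
  ring

theorem isUnit_one_add (z : K ⊗[R] X) : IsUnit (1 + S.jT X z) :=
  isUnit_iff_exists_inv.2 ⟨1 + S.jT X (-z), by rw [S.one_add_mul, add_neg_cancel, map_zero, add_zero]⟩

theorem bc_one_add (f : X →ₐ[R] X') (z : K ⊗[R] X) :
    bc C f (1 + S.jT X z) = 1 + S.jT X' (bc K f z) := by
  rw [map_add, map_one, S.jT_bc]

theorem cutA_jT {A B : Type u} [CommRing A] [Algebra R A] [CommRing B] [Algebra R B]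
    (ev : A →ₐ[R] C) (z : K ⊗[R] (A ⊗[R] B)) :
    cutA ev B (S.jT _ z) = S.jT B (cutA (ρ.comp ev) B z) := by
  induction z using TensorProduct.induction_on with
  | zero => simp
  | tmul c p =>
    induction p using TensorProduct.induction_on with
    | zero => simp
    | tmul x y =>
      obtain ⟨c, rfl⟩ := S.ρ_surj c
      simp only [jT, LinearMap.rTensor_tmul, cutA_tmul, AlgHom.comp_apply, ← map_mul, S.j_apply]
      rw [mul_right_comm]
    | add a b ha hb => simp only [TensorProduct.tmul_add, map_add, ha, hb]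
  | add a b ha hb => simp only [map_add, ha, hb]

theorem cutB_jT {A B : Type u} [CommRing A] [Algebra R A] [CommRing B] [Algebra R B]
    (ev : B →ₐ[R] C) (z : K ⊗[R] (A ⊗[R] B)) :
    cutB ev A (S.jT _ z) = S.jT A (cutB (ρ.comp ev) A z) := by
  induction z using TensorProduct.induction_on with
  | zero => simp
  | tmul c p =>
    induction p using TensorProduct.induction_on with
    | zero => simp
    | tmul x y =>
      obtain ⟨c, rfl⟩ := S.ρ_surj c
      simp only [jT, LinearMap.rTensor_tmul, cutB_tmul, AlgHom.comp_apply, ← map_mul, S.j_apply]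
      rw [mul_right_comm]
    | add a b ha hb => simp only [TensorProduct.tmul_add, map_add, ha, hb]
  | add a b ha hb => simp only [map_add, ha, hb]

include S in
theorem exists_lift {z : C' ⊗[R] X} : ∃ w, coef X π w = z := by
  induction z using TensorProduct.induction_on with
  | zero => exact ⟨0, map_zero _⟩
  | tmul c x =>
    obtain ⟨c, rfl⟩ := S.π_surj c
    exact ⟨c ⊗ₜ x, rfl⟩
  | add a b ha hb =>
    obtain ⟨a, rfl⟩ := ha
    obtain ⟨b, rfl⟩ := hb
    exact ⟨a + b, map_add _ _ _⟩

include S in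
/-- An element invertible modulo the kernel is invertible, and so is any of its lifts. -/
theorem isUnit_of_coef [Module.Flat R X] {w : C ⊗[R] X} (hw : IsUnit (coef X π w)) : IsUnit w := by
  obtain ⟨v, hv⟩ := isUnit_iff_exists_inv.1 hw
  obtain ⟨v, rfl⟩ := S.exists_lift (z := v)
  obtain ⟨d, hd⟩ := S.exists_jT (z := w * v - 1) (by rw [map_sub, map_mul, map_one, hv, sub_self])
  rw [eq_sub_iff_add_eq, add_comm] at hd
  exact isUnit_of_mul_isUnit_left (y := v) (hd ▸ S.isUnit_one_add d)

/-- Two elements congruent modulo the kernel, one of them invertible. -/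
theorem exists_ratio [Module.Flat R X] {a b : C ⊗[R] X} (ha : IsUnit a)
    (hab : coef X π a = coef X π b) : ∃ d, b = a * (1 + S.jT X d) := by
  obtain ⟨a', ha'⟩ := ha.exists_right_inv
  obtain ⟨d, hd⟩ := S.exists_jT (z := a' * (b - a)) (by rw [map_mul, map_sub, hab, sub_self, mul_zero])
  refine ⟨d, ?_⟩
  rw [hd, mul_add, mul_one, ← mul_assoc, ha', one_mul, add_sub_cancel]

end SmallData

section cube

variable {ι κ : Type} [Finite ι]
  {A : ι → Type u} [∀ i, CommRing (A i)] [∀ i, Algebra R (A i)] [∀ i, Module.Flat R (A i)]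
  {A2 : ι → ι → Type u} [∀ i j, CommRing (A2 i j)] [∀ i j, Algebra R (A2 i j)]
  [∀ i j, Module.Flat R (A2 i j)]
  {B : κ → Type u} [∀ a, CommRing (B a)] [∀ a, Algebra R (B a)] [∀ a, Module.Flat R (B a)]
  {B2 : κ → κ → Type u} [∀ a b, CommRing (B2 a b)] [∀ a b, Algebra R (B2 a b)]
  [∀ a b, Module.Flat R (B2 a b)]
  (rl : ∀ i j, A i →ₐ[R] A2 i j) (rr : ∀ i j, A j →ₐ[R] A2 i j)
  (sl : ∀ a b, B a →ₐ[R] B2 a b) (sr : ∀ a b, B b →ₐ[R] B2 a b)

/-- A cocycle of the product cover with coefficients in `C`. -/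
structure Cocycle (C : Type u) [CommRing C] [Algebra R C] where
  /-- the part along the first factor -/
  h : ∀ a i j, C ⊗[R] (A2 i j ⊗[R] B a)
  /-- the part along the second factor -/
  c : ∀ i a b, C ⊗[R] (A i ⊗[R] B2 a b)
  rel : ∀ i j a b, bcR C _ (sl a b) (h a i j) * bcL C _ (rr i j) (c j a b) =
    bcL C _ (rl i j) (c i a b) * bcR C _ (sr a b) (h b i j)

variable {rl rr sl sr}

/-- Change of coefficients of a cocycle. -/
noncomputable def Cocycle.map (η : Cocycle rl rr sl sr C) (π : C →ₐ[R] C') :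
    Cocycle rl rr sl sr C' where
  h a i j := coef _ π (η.h a i j)
  c i a b := coef _ π (η.c i a b)
  rel i j a b := by
    simpa only [← coef_bc, ← map_mul] using congrArg (coef _ π) (η.rel i j a b)

/-- The cocycle is a coboundary. -/
def Cocycle.IsTrivial (η : Cocycle rl rr sl sr C) : Prop :=
  ∃ u : ∀ i a, C ⊗[R] (A i ⊗[R] B a), (∀ i a, IsUnit (u i a)) ∧
    (∀ a i j, η.h a i j * bcL C _ (rl i j) (u i a) = bcL C _ (rr i j) (u j a)) ∧
    (∀ i a b, η.c i a b * bcR C _ (sl a b) (u i a) = bcR C _ (sr a b) (u i b))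

/-- The cocycle is a coboundary on both axes. -/
def Cocycle.IsTrivialOnAxes (η : Cocycle rl rr sl sr C) {i₀ : ι} (evA : A i₀ →ₐ[R] C) {a₀ : κ}
    (evB : B a₀ →ₐ[R] C) : Prop :=
  (∃ v : ∀ i, C ⊗[R] A i, (∀ i, IsUnit (v i)) ∧
    ∀ i j, cutB evB _ (η.h a₀ i j) * bc C (rl i j) (v i) = bc C (rr i j) (v j)) ∧
  ∃ v : ∀ a, C ⊗[R] B a, (∀ a, IsUnit (v a)) ∧
    ∀ a b, cutA evA _ (η.c i₀ a b) * bc C (sl a b) (v a) = bc C (sr a b) (v b)

theorem Cocycle.IsTrivialOnAxes.map {η : Cocycle rl rr sl sr C} {i₀ : ι} {evA : A i₀ →ₐ[R] C}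
    {a₀ : κ} {evB : B a₀ →ₐ[R] C} (H : η.IsTrivialOnAxes evA evB) (π : C →ₐ[R] C') :
    (η.map π).IsTrivialOnAxes (π.comp evA) (π.comp evB) := by
  obtain ⟨⟨v, hv, hv'⟩, ⟨w, hw, hw'⟩⟩ := H
  refine ⟨⟨fun i => coef _ π (v i), fun i => (hv i).map _, fun i j => ?_⟩,
    ⟨fun a => coef _ π (w a), fun a => (hw a).map _, fun a b => ?_⟩⟩
  · simpa only [Cocycle.map, ← coef_bc, ← coef_cutB, ← map_mul] using congrArg (coef _ π) (hv' i j)
  · simpa only [Cocycle.map, ← coef_bc, ← coef_cutA, ← map_mul] using congrArg (coef _ π) (hw' a b)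

end cube

section step

variable {K : Type u} [Field K] [Algebra R K] {π : C →ₐ[R] C'} {ρ : C →ₐ[R] K} {ι κ : Type} [Finite ι]
  {A : ι → Type u} [∀ i, CommRing (A i)] [∀ i, Algebra R (A i)] [∀ i, Module.Flat R (A i)]
  {A2 : ι → ι → Type u} [∀ i j, CommRing (A2 i j)] [∀ i j, Algebra R (A2 i j)]
  [∀ i j, Module.Flat R (A2 i j)]
  {B : κ → Type u} [∀ a, CommRing (B a)] [∀ a, Algebra R (B a)] [∀ a, Module.Flat R (B a)]
  {B2 : κ → κ → Type u} [∀ a b, CommRing (B2 a b)] [∀ a b, Algebra R (B2 a b)]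
  [∀ a b, Module.Flat R (B2 a b)]
  {rl : ∀ i j, A i →ₐ[R] A2 i j} {rr : ∀ i j, A j →ₐ[R] A2 i j}
  {sl : ∀ a b, B a →ₐ[R] B2 a b} {sr : ∀ a b, B b →ₐ[R] B2 a b}

/-- The inductive step along a small surjection. -/
theorem Cocycle.isTrivial_of_small (S : SmallData π ρ)
    (hKA : IsConstFam rl rr K) (hKB : IsConstFam sl sr K)
    (hA : IsConstFam rl rr C') (hB : IsConstFam sl sr C')
    {η : Cocycle rl rr sl sr C} {i₀ : ι} {evA : A i₀ →ₐ[R] C} {a₀ : κ} {evB : B a₀ →ₐ[R] C}
    (hax : η.IsTrivialOnAxes evA evB) (hu : (η.map π).IsTrivial) : η.IsTrivial := by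
  obtain ⟨⟨v, hv, hvr⟩, ⟨w, hw, hwr⟩⟩ := hax
  obtain ⟨u', hu', huh, huc⟩ := hu
  choose u₁ hu₁ using fun i a => S.exists_lift (z := u' i a)
  have hu₁u : ∀ i a, IsUnit (u₁ i a) := fun i a => S.isUnit_of_coef (by rw [hu₁]; exact hu' i a)
  -- compare with the given trivialisations of the axes modulo the kernel
  have hflatAB : ∀ i a, Module.Flat R (A i ⊗[R] B a) := fun i a => inferInstance
  choose v' hv' using fun i => (hv i).exists_right_inv
  obtain ⟨s, hs⟩ := hA (fun i => coef _ π (cutB evB _ (u₁ i a₀) * v' i)) fun i j => by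
    simp only [map_mul, ← coef_bc, coef_cutB, hu₁, ← cutB_bcL]
    have h1 := huh a₀ i j
    have h2 : coef _ π (bc C (rl i j) (v' i)) = coef _ π (cutB evB _ (η.h a₀ i j)) *
        coef _ π (bc C (rr i j) (v' j)) := by
      have : bc C (rr i j) (v j) * (bc C (rr i j) (v' j) * bc C (rl i j) (v' i)) =
          cutB evB _ (η.h a₀ i j) * bc C (rl i j) (v i) *
            (bc C (rr i j) (v' j) * bc C (rl i j) (v' i)) := by rw [hvr]
      rw [← mul_assoc, ← map_mul, hv', map_one, one_mul, mul_assoc,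
        mul_left_comm (bc C (rl i j) (v i)), ← map_mul, hv', map_one, mul_one] at this
      rw [← map_mul, ← this]
    rw [← h1, h2, coef_cutB]
    simp only [Cocycle.map, map_mul]
    ring
  choose w' hw' using fun a => (hw a).exists_right_inv
  obtain ⟨t, ht⟩ := hB (fun a => coef _ π (cutA evA _ (u₁ i₀ a) * w' a)) fun a b => by
    simp only [map_mul, ← coef_bc, coef_cutA, hu₁, ← cutA_bcR]
    have h1 := huc i₀ a b
    have h2 : coef _ π (bc C (sl a b) (w' a)) = coef _ π (cutA evA _ (η.c i₀ a b)) *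
        coef _ π (bc C (sr a b) (w' b)) := by
      have : bc C (sr a b) (w b) * (bc C (sr a b) (w' b) * bc C (sl a b) (w' a)) =
          cutA evA _ (η.c i₀ a b) * bc C (sl a b) (w a) *
            (bc C (sr a b) (w' b) * bc C (sl a b) (w' a)) := by rw [hwr]
      rw [← mul_assoc, ← map_mul, hw', map_one, one_mul, mul_assoc,
        mul_left_comm (bc C (sl a b) (w a)), ← map_mul, hw', map_one, mul_one] at this
      rw [← map_mul, ← this]
    rw [← h1, h2, coef_cutA]
    simp only [Cocycle.map, map_mul]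
    ring
  -- adjust the trivialisations by constants
  obtain ⟨s', hs'⟩ := S.π_surj s
  obtain ⟨t', ht'⟩ := S.π_surj t
  have hsu : ∀ i, coef _ π (cutB evB _ (u₁ i a₀)) = coef _ π ((s' ⊗ₜ 1) * v i) := fun i => by
    calc coef _ π (cutB evB _ (u₁ i a₀))
        = coef _ π (cutB evB _ (u₁ i a₀) * v' i * v i) := by
          rw [mul_assoc, mul_comm (v' i), hv', mul_one]
      _ = _ := by rw [map_mul, map_mul (coef _ π) (s' ⊗ₜ 1), hs i]; simp [hs']
  have htu : ∀ a, coef _ π (cutA evA _ (u₁ i₀ a)) = coef _ π ((t' ⊗ₜ 1) * w a) := fun a => by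
    calc coef _ π (cutA evA _ (u₁ i₀ a))
        = coef _ π (cutA evA _ (u₁ i₀ a) * w' a * w a) := by
          rw [mul_assoc, mul_comm (w' a), hw', mul_one]
      _ = _ := by rw [map_mul, map_mul (coef _ π) (t' ⊗ₜ 1), ht a]; simp [ht']
  have hus : ∀ i, IsUnit ((s' ⊗ₜ[R] (1 : A i)) * v i) := fun i =>
    S.isUnit_of_coef (hsu i ▸ ((hu₁u i a₀).map _).map _)
  have hut : ∀ a, IsUnit ((t' ⊗ₜ[R] (1 : B a)) * w a) := fun a =>
    S.isUnit_of_coef (htu a ▸ ((hu₁u i₀ a).map _).map _)
  choose dX hdX using fun i => S.exists_ratio (hus i) (hsu i).symm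
  choose dY hdY using fun a => S.exists_ratio (hut a) (htu a).symm
  -- the additive cocycle
  choose h hh using fun a i j => S.exists_ratio
    ((hu₁u j a).map (bcL C _ (rr i j)))
    (b := η.h a i j * bcL C _ (rl i j) (u₁ i a)) (by
      simp only [map_mul, coef_bc, hu₁]
      exact (huh a i j).symm)
  choose c hc using fun i a b => S.exists_ratio
    ((hu₁u i b).map (bcR C _ (sr a b)))
    (b := η.c i a b * bcR C _ (sl a b) (u₁ i a)) (by
      simp only [map_mul, coef_bc, hu₁]
      exact (huc i a b).symm)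
  obtain ⟨g, hg1, hg2⟩ := exists_primitive_coef rl rr sl sr K hKA hKB (ρ.comp evA) (ρ.comp evB)
    h c
    (fun i j a b => by
      apply S.jT_injective
      have e1 := congrArg (bcR C _ (sl a b)) (hh a i j)
      have e2 := congrArg (bcL C _ (rr i j)) (hc j a b)
      have e3 := congrArg (bcL C _ (rl i j)) (hc i a b)
      have e4 := congrArg (bcR C _ (sr a b)) (hh b i j)
      have comm : ∀ {P P' Q Q' : Type u} [CommRing P] [Algebra R P] [CommRing P'] [Algebra R P']
          [CommRing Q] [Algebra R Q] [CommRing Q'] [Algebra R Q'] (f : P →ₐ[R] P') (q : Q →ₐ[R] Q')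
          (z : C ⊗[R] (P ⊗[R] Q)), bcR C P' q (bcL C Q f z) = bcL C Q' f (bcR C P q z) := by
        intro P P' Q Q' _ _ _ _ _ _ _ _ f q z
        induction z using TensorProduct.induction_on with
        | zero => simp
        | tmul c p =>
          induction p using TensorProduct.induction_on with
          | zero => simp
          | tmul x y => simp
          | add a b ha hb => simp only [TensorProduct.tmul_add, map_add, ha, hb]
        | add a b ha hb => simp only [map_add, ha, hb]
      simp only [map_mul, S.bc_one_add, comm] at e1 e2 e3 e4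
      have key := η.rel i j a b
      have big : bcR C _ (sr a b) (bcL C _ (rr i j) (u₁ j b)) *
          (1 + S.jT _ (bcR K _ (sl a b) (h a i j) + bcL K _ (rr i j) (c j a b))) =
        bcR C _ (sr a b) (bcL C _ (rr i j) (u₁ j b)) *
          (1 + S.jT _ (bcL K _ (rl i j) (c i a b) + bcR K _ (sr a b) (h b i j))) := by
        rw [← S.one_add_mul, ← S.one_add_mul, comm]
        linear_combination
          (bcL C _ (rl i j) (bcR C _ (sl a b) (u₁ i a))) * key +
          (1 + S.jT _ (bcR K _ (sl a b) (h a i j))) * (- e2) +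
          (- bcL C _ (rr i j) (η.c j a b)) * e1 +
          bcR C _ (sr a b) (η.h b i j) * e3 +
          (1 + S.jT _ (bcL K _ (rl i j) (c i a b))) * e4
      exact add_left_cancel (((((hu₁u j b).map _).map _)).mul_left_cancel big))
    ⟨fun i => -dX i, fun i j => by
      apply S.jT_injective
      have e1 := congrArg (cutB evB _) (hh a₀ i j)
      simp only [map_mul, map_add, map_one, S.cutB_jT, cutB_bcL, hdX, S.bc_one_add] at e1
      have hc1 : bc C (rl i j) (s' ⊗ₜ[R] (1 : A i)) = bc C (rr i j) (s' ⊗ₜ[R] (1 : A j)) := by simp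
      have big : bc C (rr i j) (s' ⊗ₜ[R] (1 : A j)) * bc C (rr i j) (v j) *
          (1 + S.jT _ (bc K (rl i j) (dX i))) =
        bc C (rr i j) (s' ⊗ₜ[R] (1 : A j)) * bc C (rr i j) (v j) *
          ((1 + S.jT _ (bc K (rr i j) (dX j))) *
            (1 + S.jT _ (cutB (ρ.comp evB) _ (h a₀ i j)))) := by
        linear_combination e1 - bc C (rr i j) (s' ⊗ₜ[R] (1 : A j)) *
          (1 + S.jT _ (bc K (rl i j) (dX i))) * hvr i j
          - cutB evB _ (η.h a₀ i j) * bc C (rl i j) (v i) *
            (1 + S.jT _ (bc K (rl i j) (dX i))) * hc1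
      have hu2 : IsUnit (bc C (rr i j) (s' ⊗ₜ[R] (1 : A j)) * bc C (rr i j) (v j)) := by
        rw [← map_mul]; exact (hus j).map _
      have h3 := hu2.mul_left_cancel big
      rw [S.one_add_mul] at h3
      rw [map_sub, map_neg, map_neg, map_neg, map_neg, add_left_cancel h3, map_add]
      ring⟩
    ⟨fun a => -dY a, fun a b => by
      apply S.jT_injective
      have e1 := congrArg (cutA evA _) (hc i₀ a b)
      simp only [map_mul, map_add, map_one, S.cutA_jT, cutA_bcR, hdY, S.bc_one_add] at e1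
      have hc1 : bc C (sl a b) (t' ⊗ₜ[R] (1 : B a)) = bc C (sr a b) (t' ⊗ₜ[R] (1 : B b)) := by simp
      have big : bc C (sr a b) (t' ⊗ₜ[R] (1 : B b)) * bc C (sr a b) (w b) *
          (1 + S.jT _ (bc K (sl a b) (dY a))) =
        bc C (sr a b) (t' ⊗ₜ[R] (1 : B b)) * bc C (sr a b) (w b) *
          ((1 + S.jT _ (bc K (sr a b) (dY b))) *
            (1 + S.jT _ (cutA (ρ.comp evA) _ (c i₀ a b)))) := by
        linear_combination e1 - bc C (sr a b) (t' ⊗ₜ[R] (1 : B b)) *
          (1 + S.jT _ (bc K (sl a b) (dY a))) * hwr a b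
          - cutA evA _ (η.c i₀ a b) * bc C (sl a b) (w a) *
            (1 + S.jT _ (bc K (sl a b) (dY a))) * hc1
      have hu2 : IsUnit (bc C (sr a b) (t' ⊗ₜ[R] (1 : B b)) * bc C (sr a b) (w b)) := by
        rw [← map_mul]; exact (hut b).map _
      have h3 := hu2.mul_left_cancel big
      rw [S.one_add_mul] at h3
      rw [map_sub, map_neg, map_neg, map_neg, map_neg, add_left_cancel h3, map_add]
      ring⟩
  refine ⟨fun i a => u₁ i a * (1 + S.jT _ (g i a)),
    fun i a => (hu₁u i a).mul (S.isUnit_one_add _), fun a i j => ?_, fun i a b => ?_⟩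
  · rw [map_mul, map_mul, ← mul_assoc, hh, mul_assoc, S.bc_one_add, S.bc_one_add, S.one_add_mul,
      hg1, sub_add_cancel]
  · rw [map_mul, map_mul, ← mul_assoc, hc, mul_assoc, S.bc_one_add, S.bc_one_add, S.one_add_mul,
      hg2, sub_add_cancel]

end step

section artinian

open IsLocalRing

variable {C : Type u} [CommRing C] [Algebra R C] [IsLocalRing C] [IsArtinianRing C]
  {ι κ : Type} [Finite ι]
  {A : ι → Type u} [∀ i, CommRing (A i)] [∀ i, Algebra R (A i)] [∀ i, Module.Flat R (A i)]
  {A2 : ι → ι → Type u} [∀ i j, CommRing (A2 i j)] [∀ i j, Algebra R (A2 i j)]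
  [∀ i j, Module.Flat R (A2 i j)]
  {B : κ → Type u} [∀ a, CommRing (B a)] [∀ a, Algebra R (B a)] [∀ a, Module.Flat R (B a)]
  {B2 : κ → κ → Type u} [∀ a b, CommRing (B2 a b)] [∀ a b, Algebra R (B2 a b)]
  [∀ a b, Module.Flat R (B2 a b)]
  {rl : ∀ i j, A i →ₐ[R] A2 i j} {rr : ∀ i j, A j →ₐ[R] A2 i j}
  {sl : ∀ a b, B a →ₐ[R] B2 a b} {sr : ∀ a b, B b →ₐ[R] B2 a b}

theorem exists_small_element {J : Ideal C} (hJ : J < maximalIdeal C) :
    ∃ ε ∈ maximalIdeal C, ε ∉ J ∧ ∀ c ∈ maximalIdeal C, c * ε ∈ J := by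
  classical
  obtain ⟨n, hn⟩ := (IsLocalRing.jacobson_eq_maximalIdeal (⊥ : Ideal C) bot_ne_top) ▸
    (IsArtinianRing.isNilpotent_jacobson_bot (R := C))
  have hex : ∃ k, maximalIdeal C ^ k ≤ J := ⟨n, hn.le.trans bot_le⟩
  obtain ⟨k, hk⟩ := Nat.exists_eq_succ_of_ne_zero (n := Nat.find hex) fun h => by
    have := Nat.find_spec hex
    rw [h, pow_zero, Ideal.one_eq_top, top_le_iff] at this
    exact (hJ.trans_le le_top).ne this
  have hk1 : ¬maximalIdeal C ^ k ≤ J := Nat.find_min hex (by omega)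
  have hk2 : maximalIdeal C ^ (k + 1) ≤ J := by
    rw [← Nat.succ_eq_add_one, ← hk]
    exact Nat.find_spec hex
  obtain ⟨ε, hε, hεJ⟩ := SetLike.not_le_iff_exists.1 hk1
  rcases Nat.eq_zero_or_pos k with rfl | hkpos
  · exact absurd (lt_of_lt_of_le hJ (by simpa using hk2)) (lt_irrefl _)
  · refine ⟨ε, Ideal.pow_le_self hkpos.ne' hε, hεJ, fun c hc => hk2 ?_⟩
    rw [pow_succ']
    exact Ideal.mul_mem_mul hc hε

/-- A cocycle with coefficients in an Artinian local algebra which is one modulo the maximal ideal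
and a coboundary on both axes is a coboundary. -/
theorem Cocycle.isTrivial_of_artinian
    (hA : ∀ J : Ideal C, IsConstFam rl rr (C ⧸ J))
    (hB : ∀ J : Ideal C, IsConstFam sl sr (C ⧸ J))
    (η : Cocycle rl rr sl sr C) {i₀ : ι} {evA : A i₀ →ₐ[R] C} {a₀ : κ} {evB : B a₀ →ₐ[R] C}
    (hax : η.IsTrivialOnAxes evA evB)
    (hh : ∀ a i j, coef _ (Ideal.Quotient.mkₐ R (maximalIdeal C)) (η.h a i j) = 1)
    (hc : ∀ i a b, coef _ (Ideal.Quotient.mkₐ R (maximalIdeal C)) (η.c i a b) = 1) :
    η.IsTrivial := by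
  have key : ∀ J : Ideal C, J ≤ maximalIdeal C →
      (η.map (Ideal.Quotient.mkₐ R J)).IsTrivial := by
    intro J
    induction J using WellFoundedGT.induction with
    | ind J ih =>
    intro hJ
    rcases hJ.lt_or_eq with hlt | rfl
    · obtain ⟨ε, hεm, hεJ, hmε⟩ := exists_small_element hlt
      let J' := J ⊔ Ideal.span {ε}
      have hJJ' : J < J' := left_lt_sup.2 fun h => hεJ (h (Ideal.mem_span_singleton_self ε))
      have hJ' : J' ≤ maximalIdeal C := sup_le hJ ((Ideal.span_singleton_le_iff_mem _).2 hεm)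
      let π : C ⧸ J →ₐ[R] C ⧸ J' := Ideal.Quotient.factorₐ R (le_sup_left : J ≤ J')
      let ρ : C ⧸ J →ₐ[R] C ⧸ maximalIdeal C := Ideal.Quotient.factorₐ R hJ
      let f : C →ₗ[C] C ⧸ J := (Submodule.mkQ J).comp (LinearMap.mulRight C ε)
      let j : C ⧸ maximalIdeal C →ₗ[R] C ⧸ J :=
        ((maximalIdeal C).liftQ f fun c hc => (Ideal.Quotient.eq_zero_iff_mem).2 (hmε c hc))
          |>.restrictScalars R
      have S : SmallData π ρ :=
        { j := j
          ε := Ideal.Quotient.mk J ε
          π_surj := Ideal.Quotient.factor_surjective (le_sup_left : J ≤ J')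
          ρ_surj := Ideal.Quotient.factor_surjective hJ
          inj := by
            rw [injective_iff_map_eq_zero]
            intro x hx
            obtain ⟨c, rfl⟩ := Ideal.Quotient.mk_surjective x
            have hx' : c * ε ∈ J := Ideal.Quotient.eq_zero_iff_mem.1 hx
            refine Ideal.Quotient.eq_zero_iff_mem.2 (by_contra fun hc => ?_)
            obtain ⟨u, rfl⟩ := not_not.1 fun h => hc ((mem_maximalIdeal c).2 h)
            exact hεJ ((J.unit_mul_mem_iff_mem u.isUnit).1 hx')
          exact := by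
            intro x
            obtain ⟨c, rfl⟩ := Ideal.Quotient.mk_surjective x
            constructor
            · intro hx
              have hx' : c ∈ J' := Ideal.Quotient.eq_zero_iff_mem.1 hx
              obtain ⟨a, ha, b, hb, rfl⟩ := Submodule.mem_sup.1 hx'
              obtain ⟨d, rfl⟩ := Ideal.mem_span_singleton'.1 hb
              refine ⟨Ideal.Quotient.mk _ d, ?_⟩
              show Ideal.Quotient.mk J (d * ε) = Ideal.Quotient.mk J (a + d * ε)
              rw [map_add, Ideal.Quotient.eq_zero_iff_mem.2 ha, zero_add]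
            · rintro ⟨y, hy⟩
              obtain ⟨d, rfl⟩ := Ideal.Quotient.mk_surjective y
              rw [← hy]
              exact Ideal.Quotient.eq_zero_iff_mem.2
                (Ideal.mem_sup_right (Ideal.mem_span_singleton'.2 ⟨d, rfl⟩))
          j_apply := by
            intro x
            obtain ⟨c, rfl⟩ := Ideal.Quotient.mk_surjective x
            show Ideal.Quotient.mk J (c * ε) = _
            exact map_mul _ _ _
          sq := Ideal.Quotient.eq_zero_iff_mem.2 (hmε ε hεm) }
      letI := Ideal.Quotient.field (maximalIdeal C)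
      refine Cocycle.isTrivial_of_small S (hA _) (hB _) (hA _) (hB _)
        (hax.map (Ideal.Quotient.mkₐ R J)) ?_
      obtain ⟨u, hu, h1, h2⟩ := ih J' hJJ' hJ'
      refine ⟨u, hu, fun a i j => ?_, fun i a b => ?_⟩
      · simpa only [Cocycle.map, coef_coef, π, Ideal.Quotient.factorₐ_comp_mk] using h1 a i j
      · simpa only [Cocycle.map, coef_coef, π, Ideal.Quotient.factorₐ_comp_mk] using h2 i a b
    · exact ⟨fun i a => 1, fun i a => isUnit_one, fun a i j => by simp [Cocycle.map, hh],
        fun i a b => by simp [Cocycle.map, hc]⟩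
  obtain ⟨u, hu, h1, h2⟩ := key ⊥ bot_le
  let e : (C ⧸ (⊥ : Ideal C)) →ₐ[R] C := ((AlgEquiv.quotientBot R C)).toAlgHom
  have he : e.comp (Ideal.Quotient.mkₐ R ⊥) = AlgHom.id R C :=
    AlgHom.ext fun c => rfl
  have hid : ∀ {X : Type u} [CommRing X] [Algebra R X] (z : C ⊗[R] X),
      coef X e (coef X (Ideal.Quotient.mkₐ R ⊥) z) = z := by
    intro X _ _ z
    rw [coef_coef, he]
    exact congr($(Algebra.TensorProduct.map_id) z)
  refine ⟨fun i a => coef _ e (u i a), fun i a => (hu i a).map _, fun a i j => ?_, fun i a b => ?_⟩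
  · simpa only [Cocycle.map, map_mul, coef_bc, hid] using congrArg (coef _ e) (h1 a i j)
  · simpa only [Cocycle.map, map_mul, coef_bc, hid] using congrArg (coef _ e) (h2 i a b)

end artinian

end Groth.Abvar.Cube
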