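import Groth.Agent.Abvar.Cube.Kuenneth
import Groth.Agent.Abvar.Cube.Infinitesimal
import Groth.Agent.GrpschAbsch.H0General

/-!
# Rings of functions of the opens of a scheme over an affine base, as algebras
-/

universe u

open CategoryTheory Limits MonoidalCategory CartesianMonoidalCategory AlgebraicGeometry
  TopologicalSpace Opposite
open scoped TensorProduct
open Groth.PicAux (resX resX_resX resX_self resX_ext resX_glue)

namespace Groth.Abvar.Cube

variable {R : Type u} [CommRing R]

/-- Functions on an open as an algebra over the base ring. -/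
noncomputable scoped instance secAlgebra {P : Scheme.{u}} [P.Over (Spec (CommRingCat.of R))]
    (W : P.Opens) : Algebra R Γ(P, W) :=
  (CohBase.toSec R W).toAlgebra

theorem algebraMap_sec {P : Scheme.{u}} [P.Over (Spec (CommRingCat.of R))] (W : P.Opens) (r : R) :
    algebraMap R Γ(P, W) r = CohBase.toSec R W r := rfl

section

variable {P : Scheme.{u}} [P.Over (Spec (CommRingCat.of R))]

variable (R) in
/-- Restriction as a homomorphism of algebras. -/
noncomputable def resAlg {V W : P.Opens} (h : V ≤ W) : Γ(P, W) →ₐ[R] Γ(P, V) where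
  toRingHom := resX P h
  commutes' r := CohBase.resFun_toSec (A := R) h r

theorem resAlg_apply {V W : P.Opens} (h : V ≤ W) (x : Γ(P, W)) : resAlg R h x = resX P h x := rfl

/-- Functions of a flat scheme over affine opens are flat. -/
theorem flat_sec [Flat (P ↘ Spec (CommRingCat.of R))] {W : P.Opens} (hW : IsAffineOpen W) :
    Module.Flat R Γ(P, W) := by
  let f := P ↘ Spec (CommRingCat.of R)
  have h1 : (f.appLE ⊤ W le_top).hom.Flat :=
    HasRingHomProperty.appLE (P := @Flat) f ‹_› ⟨⊤, isAffineOpen_top _⟩ ⟨W, hW⟩ le_top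
  have h2 : (Scheme.ΓSpecIso (CommRingCat.of R)).inv.hom.Flat :=
    RingHom.Flat.of_bijective (ConcreteCategory.bijective_of_isIso _)
  have h3 := RingHom.Flat.comp h2 h1
  exact h3

/-- The comparison `C ⊗ Γ(P, W) → Γ(Q, g⁻¹ W)`. -/
noncomputable def bcAlg {C : Type u} [CommRing C] [Algebra R C] {Q : Scheme.{u}} {g : Q ⟶ P}
    {q : Q ⟶ Spec (CommRingCat.of C)}
    (H : IsPullback g q (P ↘ Spec (CommRingCat.of R))
      (Spec.map (CommRingCat.ofHom (algebraMap R C)))) (W : P.Opens) :
    C ⊗[R] Γ(P, W) →+* Γ(Q, g ⁻¹ᵁ W) :=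
  letI := ((g.app W).hom.comp (CohBase.toSec R W)).toAlgebra
  (Algebra.TensorProduct.lift
    ({ toRingHom := qFun q (g ⁻¹ᵁ W)
       commutes' := fun r => qFun_algebraMap H W r } : C →ₐ[R] Γ(Q, g ⁻¹ᵁ W))
    ({ toRingHom := (g.app W).hom
       commutes' := fun _ => rfl } : Γ(P, W) →ₐ[R] Γ(Q, g ⁻¹ᵁ W))
    fun _ _ => Commute.all _ _).toRingHom

variable {C : Type u} [CommRing C] [Algebra R C] {Q : Scheme.{u}} {g : Q ⟶ P}
  {q : Q ⟶ Spec (CommRingCat.of C)}
  (H : IsPullback g q (P ↘ Spec (CommRingCat.of R))
    (Spec.map (CommRingCat.ofHom (algebraMap R C))))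

theorem bcAlg_tmul (W : P.Opens) (c : C) (x : Γ(P, W)) :
    bcAlg H W (c ⊗ₜ x) = qFun q (g ⁻¹ᵁ W) c * g.app W x := rfl

theorem bcAlg_eq_bcFun (W : P.Opens) (z : C ⊗[R] Γ(P, W)) :
    bcAlg H W z = bcFun H W (TensorProduct.comm R C (fnA R W) z) := by
  induction z using TensorProduct.induction_on with
  | zero => exact (map_zero (bcAlg H W)).trans ((congrArg _ (map_zero _)).trans (map_zero _)).symm
  | tmul c x => exact mul_comm _ _
  | add a b ha hb =>
    rw [map_add, ha, hb]
    exact ((congrArg _ (map_add _ a b)).trans (map_add _ _ _)).symm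

theorem bcAlg_bijective {W : P.Opens} (hW : IsAffineOpen W) : Function.Bijective (bcAlg H W) := by
  rw [show (bcAlg H W : _ → _) = _ from funext (bcAlg_eq_bcFun H W)]
  exact (bcFun_bijective H hW).comp (TensorProduct.comm R C (fnA R W)).bijective

theorem bcAlg_res {V W : P.Opens} (h : V ≤ W) (z : C ⊗[R] Γ(P, W)) :
    resX Q (g.preimage_mono h) (bcAlg H W z) = bcAlg H V (bc C (resAlg R h) z) := by
  induction z using TensorProduct.induction_on with
  | zero => simp
  | tmul c x =>
    rw [bcAlg_tmul, Algebra.TensorProduct.map_tmul, bcAlg_tmul, map_mul, resX_qFun, resAlg_apply,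
      app_res]
    rfl
  | add a b ha hb => simp only [map_add, ha, hb]

include H in
/-- Compatible families with coefficients in `C` are constants if the functions on the base change
are. -/
theorem exists_const_of_bc (hQ : Function.Bijective (Coh.toGlobal q)) {ι : Type*} (U : ι → P.Opens)
    (hU : ∀ i, IsAffineOpen (U i)) (hUc : ⊤ ≤ iSup U) (x : ∀ i, C ⊗[R] Γ(P, U i))
    (hx : ∀ i j, bc C (resAlg R (inf_le_left : U i ⊓ U j ≤ U i)) (x i) =
      bc C (resAlg R (inf_le_right : U i ⊓ U j ≤ U j)) (x j)) :
    ∃ t : C, ∀ i, x i = t ⊗ₜ 1 := by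
  obtain ⟨y, hy, -⟩ := resX_glue (U := ⊤) (fun i => g ⁻¹ᵁ U i) (fun i => le_top)
    (by
      intro y _
      obtain ⟨i, hi⟩ := Opens.mem_iSup.1 (hUc (show g y ∈ (⊤ : P.Opens) from trivial))
      exact Opens.mem_iSup.2 ⟨i, hi⟩)
    (fun i => bcAlg H (U i) (x i)) fun i j => by
      have h := congrArg (bcAlg H _) (hx i j)
      rwa [← bcAlg_res, ← bcAlg_res] at h
  obtain ⟨t, rfl⟩ := hQ.2 y
  refine ⟨t, fun i => (bcAlg_bijective H (hU i)).1 ?_⟩
  rw [bcAlg_tmul, map_one, mul_one, ← hy i]
  rfl

end

section family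

variable {ι : Type} (X : Over (Spec (CommRingCat.of R))) (U : ι → X.left.Opens)

/-- The restriction from the first open. -/
noncomputable abbrev resL (i j : ι) : Γ(X.left, U i) →ₐ[R] Γ(X.left, U i ⊓ U j) :=
  resAlg R inf_le_left

/-- The restriction from the second open. -/
noncomputable abbrev resR (i j : ι) : Γ(X.left, U j) →ₐ[R] Γ(X.left, U i ⊓ U j) :=
  resAlg R inf_le_right

variable {X U}

/-- The functions of a proper flat family with geometrically reduced and connected fibres are
constant, with any coefficients. -/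
theorem isConstFam_of_proper [IsProper X.hom] [Flat X.hom] [LocallyOfFinitePresentation X.hom]
    [GeometricallyReduced X.hom] [GeometricallyConnected X.hom] (hU : ∀ i, IsAffineOpen (U i))
    (hUc : ⊤ ≤ iSup U) (C : Type u) [CommRing C] [Algebra R C] :
    IsConstFam (resL X U) (resR X U) C := by
  intro x hx
  let s := Spec.map (CommRingCat.ofHom (algebraMap R C))
  have H : IsPullback (pullback.fst X.hom s) (pullback.snd X.hom s)
      (X.left ↘ Spec (CommRingCat.of R)) s := IsPullback.of_hasPullback X.hom s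
  have : IsProper (pullback.snd X.hom s) := MorphismProperty.of_isPullback H ‹IsProper X.hom›
  have : Flat (pullback.snd X.hom s) := MorphismProperty.of_isPullback H ‹Flat X.hom›
  have : LocallyOfFinitePresentation (pullback.snd X.hom s) :=
    MorphismProperty.of_isPullback H ‹LocallyOfFinitePresentation X.hom›
  have : GeometricallyReduced (pullback.snd X.hom s) :=
    MorphismProperty.of_isPullback H ‹GeometricallyReduced X.hom›
  have : GeometricallyConnected (pullback.snd X.hom s) :=
    MorphismProperty.of_isPullback H ‹GeometricallyConnected X.hom›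
  exact exists_const_of_bc H ((GrpschAbsch.H0General.appTop_bijective (pullback.snd X.hom s)).comp
    (ConcreteCategory.bijective_of_isIso (Scheme.ΓSpecIso (CommRingCat.of C)).inv)) U hU hUc x hx

end family

section box

variable {X Y : Over (Spec (CommRingCat.of R))}

/-- The functions `s ⊠ t`, as a homomorphism of algebras. -/
noncomputable def boxAlg (U : X.left.Opens) (V : Y.left.Opens) :
    Γ(X.left, U) ⊗[R] Γ(Y.left, V) →ₐ[R] Γ((X ⊗ Y).left, box X Y U V) :=
  Algebra.TensorProduct.lift
    { toRingHom := ((fst X Y).left.appLE U (box X Y U V) inf_le_left).hom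
      commutes' := fun r => appLE_toSec (fst X Y) inf_le_left r }
    { toRingHom := ((snd X Y).left.appLE V (box X Y U V) inf_le_right).hom
      commutes' := fun r => appLE_toSec (snd X Y) inf_le_right r }
    fun _ _ => Commute.all _ _

theorem boxAlg_tmul (U : X.left.Opens) (V : Y.left.Opens) (s : Γ(X.left, U)) (t : Γ(Y.left, V)) :
    boxAlg U V (s ⊗ₜ t) = (fst X Y).left.appLE U (box X Y U V) inf_le_left s *
      (snd X Y).left.appLE V (box X Y U V) inf_le_right t := rfl

theorem boxAlg_bijective {U : X.left.Opens} {V : Y.left.Opens} (hU : IsAffineOpen U)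
    (hV : IsAffineOpen V) : Function.Bijective (boxAlg U V) := by
  have h : ∀ z, boxAlg U V z = prodFun U V z := fun z => by
    induction z using TensorProduct.induction_on with
    | zero => exact (map_zero (boxAlg U V)).trans (map_zero (prodFun U V)).symm
    | tmul x y => rfl
    | add a b ha hb =>
      rw [map_add, ha, hb]
      exact (map_add (prodFun U V) a b).symm
  rw [show (boxAlg U V : _ → _) = _ from funext h]
  exact prodFun_bijective hU hV

theorem isAffineOpen_box {U : X.left.Opens} {V : Y.left.Opens} (hU : IsAffineOpen U)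
    (hV : IsAffineOpen V) : IsAffineOpen (box X Y U V) := by
  have : IsAffine U.toScheme := hU
  have : IsAffine V.toScheme := hV
  let m := pullback.map (U.ι ≫ X.hom) (V.ι ≫ Y.hom) X.hom Y.hom U.ι V.ι (𝟙 _)
    (Category.comp_id _) (Category.comp_id _)
  have hr : m.opensRange = box X Y U V := by
    apply Opens.ext
    simp only [Scheme.Hom.coe_opensRange]
    rw [Scheme.Pullback.range_map, Scheme.Opens.range_ι, Scheme.Opens.range_ι]
    rfl
  rw [← hr]
  exact isAffineOpen_opensRange m

end box

/-- The value at a point with coefficients in `C`. -/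
noncomputable def evC {C : Type u} [CommRing C] [Algebra R C] {X : Over (Spec (CommRingCat.of R))}
    (x : Over.mk (Spec.map (CommRingCat.ofHom (algebraMap R C))) ⟶ X) {U : X.left.Opens}
    (h : ⊤ ≤ x.left ⁻¹ᵁ U) : Γ(X.left, U) →ₐ[R] C where
  toRingHom := (x.left.appLE U ⊤ h ≫ (Scheme.ΓSpecIso (CommRingCat.of C)).hom).hom
  commutes' r := by
    show (Scheme.ΓSpecIso (CommRingCat.of C)).hom (x.left.appLE U ⊤ h (CohBase.toSec R U r)) =
      algebraMap R C r
    rw [appLE_toSec x h]
    show (Scheme.ΓSpecIso (CommRingCat.of C)).hom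
      (resX _ le_top ((Spec.map (CommRingCat.ofHom (algebraMap R C))).appTop
        ((Scheme.ΓSpecIso (CommRingCat.of R)).inv r))) = algebraMap R C r
    rw [resX_self]
    rw [show (Spec.map (CommRingCat.ofHom (algebraMap R C))).appTop
        ((Scheme.ΓSpecIso (CommRingCat.of R)).inv r) =
      (Scheme.ΓSpecIso (CommRingCat.of C)).inv (algebraMap R C r) from
      congr($((Scheme.ΓSpecIso_inv_naturality (CommRingCat.ofHom (algebraMap R C))).symm) r)]
    exact congr($((Scheme.ΓSpecIso (CommRingCat.of C)).inv_hom_id) (algebraMap R C r))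

end Groth.Abvar.Cube
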