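import Mathlib.LinearAlgebra.TensorProduct.Pi
import Mathlib.LinearAlgebra.TensorProduct.Basis
import Mathlib.LinearAlgebra.TensorProduct.RightExactness
import Mathlib.RingTheory.Flat.Basic
import Mathlib.LinearAlgebra.FreeModule.Basic
import Mathlib.LinearAlgebra.Basis.VectorSpace

/-!
# The Künneth argument for 1-cocycles of a product, as linear algebra

Given two covers whose global functions are the constants, a 1-cocycle of the product cover which
is a coboundary on the two axes is a coboundary.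
-/

universe u

open scoped TensorProduct

namespace Groth.Abvar.Cube

variable {k : Type*} [Field k]

section cut

variable {M M' N N' : Type*} [AddCommGroup M] [Module k M] [AddCommGroup M'] [Module k M']
  [AddCommGroup N] [Module k N] [AddCommGroup N'] [Module k N']

/-- Contraction of the left factor with a functional. -/
noncomputable def cutL (φ : M →ₗ[k] k) : M ⊗[k] N →ₗ[k] N :=
  (TensorProduct.lid k N).toLinearMap ∘ₗ φ.rTensor N

/-- Contraction of the right factor with a functional. -/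
noncomputable def cutR (ψ : N →ₗ[k] k) : M ⊗[k] N →ₗ[k] M :=
  (TensorProduct.rid k M).toLinearMap ∘ₗ ψ.lTensor M

@[simp] theorem cutL_tmul (φ : M →ₗ[k] k) (m : M) (n : N) : cutL φ (m ⊗ₜ n) = φ m • n := by
  simp [cutL]

@[simp] theorem cutR_tmul (ψ : N →ₗ[k] k) (m : M) (n : N) : cutR ψ (m ⊗ₜ n) = ψ n • m := by
  simp [cutR]

theorem cutL_lTensor (φ : M →ₗ[k] k) (f : N →ₗ[k] N') (z : M ⊗[k] N) :
    cutL φ (f.lTensor M z) = f (cutL φ z) := by
  induction z using TensorProduct.induction_on with
  | zero => simp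
  | tmul m n => simp
  | add x y hx hy => simp only [map_add, hx, hy]

theorem cutL_rTensor (φ : M →ₗ[k] k) (g : M' →ₗ[k] M) (z : M' ⊗[k] N) :
    cutL φ (g.rTensor N z) = cutL (φ ∘ₗ g) z := by
  induction z using TensorProduct.induction_on with
  | zero => simp
  | tmul m n => simp
  | add x y hx hy => simp only [map_add, hx, hy]

theorem cutR_rTensor (ψ : N →ₗ[k] k) (g : M →ₗ[k] M') (z : M ⊗[k] N) :
    cutR ψ (g.rTensor N z) = g (cutR ψ z) := by
  induction z using TensorProduct.induction_on with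
  | zero => simp
  | tmul m n => simp
  | add x y hx hy => simp only [map_add, hx, hy]

theorem tensor_comm (f : M →ₗ[k] M') (g : N →ₗ[k] N') (z : M ⊗[k] N) :
    f.rTensor N' (g.lTensor M z) = g.lTensor M' (f.rTensor N z) := by
  rw [← LinearMap.comp_apply, LinearMap.rTensor_comp_lTensor, ← LinearMap.lTensor_comp_rTensor]
  rfl

theorem apply_cutL (φ : M →ₗ[k] k) (ψ : N →ₗ[k] k) (z : M ⊗[k] N) :
    ψ (cutL φ z) = φ (cutR ψ z) := by
  induction z using TensorProduct.induction_on with
  | zero => simp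
  | tmul m n => simp [mul_comm]
  | add x y hx hy => simp only [map_add, hx, hy]

/-- Functionals on the left factor separate tensors. -/
theorem eq_zero_of_cutL {z : M ⊗[k] N} (h : ∀ φ : M →ₗ[k] k, cutL φ z = 0) : z = 0 := by
  let b := Module.Free.chooseBasis k M
  have hcoord : ∀ (w : M ⊗[k] N) i,
      TensorProduct.equivFinsuppOfBasisLeft b w i = cutL (b.coord i) w := by
    intro w i
    induction w using TensorProduct.induction_on with
    | zero => simp
    | tmul m n => simp [TensorProduct.equivFinsuppOfBasisLeft_apply_tmul_apply]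
    | add x y hx hy => simp only [map_add, Finsupp.add_apply, hx, hy]
  apply (TensorProduct.equivFinsuppOfBasisLeft b).injective
  rw [map_zero]
  ext i
  rw [hcoord, h]
  rfl

end cut

section pi

variable {ι : Type*} [Finite ι] {M : ι → Type*} [∀ i, AddCommGroup (M i)] [∀ i, Module k (M i)]
  {N : Type*} [AddCommGroup N] [Module k N]

theorem rTensor_proj_bijective :
    Function.Bijective fun (z : (∀ i, M i) ⊗[k] N) i => (LinearMap.proj i).rTensor N z := by
  classical
  have := Fintype.ofFinite ι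
  let e : (∀ i, M i) ⊗[k] N ≃ₗ[k] ∀ i, M i ⊗[k] N := TensorProduct.piLeft ..
  have he : (fun (z : (∀ i, M i) ⊗[k] N) i => (LinearMap.proj i).rTensor N z) = e := by
    funext z i
    induction z using TensorProduct.induction_on with
    | zero => simp
    | tmul m n => simp [e]
    | add x y hx hy => rw [map_add, hx, hy, map_add e, Pi.add_apply]
  rw [he]
  exact e.bijective

theorem tensor_pi_ext {z z' : (∀ i, M i) ⊗[k] N}
    (h : ∀ i, (LinearMap.proj i).rTensor N z = (LinearMap.proj i).rTensor N z') : z = z' :=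
  rTensor_proj_bijective.injective (funext h)

end pi

section kuenneth

variable {ι κ : Type*} [Finite ι]
  {A : ι → Type*} [∀ i, AddCommGroup (A i)] [∀ i, Module k (A i)]
  {A2 : ι → ι → Type*} [∀ i j, AddCommGroup (A2 i j)] [∀ i j, Module k (A2 i j)]
  {B : κ → Type*} [∀ a, AddCommGroup (B a)] [∀ a, Module k (B a)]
  {B2 : κ → κ → Type*} [∀ a b, AddCommGroup (B2 a b)] [∀ a b, Module k (B2 a b)]

/-- The first Čech differential. -/
noncomputable def coboundary (rl : ∀ i j, A i →ₗ[k] A2 i j) (rr : ∀ i j, A j →ₗ[k] A2 i j) :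
    (∀ i, A i) →ₗ[k] ∀ p : ι × ι, A2 p.1 p.2 :=
  LinearMap.pi fun p => rr p.1 p.2 ∘ₗ LinearMap.proj p.2 - rl p.1 p.2 ∘ₗ LinearMap.proj p.1

variable (rl : ∀ i j, A i →ₗ[k] A2 i j) (rr : ∀ i j, A j →ₗ[k] A2 i j)
  (sl : ∀ a b, B a →ₗ[k] B2 a b) (sr : ∀ a b, B b →ₗ[k] B2 a b)

omit [Finite ι] in
theorem proj_coboundary {N : Type*} [AddCommGroup N] [Module k N] (z : (∀ i, A i) ⊗[k] N)
    (p : ι × ι) :
    (LinearMap.proj p : (∀ p : ι × ι, A2 p.1 p.2) →ₗ[k] _).rTensor N
        ((coboundary rl rr).rTensor N z) =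
      (rr p.1 p.2).rTensor N ((LinearMap.proj p.2).rTensor N z) -
        (rl p.1 p.2).rTensor N ((LinearMap.proj p.1).rTensor N z) := by
  rw [← LinearMap.rTensor_comp_apply, coboundary, LinearMap.proj_pi, LinearMap.rTensor_sub,
    LinearMap.sub_apply, LinearMap.rTensor_comp_apply, LinearMap.rTensor_comp_apply]

/-- The linear algebra form of the Künneth argument: `h` is the part of a cocycle of the product
cover along the first factor, `c` the part along the second; if both axes give coboundaries, so does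
the cocycle. -/
theorem exists_primitive (oneA : ∀ i, A i) (oneB : ∀ a, B a)
    (honeA : ∀ i j, rl i j (oneA i) = rr i j (oneA j))
    (hkerA : ∀ x : ∀ i, A i, (∀ i j, rl i j (x i) = rr i j (x j)) → ∃ t : k, ∀ i, x i = t • oneA i)
    (hkerB : ∀ x : ∀ a, B a, (∀ a b, sl a b (x a) = sr a b (x b)) → ∃ t : k, ∀ a, x a = t • oneB a)
    (i₀ : ι) (evA : A i₀ →ₗ[k] k) (hevA : evA (oneA i₀) = 1)
    (a₀ : κ) (evB : B a₀ →ₗ[k] k) (hevB : evB (oneB a₀) = 1)
    (h : ∀ a i j, A2 i j ⊗[k] B a) (c : ∀ i a b, A i ⊗[k] B2 a b)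
    (hrel : ∀ i j a b, (sl a b).lTensor _ (h a i j) + (rr i j).rTensor _ (c j a b) =
      (rl i j).rTensor _ (c i a b) + (sr a b).lTensor _ (h b i j))
    (hX : ∃ e : ∀ i, A i, ∀ i j, cutR evB (h a₀ i j) = rr i j (e j) - rl i j (e i))
    (hY : ∃ e : ∀ a, B a, ∀ a b, cutL evA (c i₀ a b) = sr a b (e b) - sl a b (e a)) :
    ∃ g : ∀ i a, A i ⊗[k] B a,
      (∀ a i j, h a i j = (rr i j).rTensor _ (g j a) - (rl i j).rTensor _ (g i a)) ∧
      (∀ i a b, c i a b = (sr a b).lTensor _ (g i b) - (sl a b).lTensor _ (g i a)) := by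
  classical
  let d := coboundary rl rr
  -- the components assembled
  choose H hH using fun a => rTensor_proj_bijective.surjective (fun p : ι × ι => h a p.1 p.2)
  replace hH : ∀ a (p : ι × ι),
      (LinearMap.proj p : (∀ p : ι × ι, A2 p.1 p.2) →ₗ[k] _).rTensor (B a) (H a) = h a p.1 p.2 :=
    fun a p => congrFun (hH a) p
  choose C hC using fun a b => rTensor_proj_bijective.surjective (fun i : ι => c i a b)
  replace hC : ∀ a b i, (LinearMap.proj i : (∀ i, A i) →ₗ[k] _).rTensor (B2 a b) (C a b) =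
      c i a b := fun a b i => congrFun (hC a b) i
  have hglue : ∀ a b, (sl a b).lTensor _ (H a) - (sr a b).lTensor _ (H b) =
      -(d.rTensor _ (C a b)) := by
    intro a b
    refine tensor_pi_ext fun p => ?_
    rw [map_sub, map_neg, proj_coboundary, hC, hC, tensor_comm, tensor_comm, hH, hH,
      sub_eq_iff_eq_add, neg_sub]
    rw [sub_add_eq_add_sub, eq_sub_iff_add_eq]
    exact hrel p.1 p.2 a b
  -- the class in `H¹ ⊗ B` vanishes
  obtain ⟨eX, heX⟩ := hX
  have hzero : ∀ φ : (∀ p : ι × ι, A2 p.1 p.2) →ₗ[k] k, φ ∘ₗ d = 0 → ∀ a, cutL φ (H a) = 0 := by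
    intro φ hφ
    obtain ⟨t, ht⟩ := hkerB (fun a => cutL φ (H a)) fun a b => by
      rw [← sub_eq_zero, ← cutL_lTensor, ← cutL_lTensor, ← map_sub, hglue, map_neg, cutL_rTensor,
        hφ]
      simp [cutL]
    have h1 : cutR evB (H a₀) = d eX := by
      funext p
      rw [show cutR evB (H a₀) p = cutR evB
        ((LinearMap.proj p : (∀ p : ι × ι, A2 p.1 p.2) →ₗ[k] _).rTensor _ (H a₀)) from
          (cutR_rTensor evB (LinearMap.proj p) (H a₀)).symm, hH, heX]
      rfl
    have h2 : evB (cutL φ (H a₀)) = 0 := by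
      rw [apply_cutL, h1]
      exact LinearMap.congr_fun hφ eX
    rw [ht, map_smul, hevB, smul_eq_mul, mul_one] at h2
    intro a
    rw [ht, h2, zero_smul]
  have hex : ∀ a, ∃ G : (∀ i, A i) ⊗[k] B a, d.rTensor _ G = H a := by
    intro a
    refine (rTensor_exact (B a) (LinearMap.exact_map_mkQ_range d)
      (Submodule.mkQ_surjective _) (H a)).1 (eq_zero_of_cutL fun φ => ?_)
    rw [cutL_rTensor]
    refine hzero _ (LinearMap.ext fun x => ?_) a
    show φ (Submodule.Quotient.mk (d x)) = 0
    rw [(Submodule.Quotient.mk_eq_zero _).2 (LinearMap.mem_range_self d x), map_zero]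
  choose G hG using hex
  -- what is left is constant along the first factor
  let g' : ∀ i a, A i ⊗[k] B a := fun i a => (LinearMap.proj i).rTensor _ (G a)
  have hg' : ∀ a i j, h a i j = (rr i j).rTensor _ (g' j a) - (rl i j).rTensor _ (g' i a) := by
    intro a i j
    rw [← hH a (i, j), ← hG a]
    exact proj_coboundary rl rr _ _
  let R : ∀ a b, (∀ i, A i) ⊗[k] B2 a b := fun a b =>
    C a b - ((sr a b).lTensor _ (G b) - (sl a b).lTensor _ (G a))
  have hR : ∀ a b, d.rTensor _ (R a b) = 0 := by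
    intro a b
    simp only [R, map_sub]
    rw [tensor_comm, tensor_comm, hG, hG,
      sub_eq_zero, ← neg_inj, ← hglue, neg_sub]
  have hexact : Function.Exact (LinearMap.toSpanSingleton k (∀ i, A i) oneA) d := by
    intro x
    refine ⟨fun hx => ?_, ?_⟩
    · obtain ⟨t, ht⟩ := hkerA x fun i j => (sub_eq_zero.1 (congrFun hx (i, j))).symm
      exact ⟨t, funext fun i => (ht i).symm⟩
    · rintro ⟨t, rfl⟩
      rw [LinearMap.toSpanSingleton_apply, map_smul]
      refine smul_eq_zero_of_right _ (funext fun p => ?_)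
      exact sub_eq_zero.2 (honeA p.1 p.2).symm
  have hconst : ∀ a b, ∃ s : B2 a b, ∀ i, c i a b =
      ((sr a b).lTensor _ (g' i b) - (sl a b).lTensor _ (g' i a)) + oneA i ⊗ₜ s := by
    intro a b
    obtain ⟨w, hw⟩ := (Module.Flat.rTensor_exact (B2 a b) hexact (R a b)).1 (hR a b)
    obtain ⟨s, rfl⟩ := (TensorProduct.lid k (B2 a b)).symm.surjective w
    refine ⟨s, fun i => ?_⟩
    have h1 := congrArg ((LinearMap.proj i : (∀ i, A i) →ₗ[k] _).rTensor (B2 a b)) hw
    simp only [R, map_sub, TensorProduct.lid_symm_apply, LinearMap.rTensor_tmul,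
      LinearMap.toSpanSingleton_apply, one_smul, LinearMap.proj_apply, hC] at h1
    rw [h1, tensor_comm, tensor_comm]
    exact (add_sub_cancel _ _).symm
  choose s hs using hconst
  obtain ⟨eY, heY⟩ := hY
  let e' : ∀ a, B a := fun a => eY a - cutL evA (g' i₀ a)
  have hs' : ∀ a b, s a b = sr a b (e' b) - sl a b (e' a) := by
    intro a b
    have h1 := heY a b
    rw [hs, map_add, map_sub, cutL_lTensor, cutL_lTensor, cutL_tmul, hevA, one_smul] at h1
    simp only [e', map_sub]
    rw [eq_sub_of_add_eq' h1]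
    abel
  refine ⟨fun i a => g' i a + oneA i ⊗ₜ e' a, fun a i j => ?_, fun i a b => ?_⟩
  · rw [hg', map_add, map_add, LinearMap.rTensor_tmul, LinearMap.rTensor_tmul, honeA,
      add_sub_add_right_eq_sub]
  · rw [hs, hs', map_add, map_add, LinearMap.lTensor_tmul, LinearMap.lTensor_tmul,
      TensorProduct.tmul_sub]
    abel

end kuenneth

end Groth.Abvar.Cube
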