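import Groth.Agent.Abvar.Cube.Product
import Groth.Agent.Abvar.Cube.KuennethAlg
import Groth.Agent.PicAux.Cocycle

/-!
# Künneth for the first cohomology of a product of two schemes with constant global functions

A 1-cocycle of functions for a product of affine covers which is a coboundary on the two axes
through rational points is a coboundary.
-/

universe u

open CategoryTheory Limits MonoidalCategory CartesianMonoidalCategory AlgebraicGeometry
  TopologicalSpace Opposite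
open scoped TensorProduct
open Groth.PicAux (resX resX_resX resX_self resX_ext resX_glue)

namespace Groth.Abvar.Cube

variable {k : Type u} [CommRing k] {X Y : Over (Spec (CommRingCat.of k))}

/-- Restriction as a linear map. -/
noncomputable abbrev resA {P : Scheme.{u}} [P.Over (Spec (CommRingCat.of k))] {V W : P.Opens}
    (h : V ≤ W) : fnA k W →ₗ[k] fnA k V :=
  CohBase.secRes k (Coh.structureModule P) h

theorem prodFun_res_left {U U' : X.left.Opens} {V : Y.left.Opens} (hU : U' ≤ U)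
    (z : fnA k U ⊗[k] fnA k V) :
    resX (X ⊗ Y).left (box_mono hU le_rfl) (prodFun U V z) =
      prodFun U' V ((resA hU).rTensor _ z) := by
  induction z using TensorProduct.induction_on with
  | zero => simp
  | tmul s t =>
    rw [LinearMap.rTensor_tmul, prodFun_tmul, prodFun_tmul, map_mul, resX_appLE, resX_appLE,
      ofA_res, appLE_resX]
  | add x y hx hy => simp only [map_add, hx, hy]

theorem prodFun_res_right {U : X.left.Opens} {V V' : Y.left.Opens} (hV : V' ≤ V)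
    (z : fnA k U ⊗[k] fnA k V) :
    resX (X ⊗ Y).left (box_mono le_rfl hV) (prodFun U V z) =
      prodFun U V' ((resA hV).lTensor _ z) := by
  induction z using TensorProduct.induction_on with
  | zero => simp
  | tmul s t =>
    rw [LinearMap.lTensor_tmul, prodFun_tmul, prodFun_tmul, map_mul, resX_appLE, resX_appLE,
      ofA_res, appLE_resX]
  | add x y hx hy => simp only [map_add, hx, hy]

/-- Restriction of a product function to a vertical slice. -/
theorem slice_prodFun_left (x : 𝟙_ (Over (Spec (CommRingCat.of k))) ⟶ X) {U : X.left.Opens}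
    {V V' : Y.left.Opens} (h : ⊤ ≤ x.left ⁻¹ᵁ U)
    (e : V' ≤ (lift (toUnit Y ≫ x) (𝟙 Y)).left ⁻¹ᵁ box X Y U V) (hV : V' ≤ V)
    (z : fnA k U ⊗[k] fnA k V) :
    (lift (toUnit Y ≫ x) (𝟙 Y)).left.appLE (box X Y U V) V' e (prodFun U V z) =
      ofA (resA hV (TensorProduct.lid k (fnA k V) ((evPt x h).rTensor (fnA k V) z))) := by
  induction z using TensorProduct.induction_on with
  | zero => simp only [map_zero]; rfl
  | tmul s t =>
    rw [prodFun_tmul, map_mul, LinearMap.rTensor_tmul, TensorProduct.lid_tmul, map_smul, ofA_smul,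
      ofA_res]
    have h1 : ∀ {Z : Over (Spec (CommRingCat.of k))} (p : X ⊗ Y ⟶ Z) (r : Y ⟶ Z)
        (hr : lift (toUnit Y ≫ x) (𝟙 Y) ≫ p = r) {S : Z.left.Opens}
        (ep : box X Y U V ≤ p.left ⁻¹ᵁ S) (w : Γ(Z.left, S)),
        ∃ er, (lift (toUnit Y ≫ x) (𝟙 Y)).left.appLE (box X Y U V) V' e
          (p.left.appLE S (box X Y U V) ep w) = r.left.appLE S V' er w := by
      rintro Z p r rfl S ep w
      exact ⟨_, congr($(Scheme.Hom.appLE_comp_appLE _ p.left S (box X Y U V) V' ep e) w)⟩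
    obtain ⟨e1, q1⟩ := h1 (fst X Y) (toUnit Y ≫ x) (lift_fst _ _) inf_le_left (ofA s)
    obtain ⟨e2, q2⟩ := h1 (snd X Y) (𝟙 Y) (lift_snd _ _) inf_le_right (ofA t)
    rw [q1, q2, appLE_evPt x h e1]
    congr 1
  | add a b ha hb =>
    simp only [map_add, ha, hb]
    rfl

theorem evPt_one (y : 𝟙_ (Over (Spec (CommRingCat.of k))) ⟶ Y) {V : Y.left.Opens}
    (h : ⊤ ≤ y.left ⁻¹ᵁ V) : evPt y h (toA k 1) = 1 := by
  show (Scheme.ΓSpecIso (CommRingCat.of k)).hom (y.left.appLE V ⊤ h 1) = 1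
  erw [map_one, map_one]

/-- Compatible families of functions on a cover are constants, if the global functions are. -/
theorem exists_const_of_compat {P : Scheme.{u}} [P.Over (Spec (CommRingCat.of k))]
    (hP : Function.Surjective (Coh.toGlobal (P ↘ Spec (CommRingCat.of k))))
    {ι : Type*} (U : ι → P.Opens) (hUc : ⊤ ≤ iSup U) (x : ∀ i, fnA k (U i))
    (h : ∀ i j, resA (inf_le_left : U i ⊓ U j ≤ U i) (x i) =
      resA (inf_le_right : U i ⊓ U j ≤ U j) (x j)) :
    ∃ t : k, ∀ i, x i = t • toA k 1 := by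
  obtain ⟨y, hy, -⟩ := resX_glue (U := ⊤) U (fun i => le_top) hUc (fun i => ofA (x i))
    fun i j => h i j
  obtain ⟨t, rfl⟩ := hP y
  refine ⟨t, fun i => ?_⟩
  show ofA (x i) = ofA (t • toA k (1 : Γ(P, U i)))
  rw [ofA_smul, ← hy i]
  exact (mul_one _).symm

end Groth.Abvar.Cube

namespace Groth.Abvar.Cube

variable {k : Type u} [Field k] {X Y : Over (Spec (CommRingCat.of k))}

/-- Künneth: a cocycle of functions on a product cover which is a coboundary on both axes is a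
coboundary. -/
theorem exists_primitive_box {ι κ : Type*} [Finite ι]
    {U : ι → X.left.Opens} (hU : ∀ i, IsAffineOpen (U i))
    (hU2 : ∀ i j, IsAffineOpen (U i ⊓ U j)) (hUc : ⊤ ≤ iSup U)
    {V : κ → Y.left.Opens} (hV : ∀ a, IsAffineOpen (V a))
    (hV2 : ∀ a b, IsAffineOpen (V a ⊓ V b)) (hVc : ⊤ ≤ iSup V)
    (hX0 : Function.Surjective (Coh.toGlobal X.hom))
    (hY0 : Function.Surjective (Coh.toGlobal Y.hom))
    (x₀ : 𝟙_ (Over (Spec (CommRingCat.of k))) ⟶ X) {i₀ : ι} (hi₀ : ⊤ ≤ x₀.left ⁻¹ᵁ U i₀)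
    (y₀ : 𝟙_ (Over (Spec (CommRingCat.of k))) ⟶ Y) {a₀ : κ} (ha₀ : ⊤ ≤ y₀.left ⁻¹ᵁ V a₀)
    (f : ∀ m n : ι × κ, Γ((X ⊗ Y).left, box X Y (U m.1 ⊓ U n.1) (V m.2 ⊓ V n.2)))
    (hf : ∀ (m n p : ι × κ) {W : (X ⊗ Y).left.Opens}
      (h1 : W ≤ box X Y (U m.1 ⊓ U n.1) (V m.2 ⊓ V n.2))
      (h2 : W ≤ box X Y (U n.1 ⊓ U p.1) (V n.2 ⊓ V p.2))
      (h3 : W ≤ box X Y (U m.1 ⊓ U p.1) (V m.2 ⊓ V p.2)),
      resX _ h1 (f m n) + resX _ h2 (f n p) = resX _ h3 (f m p))
    (hX : ∃ e : ∀ i, Γ(X.left, U i), ∀ i j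
      (h : U i ⊓ U j ≤ (lift (𝟙 X) (toUnit X ≫ y₀)).left ⁻¹ᵁ
        box X Y (U i ⊓ U j) (V a₀ ⊓ V a₀)),
      (lift (𝟙 X) (toUnit X ≫ y₀)).left.appLE _ _ h (f (i, a₀) (j, a₀)) =
        resX X.left inf_le_right (e j) - resX X.left inf_le_left (e i))
    (hY : ∃ e : ∀ a, Γ(Y.left, V a), ∀ a b
      (h : V a ⊓ V b ≤ (lift (toUnit Y ≫ x₀) (𝟙 Y)).left ⁻¹ᵁ
        box X Y (U i₀ ⊓ U i₀) (V a ⊓ V b)),
      (lift (toUnit Y ≫ x₀) (𝟙 Y)).left.appLE _ _ h (f (i₀, a) (i₀, b)) =
        resX Y.left inf_le_right (e b) - resX Y.left inf_le_left (e a)) :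
    ∃ g : ∀ m : ι × κ, Γ((X ⊗ Y).left, box X Y (U m.1) (V m.2)), ∀ m n,
      f m n = resX _ (box_mono inf_le_right inf_le_right) (g n) -
        resX _ (box_mono inf_le_left inf_le_left) (g m) := by
  -- the two parts of the cocycle
  have hXe : ∀ (i j : ι) (a : κ), box X Y (U i ⊓ U j) (V a) ≤
      box X Y (U i ⊓ U j) (V a ⊓ V a) := fun i j a => box_mono le_rfl (le_inf le_rfl le_rfl)
  have hYe : ∀ (i : ι) (a b : κ), box X Y (U i) (V a ⊓ V b) ≤
      box X Y (U i ⊓ U i) (V a ⊓ V b) := fun i a b => box_mono (le_inf le_rfl le_rfl) le_rfl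
  choose h hh using fun a i j => (prodFun_bijective (hU2 i j) (hV a)).2
    (resX _ (hXe i j a) (f (i, a) (j, a)))
  choose c hc using fun i a b => (prodFun_bijective (hU i) (hV2 a b)).2
    (resX _ (hYe i a b) (f (i, a) (i, b)))
  obtain ⟨eX, heX⟩ := hX
  obtain ⟨eY, heY⟩ := hY
  refine Exists.elim (exists_primitive (k := k)
    (A := fun i => fnA k (U i)) (A2 := fun i j => fnA k (U i ⊓ U j))
    (B := fun a => fnA k (V a)) (B2 := fun a b => fnA k (V a ⊓ V b))
    (fun i j => resA inf_le_left) (fun i j => resA inf_le_right)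
    (fun a b => resA inf_le_left) (fun a b => resA inf_le_right)
    (fun i => toA k 1) (fun a => toA k 1)
    (fun i j => (map_one (resX X.left inf_le_left)).trans (map_one (resX X.left inf_le_right)).symm)
    (exists_const_of_compat hX0 U hUc) (exists_const_of_compat hY0 V hVc)
    i₀ (evPt x₀ hi₀) (evPt_one x₀ hi₀) a₀ (evPt y₀ ha₀) (evPt_one y₀ ha₀) h c ?_ ?_ ?_) ?_
  · intro i j a b
    apply (prodFun_bijective (hU2 i j) (hV2 a b)).1
    simp only [map_add, ← prodFun_res_left, ← prodFun_res_right, hh, hc, resX_resX]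
    rw [hf (i, a) (j, a) (j, b) _ _ (le_refl _), hf (i, a) (i, b) (j, b) _ _ (le_refl _)]
  · refine ⟨fun i => toA k (eX i), fun i j => ?_⟩
    show ofA _ = resX X.left inf_le_right (eX j) - resX X.left inf_le_left (eX i)
    have he : U i ⊓ U j ≤ (lift (𝟙 X) (toUnit X ≫ y₀)).left ⁻¹ᵁ box X Y (U i ⊓ U j) (V a₀) := by
      rintro x hx
      refine ⟨?_, ?_⟩
      · show (lift (𝟙 X) (toUnit X ≫ y₀) ≫ fst X Y).left x ∈ (U i ⊓ U j : X.left.Opens)
        rw [lift_fst]
        exact hx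
      · show (lift (𝟙 X) (toUnit X ≫ y₀) ≫ snd X Y).left x ∈ V a₀
        rw [lift_snd]
        exact ha₀ (x := (toUnit X).left x) trivial
    refine Eq.trans ?_
      (heX i j (he.trans ((lift (𝟙 X) (toUnit X ≫ y₀)).left.preimage_mono (hXe i j a₀))))
    rw [← appLE_resX _ (hXe i j a₀) he, ← hh, slice_prodFun y₀ ha₀ he le_rfl]
    exact (resX_self le_rfl _).symm
  · refine ⟨fun a => toA k (eY a), fun a b => ?_⟩
    show ofA _ = resX Y.left inf_le_right (eY b) - resX Y.left inf_le_left (eY a)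
    have he : V a ⊓ V b ≤ (lift (toUnit Y ≫ x₀) (𝟙 Y)).left ⁻¹ᵁ box X Y (U i₀) (V a ⊓ V b) := by
      rintro x hx
      refine ⟨?_, ?_⟩
      · show (lift (toUnit Y ≫ x₀) (𝟙 Y) ≫ fst X Y).left x ∈ U i₀
        rw [lift_fst]
        exact hi₀ (x := (toUnit Y).left x) trivial
      · show (lift (toUnit Y ≫ x₀) (𝟙 Y) ≫ snd X Y).left x ∈ (V a ⊓ V b : Y.left.Opens)
        rw [lift_snd]
        exact hx
    refine Eq.trans ?_
      (heY a b (he.trans ((lift (toUnit Y ≫ x₀) (𝟙 Y)).left.preimage_mono (hYe i₀ a b))))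
    rw [← appLE_resX _ (hYe i₀ a b) he, ← hc, slice_prodFun_left x₀ hi₀ he le_rfl]
    exact (resX_self le_rfl _).symm
  · rintro g ⟨hg1, hg2⟩
    refine ⟨fun m => prodFun (U m.1) (V m.2) (g m.1 m.2), fun m n => ?_⟩
    obtain ⟨i, a⟩ := m
    obtain ⟨j, b⟩ := n
    have hW : ∀ {W : (X ⊗ Y).left.Opens}, W = box X Y (U i ⊓ U j) (V a ⊓ V b) →
        W ≤ box X Y (U i ⊓ U i) (V a ⊓ V b) ∧ W ≤ box X Y (U i ⊓ U j) (V b ⊓ V b) := by
      rintro W rfl
      exact ⟨box_mono (le_inf inf_le_left inf_le_left) le_rfl,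
        box_mono le_rfl (le_inf inf_le_right inf_le_right)⟩
    have h3 := hf (i, a) (i, b) (j, b) (hW rfl).1 (hW rfl).2 le_rfl
    rw [resX_self] at h3
    rw [← h3]
    have q1 : resX _ (hW rfl).1 (f (i, a) (i, b)) =
        resX _ (box_mono inf_le_left le_rfl) (resX _ (hYe i a b) (f (i, a) (i, b))) := by
      rw [resX_resX]
    have q2 : resX _ (hW rfl).2 (f (i, b) (j, b)) =
        resX _ (box_mono le_rfl inf_le_right) (resX _ (hXe i j b) (f (i, b) (j, b))) := by
      rw [resX_resX]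
    rw [q1, q2, ← hc, ← hh, hg1, hg2]
    simp only [map_sub, ← prodFun_res_left, ← prodFun_res_right, resX_resX]
    try abel

end Groth.Abvar.Cube
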