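import Groth.Agent.Abvar.Seesaw.Descend
import Groth.Agent.Abvar.Cube.InfGeom

/-!
# The theorem of the cube over a field
-/

universe u

open CategoryTheory Limits MonoidalCategory CartesianMonoidalCategory AlgebraicGeometry
  TopologicalSpace

namespace Groth.Abvar.Cube

open Seesaw
open Groth.PicAux (Gen)

variable {k : Type u} [Field k] {X Y Z : Over (Spec (CommRingCat.of k))}

/-- Base change of a product. -/
theorem isPullback_prod {X Y : Over (Spec (CommRingCat.of k))} {C : Type u} [CommRing C]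
    (a : Spec (CommRingCat.of C) ⟶ Spec (CommRingCat.of k)) :
    ∃ h : (Over.mk (pullback.snd X.hom a) ⊗ Over.mk (pullback.snd Y.hom a)).left ⟶ (X ⊗ Y).left,
      h ≫ (fst X Y).left = (fst (Over.mk (pullback.snd X.hom a))
          (Over.mk (pullback.snd Y.hom a))).left ≫ pullback.fst X.hom a ∧
      h ≫ (snd X Y).left = (snd (Over.mk (pullback.snd X.hom a))
          (Over.mk (pullback.snd Y.hom a))).left ≫ pullback.fst Y.hom a ∧
      IsPullback h (Over.mk (pullback.snd X.hom a) ⊗ Over.mk (pullback.snd Y.hom a)).hom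
        (X ⊗ Y).hom a := by
  let XC := Over.mk (pullback.snd X.hom a)
  let YC := Over.mk (pullback.snd Y.hom a)
  have hXY : IsPullback (fst X Y).left (snd X Y).left X.hom Y.hom :=
    IsPullback.of_hasPullback _ _
  have hC : IsPullback (fst XC YC).left (snd XC YC).left XC.hom YC.hom :=
    IsPullback.of_hasPullback _ _
  have hX : IsPullback (pullback.fst X.hom a) XC.hom X.hom a := IsPullback.of_hasPullback _ _
  have hY : IsPullback (pullback.fst Y.hom a) YC.hom Y.hom a := IsPullback.of_hasPullback _ _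
  have h1 : IsPullback ((fst XC YC).left ≫ pullback.fst X.hom a) (snd XC YC).left X.hom
      (pullback.fst Y.hom a ≫ Y.hom) := by
    rw [show pullback.fst Y.hom a ≫ Y.hom = YC.hom ≫ a from hY.w]
    exact hC.paste_horiz hX
  let h := hXY.lift ((fst XC YC).left ≫ pullback.fst X.hom a)
    ((snd XC YC).left ≫ pullback.fst Y.hom a) (by rw [Category.assoc]; exact h1.w)
  refine ⟨h, hXY.lift_fst _ _ _, hXY.lift_snd _ _ _, ?_⟩
  have h2 : IsPullback h (snd XC YC).left (snd X Y).left (pullback.fst Y.hom a) :=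
    IsPullback.of_right (by rw [hXY.lift_fst]; exact h1) (hXY.lift_snd _ _ _) hXY
  have h3 := h2.paste_vert hY
  rw [Over.w (snd X Y), Over.w (snd XC YC)] at h3
  exact h3

/-- The projection of a triple product onto the last factor, as a base change. -/
theorem isPullback_triple :
    IsPullback (lift (fst X (Y ⊗ Z)) (snd X (Y ⊗ Z) ≫ fst Y Z)).left
      ((snd X (Y ⊗ Z)).left ≫ (snd Y Z).left) (X ⊗ Y).hom Z.hom := by
  have h1 : IsPullback (fst X (Y ⊗ Z)).left (snd X (Y ⊗ Z)).left X.hom (Y ⊗ Z).hom :=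
    IsPullback.of_hasPullback _ _
  have h2 : IsPullback (fst Y Z).left (snd Y Z).left Y.hom Z.hom := IsPullback.of_hasPullback _ _
  have h3 : IsPullback (fst X Y).left (snd X Y).left X.hom Y.hom := IsPullback.of_hasPullback _ _
  have e1 : (lift (fst X (Y ⊗ Z)) (snd X (Y ⊗ Z) ≫ fst Y Z)).left ≫ (fst X Y).left =
      (fst X (Y ⊗ Z)).left := congrArg Over.Hom.left (lift_fst _ _)
  have e2 : (lift (fst X (Y ⊗ Z)) (snd X (Y ⊗ Z) ≫ fst Y Z)).left ≫ (snd X Y).left =
      (snd X (Y ⊗ Z)).left ≫ (fst Y Z).left := congrArg Over.Hom.left (lift_snd _ _)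
  have h4 : IsPullback (lift (fst X (Y ⊗ Z)) (snd X (Y ⊗ Z) ≫ fst Y Z)).left (snd X (Y ⊗ Z)).left
      (snd X Y).left (fst Y Z).left :=
    IsPullback.of_right (by rw [e1, Over.w (fst Y Z)]; exact h1) e2 h3
  have h5 := h4.paste_vert h2
  rw [Over.w (snd X Y)] at h5
  exact h5

variable [IsProper X.hom] [GeometricallyReduced X.hom] [GeometricallyConnected X.hom]
  [IsProper Y.hom] [GeometricallyReduced Y.hom] [GeometricallyConnected Y.hom]
  (x₀ : 𝟙_ (Over (Spec (CommRingCat.of k))) ⟶ X) (y₀ : 𝟙_ (Over (Spec (CommRingCat.of k))) ⟶ Y)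

/-- A module trivial on two families of slices is trivial on the thickenings of a slice where it is
trivial. -/
theorem trivial_thickening (L : (X ⊗ Y ⊗ Z).left.Modules) (hL : PicF.IsInvertible L)
    (hx : Nonempty ((Scheme.Modules.pullback (lift (toUnit (Y ⊗ Z) ≫ x₀) (𝟙 (Y ⊗ Z))).left).obj L ≅
      Coh.structureModule (Y ⊗ Z).left))
    (hy : Nonempty ((Scheme.Modules.pullback
      (lift (fst X Z) (lift (toUnit (X ⊗ Z) ≫ y₀) (snd X Z))).left).obj L ≅
      Coh.structureModule (X ⊗ Z).left))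
    {C : Type u} [CommRing C] [IsLocalRing C] [IsArtinianRing C]
    (c : Spec (CommRingCat.of C) ⟶ Z.left)
    (ht : FibTriv ((snd X (Y ⊗ Z)).left ≫ (snd Y Z).left) L (c (IsLocalRing.closedPoint C)))
    {W : Scheme.{u}} {g : W ⟶ (X ⊗ Y ⊗ Z).left} {q : W ⟶ Spec (CommRingCat.of C)}
    (H : IsPullback g q ((snd X (Y ⊗ Z)).left ≫ (snd Y Z).left) c) :
    Nonempty ((Scheme.Modules.pullback g).obj L ≅ Coh.structureModule W) := by
  let a := c ≫ Z.hom
  let XC := Over.mk (pullback.snd X.hom a)
  let YC := Over.mk (pullback.snd Y.hom a)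
  obtain ⟨h', hfst, hsnd, hh'⟩ := isPullback_prod (X := X) (Y := Y) a
  let W' : Over (Spec (CommRingCat.of k)) := Over.mk ((XC ⊗ YC).hom ≫ a)
  let px : W' ⟶ X := Over.homMk ((fst XC YC).left ≫ pullback.fst X.hom a) (by
    rw [Category.assoc, pullback.condition, ← Category.assoc]
    exact congrArg (· ≫ a) (Over.w (fst XC YC)))
  let py : W' ⟶ Y := Over.homMk ((snd XC YC).left ≫ pullback.fst Y.hom a) (by
    rw [Category.assoc, pullback.condition, ← Category.assoc]
    exact congrArg (· ≫ a) (Over.w (snd XC YC)))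
  let pz : W' ⟶ Z := Over.homMk ((XC ⊗ YC).hom ≫ c) (Category.assoc _ _ _)
  let hW := lift px (lift py pz)
  have eρ : hW.left ≫ ((snd X (Y ⊗ Z)).left ≫ (snd Y Z).left) = (XC ⊗ YC).hom ≫ c := by
    have : hW ≫ snd X (Y ⊗ Z) ≫ snd Y Z = pz := by simp [hW]
    exact congrArg Over.Hom.left this
  have eφ : hW.left ≫ (lift (fst X (Y ⊗ Z)) (snd X (Y ⊗ Z) ≫ fst Y Z)).left = h' := by
    have e1 : hW ≫ lift (fst X (Y ⊗ Z)) (snd X (Y ⊗ Z) ≫ fst Y Z) ≫ fst X Y = px := by simp [hW]
    have e2 : hW ≫ lift (fst X (Y ⊗ Z)) (snd X (Y ⊗ Z) ≫ fst Y Z) ≫ snd X Y = py := by simp [hW]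
    refine pullback.hom_ext ?_ ?_
    · rw [Category.assoc]
      exact (congrArg Over.Hom.left e1).trans hfst.symm
    · rw [Category.assoc]
      exact (congrArg Over.Hom.left e2).trans hsnd.symm
  have Hh : IsPullback hW.left (XC ⊗ YC).hom ((snd X (Y ⊗ Z)).left ≫ (snd Y Z).left) c :=
    IsPullback.of_right (by rw [eφ]; exact hh') eρ isPullback_triple
  refine trivial_of_factor (Hh.lift g q H.w) (Hh.lift_fst _ _ _) ?_
  -- sections of the base changes
  let xC : 𝟙_ (Over (Spec (CommRingCat.of C))) ⟶ XC :=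
    Over.homMk (pullback.lift (a ≫ x₀.left) (𝟙 _)
      (by rw [Category.assoc, Over.w x₀]; exact (Category.comp_id a).trans (Category.id_comp a).symm))
      (pullback.lift_snd _ _ _)
  let yC : 𝟙_ (Over (Spec (CommRingCat.of C))) ⟶ YC :=
    Over.homMk (pullback.lift (a ≫ y₀.left) (𝟙 _)
      (by rw [Category.assoc, Over.w y₀]; exact (Category.comp_id a).trans (Category.id_comp a).symm))
      (pullback.lift_snd _ _ _)
  have : GeometricallyReduced XC.hom := inferInstanceAs (GeometricallyReduced (pullback.snd _ _))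
  have : GeometricallyConnected XC.hom := inferInstanceAs (GeometricallyConnected (pullback.snd _ _))
  have : GeometricallyReduced YC.hom := inferInstanceAs (GeometricallyReduced (pullback.snd _ _))
  have : GeometricallyConnected YC.hom := inferInstanceAs (GeometricallyConnected (pullback.snd _ _))
  have : IsProper XC.hom := inferInstanceAs (IsProper (pullback.snd _ _))
  have : IsProper YC.hom := inferInstanceAs (IsProper (pullback.snd _ _))
  have : Flat XC.hom := inferInstanceAs (Flat (pullback.snd _ _))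
  have : Flat YC.hom := inferInstanceAs (Flat (pullback.snd _ _))
  have := locallyOfFinitePresentation_of_isNoetherian X.hom
  have := locallyOfFinitePresentation_of_isNoetherian Y.hom
  have : LocallyOfFinitePresentation XC.hom :=
    inferInstanceAs (LocallyOfFinitePresentation (pullback.snd _ _))
  have : LocallyOfFinitePresentation YC.hom :=
    inferInstanceAs (LocallyOfFinitePresentation (pullback.snd _ _))
  -- the slices
  have hX : Nonempty ((Scheme.Modules.pullback (lift (𝟙 XC) (toUnit XC ≫ yC)).left).obj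
      ((Scheme.Modules.pullback hW.left).obj L) ≅ Coh.structureModule XC.left) := by
    let M : Over (Spec (CommRingCat.of k)) := Over.mk (XC.hom ≫ a)
    let m : M ⟶ W' := Over.homMk (lift (𝟙 XC) (toUnit XC ≫ yC)).left (by
      show _ ≫ (XC ⊗ YC).hom ≫ a = XC.hom ≫ a
      rw [← Category.assoc, Over.w (lift (𝟙 XC) (toUnit XC ≫ yC))])
    let mx : M ⟶ X := Over.homMk (pullback.fst X.hom a) pullback.condition
    let mz : M ⟶ Z := Over.homMk (XC.hom ≫ c) (Category.assoc _ _ _)
    have e1 : m ≫ px = mx := by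
      ext : 1
      show (lift (𝟙 XC) (toUnit XC ≫ yC)).left ≫ (fst XC YC).left ≫ _ = _
      rw [← Category.assoc, ← Over.comp_left, lift_fst]
      exact Category.id_comp _
    have e2 : m ≫ py = toUnit M ≫ y₀ := by
      ext : 1
      show (lift (𝟙 XC) (toUnit XC ≫ yC)).left ≫ (snd XC YC).left ≫ _ = _
      rw [← Category.assoc, ← Over.comp_left, lift_snd, Over.comp_left, Category.assoc,
        Over.comp_left, Over.toUnit_left, Over.toUnit_left]
      exact (congrArg (XC.hom ≫ ·) (pullback.lift_fst _ _ _)).trans (Category.assoc _ _ _).symm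
    have e3 : m ≫ pz = mz := by
      ext : 1
      show (lift (𝟙 XC) (toUnit XC ≫ yC)).left ≫ (XC ⊗ YC).hom ≫ c = _
      rw [← Category.assoc, Over.w (lift (𝟙 XC) (toUnit XC ≫ yC))]
      rfl
    have e : m ≫ hW = lift mx mz ≫ lift (fst X Z) (lift (toUnit (X ⊗ Z) ≫ y₀) (snd X Z)) := by
      simp only [hW, comp_lift, e1, e2, e3, lift_fst, lift_snd, ← Category.assoc, comp_toUnit]
    obtain ⟨i⟩ := trivial_of_factor (g' := m.left ≫ hW.left) (lift mx mz).left
      (congrArg Over.Hom.left e).symm hy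
    exact ⟨(Scheme.Modules.pullbackComp m.left hW.left).app L ≪≫ i⟩
  have hY : Nonempty ((Scheme.Modules.pullback (lift (toUnit YC ≫ xC) (𝟙 YC)).left).obj
      ((Scheme.Modules.pullback hW.left).obj L) ≅ Coh.structureModule YC.left) := by
    let M : Over (Spec (CommRingCat.of k)) := Over.mk (YC.hom ≫ a)
    let m : M ⟶ W' := Over.homMk (lift (toUnit YC ≫ xC) (𝟙 YC)).left (by
      show _ ≫ (XC ⊗ YC).hom ≫ a = YC.hom ≫ a
      rw [← Category.assoc, Over.w (lift (toUnit YC ≫ xC) (𝟙 YC))])
    let my : M ⟶ Y := Over.homMk (pullback.fst Y.hom a) pullback.condition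
    let mz : M ⟶ Z := Over.homMk (YC.hom ≫ c) (Category.assoc _ _ _)
    have e1 : m ≫ py = my := by
      ext : 1
      show (lift (toUnit YC ≫ xC) (𝟙 YC)).left ≫ (snd XC YC).left ≫ _ = _
      rw [← Category.assoc, ← Over.comp_left, lift_snd]
      exact Category.id_comp _
    have e2 : m ≫ px = toUnit M ≫ x₀ := by
      ext : 1
      show (lift (toUnit YC ≫ xC) (𝟙 YC)).left ≫ (fst XC YC).left ≫ _ = _
      rw [← Category.assoc, ← Over.comp_left, lift_fst, Over.comp_left, Category.assoc,
        Over.comp_left, Over.toUnit_left, Over.toUnit_left]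
      exact (congrArg (YC.hom ≫ ·) (pullback.lift_fst _ _ _)).trans (Category.assoc _ _ _).symm
    have e3 : m ≫ pz = mz := by
      ext : 1
      show (lift (toUnit YC ≫ xC) (𝟙 YC)).left ≫ (XC ⊗ YC).hom ≫ c = _
      rw [← Category.assoc, Over.w (lift (toUnit YC ≫ xC) (𝟙 YC))]
      rfl
    have e : m ≫ hW = lift my mz ≫ lift (toUnit (Y ⊗ Z) ≫ x₀) (𝟙 (Y ⊗ Z)) := by
      simp only [hW, comp_lift, e1, e2, e3, lift_fst, lift_snd, ← Category.assoc, comp_toUnit,
        Category.comp_id]
    obtain ⟨i⟩ := trivial_of_factor (g' := m.left ≫ hW.left) (lift my mz).left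
      (congrArg Over.Hom.left e).symm hx
    exact ⟨(Scheme.Modules.pullbackComp m.left hW.left).app L ≪≫ i⟩
  -- the closed fibre
  let K := C ⧸ IsLocalRing.maximalIdeal C
  let sK := Spec.map (CommRingCat.ofHom (algebraMap C K))
  let _ : Field K := Ideal.Quotient.field (IsLocalRing.maximalIdeal C)
  have hK : Nonempty ((Scheme.Modules.pullback (pullback.fst (XC ⊗ YC).hom sK)).obj
      ((Scheme.Modules.pullback hW.left).obj L) ≅ Coh.structureModule _) := by
    have hp : (sK ≫ c) (IsLocalRing.closedPoint K) = c (IsLocalRing.closedPoint C) := by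
      rw [Scheme.Hom.comp_apply]
      refine congrArg c (PrimeSpectrum.ext ?_)
      show Ideal.comap (algebraMap C K) (IsLocalRing.maximalIdeal K) = IsLocalRing.maximalIdeal C
      rw [IsLocalRing.maximalIdeal_eq_bot]
      exact Ideal.mk_ker
    obtain ⟨i⟩ := trivial_of_fibTriv (K := K) (sK ≫ c) _ hp ht
      ((IsPullback.of_hasPullback (XC ⊗ YC).hom sK).paste_horiz Hh)
    exact ⟨(Scheme.Modules.pullbackComp _ hW.left).app L ≪≫ i⟩
  exact trivial_of_artinian xC yC _ (PicAux.isInvertible_pullback _ hL) hX hY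
    (IsPullback.of_hasPullback (XC ⊗ YC).hom sK) hK

omit [IsProper X.hom] [GeometricallyReduced X.hom] [GeometricallyConnected X.hom]
  [IsProper Y.hom] [GeometricallyReduced Y.hom] [GeometricallyConnected Y.hom] in
/-- The residue field of a rational point. -/
theorem fromSpecResidueField_rational (z₀ : 𝟙_ (Over (Spec (CommRingCat.of k))) ⟶ Z) :
    ∃ d : Spec (Z.left.residueField (z₀.left (IsLocalRing.closedPoint k))) ⟶
        Spec (CommRingCat.of k),
      d ≫ z₀.left = Z.left.fromSpecResidueField (z₀.left (IsLocalRing.closedPoint k)) := by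
  let z : Spec (CommRingCat.of k) ⟶ Z.left := z₀.left
  let d := Z.left.descResidueField (Scheme.stalkClosedPointTo z)
  have hd : Spec.map d ≫ Z.left.fromSpecResidueField _ = z :=
    Scheme.descResidueField_stalkClosedPointTo_fromSpecResidueField _ _ z
  have h1 : Spec.map d ≫ (Z.left.fromSpecResidueField _ ≫ Z.hom) = 𝟙 _ := by
    rw [← Category.assoc, hd]
    exact Over.w z₀
  rw [← Spec.map_preimage (Z.left.fromSpecResidueField _ ≫ Z.hom), ← Spec.map_comp,
    ← Spec.map_id, Spec.map_inj] at h1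
  have hbij : Function.Bijective d := ⟨d.hom.injective, fun b => ⟨_, congr($(h1) b)⟩⟩
  have : IsIso d := (ConcreteCategory.isIso_iff_bijective d).2 hbij
  exact ⟨inv (Spec.map d), by rw [IsIso.inv_comp_eq]; exact hd.symm⟩

/-- A module trivial on two families of slices is trivial near every fibre where it is trivial. -/
theorem exists_gen_near_point [IsLocallyNoetherian Z.left]
    (L : (X ⊗ Y ⊗ Z).left.Modules) (hL : PicF.IsInvertible L)
    (hx : Nonempty ((Scheme.Modules.pullback (lift (toUnit (Y ⊗ Z) ≫ x₀) (𝟙 (Y ⊗ Z))).left).obj L ≅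
      Coh.structureModule (Y ⊗ Z).left))
    (hy : Nonempty ((Scheme.Modules.pullback
      (lift (fst X Z) (lift (toUnit (X ⊗ Z) ≫ y₀) (snd X Z))).left).obj L ≅
      Coh.structureModule (X ⊗ Z).left))
    (y : Z.left) (ht : FibTriv ((snd X (Y ⊗ Z)).left ≫ (snd Y Z).left) L y) :
    ∃ U : Z.left.Opens, y ∈ U ∧
      ∃ s, Gen L (((snd X (Y ⊗ Z)).left ≫ (snd Y Z).left) ⁻¹ᵁ U) s := by
  let ρ := (snd X (Y ⊗ Z)).left ≫ (snd Y Z).left
  have := locallyOfFinitePresentation_of_isNoetherian X.hom
  have := locallyOfFinitePresentation_of_isNoetherian Y.hom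
  have sqX : IsPullback (fst X (Y ⊗ Z)).left (snd X (Y ⊗ Z)).left X.hom (Y ⊗ Z).hom :=
    IsPullback.of_hasPullback _ _
  have sqY : IsPullback (fst Y Z).left (snd Y Z).left Y.hom Z.hom := IsPullback.of_hasPullback _ _
  have : IsProper (snd X (Y ⊗ Z)).left := MorphismProperty.of_isPullback sqX ‹_›
  have : Flat (snd X (Y ⊗ Z)).left :=
    MorphismProperty.of_isPullback sqX (inferInstance : Flat X.hom)
  have : LocallyOfFinitePresentation (snd X (Y ⊗ Z)).left :=
    MorphismProperty.of_isPullback sqX ‹_›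
  have : GeometricallyReduced (snd X (Y ⊗ Z)).left := MorphismProperty.of_isPullback sqX ‹_›
  have : GeometricallyConnected (snd X (Y ⊗ Z)).left := MorphismProperty.of_isPullback sqX ‹_›
  have : IsProper (snd Y Z).left := MorphismProperty.of_isPullback sqY ‹_›
  have : Flat (snd Y Z).left := MorphismProperty.of_isPullback sqY (inferInstance : Flat Y.hom)
  have : LocallyOfFinitePresentation (snd Y Z).left := MorphismProperty.of_isPullback sqY ‹_›
  have : GeometricallyReduced (snd Y Z).left := MorphismProperty.of_isPullback sqY ‹_›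
  have : GeometricallyConnected (snd Y Z).left := MorphismProperty.of_isPullback sqY ‹_›
  have : IsProper ρ := inferInstanceAs (IsProper (_ ≫ _))
  have : Flat ρ := inferInstanceAs (Flat (_ ≫ _))
  have h0 : ∀ z, H0Const ρ z := h0Const_comp _ _
  obtain ⟨_, ⟨V, hV, rfl⟩, hyV, -⟩ :=
    Z.left.isBasis_affineOpens.exists_subset_of_mem_open (Set.mem_univ y) isOpen_univ
  obtain ⟨x, hxy⟩ : y ∈ Set.range hV.fromSpec := by rw [hV.range_fromSpec]; exact hyV
  have := noetherian_of_affineOpen hV
  have H1 := (fibTriv_restrict_iff ρ hV L x).2 (hxy ▸ ht)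
  refine (fun ⟨U, hU, hs⟩ => ⟨U, show y ∈ U by rw [← hxy]; exact hU, hs⟩)
    (exists_gen_descend ρ hV L (exists_gen_of_artinian (R := Γ(Z.left, V))
      (pullback.snd ρ hV.fromSpec) (PicAux.isInvertible_pullback _ hL) x
      (h0Const_restrict ρ hV x (h0 _)) H1 fun n {W g q} H => ?_))
  · let M := Localization.AtPrime x.asIdeal
    let I := IsLocalRing.maximalIdeal M ^ (n + 1)
    have hI : I ≠ ⊤ := fun h => (IsLocalRing.maximalIdeal.isMaximal M).ne_top
      (top_le_iff.1 (h.ge.trans (Ideal.pow_le_self n.succ_ne_zero)))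
    have : Nontrivial (M ⧸ I) := Ideal.Quotient.nontrivial_iff.2 hI
    have : IsLocalRing (M ⧸ I) :=
      IsLocalRing.of_surjective' (Ideal.Quotient.mk I) Ideal.Quotient.mk_surjective
    have : IsNoetherianRing M :=
      IsLocalization.isNoetherianRing x.asIdeal.primeCompl M inferInstance
    have hm : Ideal.comap (Ideal.Quotient.mk I) (IsLocalRing.maximalIdeal (M ⧸ I)) =
        IsLocalRing.maximalIdeal M :=
      IsLocalRing.eq_maximalIdeal (Ideal.comap_isMaximal_of_surjective (Ideal.Quotient.mk I)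
        Ideal.Quotient.mk_surjective (K := IsLocalRing.maximalIdeal (M ⧸ I)))
    have : IsArtinianRing (M ⧸ I) :=
      (isArtinianRing_iff_isNilpotent_maximalIdeal (M ⧸ I)).2 ⟨n + 1, by
        rw [← Ideal.map_comap_of_surjective (Ideal.Quotient.mk I) Ideal.Quotient.mk_surjective
            (IsLocalRing.maximalIdeal (M ⧸ I)), hm, ← Ideal.map_pow]
        exact Ideal.map_quotient_self I⟩
    let cR := Spec.map (CommRingCat.ofHom (algebraMap Γ(Z.left, V) (M ⧸ I)))
    have hcp : cR (IsLocalRing.closedPoint (M ⧸ I)) = x := by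
      refine PrimeSpectrum.ext ?_
      show Ideal.comap (algebraMap Γ(Z.left, V) (M ⧸ I)) (IsLocalRing.maximalIdeal (M ⧸ I)) =
        x.asIdeal
      rw [show algebraMap Γ(Z.left, V) (M ⧸ I) =
          (Ideal.Quotient.mk I).comp (algebraMap Γ(Z.left, V) M) from rfl, ← Ideal.comap_comap, hm]
      exact IsLocalization.AtPrime.under_maximalIdeal M x.asIdeal
    obtain ⟨i⟩ := trivial_thickening x₀ y₀ L hL hx hy (cR ≫ hV.fromSpec)
      (by rw [Scheme.Hom.comp_apply, hcp, hxy]; exact ht)
      (H.paste_horiz (IsPullback.of_hasPullback ρ hV.fromSpec))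
    exact ⟨(Scheme.Modules.pullbackComp g (pullback.fst ρ hV.fromSpec)).app L ≪≫ i⟩

/-- A module trivial on three families of slices is trivial near the third slice. -/
theorem exists_gen_near [IsLocallyNoetherian Z.left]
    (z₀ : 𝟙_ (Over (Spec (CommRingCat.of k))) ⟶ Z)
    (L : (X ⊗ Y ⊗ Z).left.Modules) (hL : PicF.IsInvertible L)
    (hx : Nonempty ((Scheme.Modules.pullback (lift (toUnit (Y ⊗ Z) ≫ x₀) (𝟙 (Y ⊗ Z))).left).obj L ≅
      Coh.structureModule (Y ⊗ Z).left))
    (hy : Nonempty ((Scheme.Modules.pullback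
      (lift (fst X Z) (lift (toUnit (X ⊗ Z) ≫ y₀) (snd X Z))).left).obj L ≅
      Coh.structureModule (X ⊗ Z).left))
    (hz : Nonempty ((Scheme.Modules.pullback
      (lift (fst X Y) (lift (snd X Y) (toUnit (X ⊗ Y) ≫ z₀))).left).obj L ≅
      Coh.structureModule (X ⊗ Y).left)) :
    ∃ U : Z.left.Opens, z₀.left (IsLocalRing.closedPoint k) ∈ U ∧
      ∃ s, Gen L (((snd X (Y ⊗ Z)).left ≫ (snd Y Z).left) ⁻¹ᵁ U) s := by
  let ρ := (snd X (Y ⊗ Z)).left ≫ (snd Y Z).left
  let φ := (lift (fst X (Y ⊗ Z)) (snd X (Y ⊗ Z) ≫ fst Y Z)).left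
  let s := (lift (fst X Y) (lift (snd X Y) (toUnit (X ⊗ Y) ≫ z₀))).left
  let y := z₀.left (IsLocalRing.closedPoint k)
  have ht : FibTriv ρ L y := by
    obtain ⟨d, hd⟩ := fromSpecResidueField_rational z₀
    have e1 : s ≫ ρ = (X ⊗ Y).hom ≫ z₀.left := by
      have : lift (fst X Y) (lift (snd X Y) (toUnit (X ⊗ Y) ≫ z₀)) ≫ snd X (Y ⊗ Z) ≫ snd Y Z =
          toUnit (X ⊗ Y) ≫ z₀ := by simp
      refine (congrArg Over.Hom.left this).trans ?_
      rw [Over.comp_left, Over.toUnit_left]
    have e2 : s ≫ φ = 𝟙 _ := by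
      have : lift (fst X Y) (lift (snd X Y) (toUnit (X ⊗ Y) ≫ z₀)) ≫
          lift (fst X (Y ⊗ Z)) (snd X (Y ⊗ Z) ≫ fst Y Z) = 𝟙 _ := by
        ext1 <;> simp
      exact congrArg Over.Hom.left this
    have Hs : IsPullback s (X ⊗ Y).hom ρ z₀.left :=
      IsPullback.of_right (t := isPullback_triple) (p := e1) (s := by
        rw [e2, show z₀.left ≫ Z.hom = 𝟙 _ from Over.w z₀]
        exact IsPullback.of_id_fst)
    exact trivial_of_factor (Hs.lift (ρ.fiberι y) (ρ.fiberToSpecResidueField y ≫ d)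
      (by rw [Category.assoc, hd]; exact ρ.fiber_fac y)) (Hs.lift_fst _ _ _) hz
  exact exists_gen_near_point x₀ y₀ L hL hx hy y ht

omit [GeometricallyReduced X.hom] [GeometricallyConnected X.hom] in
/-- The theorem of the cube. -/
theorem trivial_cube [GeometricallyIntegral X.hom] [LocallyOfFiniteType Z.hom] [QuasiCompact Z.hom]
    [GeometricallyIntegral Z.hom] (z₀ : 𝟙_ (Over (Spec (CommRingCat.of k))) ⟶ Z)
    (L : (X ⊗ Y ⊗ Z).left.Modules) (hL : PicF.IsInvertible L)
    (hx : Nonempty ((Scheme.Modules.pullback (lift (toUnit (Y ⊗ Z) ≫ x₀) (𝟙 (Y ⊗ Z))).left).obj L ≅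
      Coh.structureModule (Y ⊗ Z).left))
    (hy : Nonempty ((Scheme.Modules.pullback
      (lift (fst X Z) (lift (toUnit (X ⊗ Z) ≫ y₀) (snd X Z))).left).obj L ≅
      Coh.structureModule (X ⊗ Z).left))
    (hz : Nonempty ((Scheme.Modules.pullback
      (lift (fst X Y) (lift (snd X Y) (toUnit (X ⊗ Y) ≫ z₀))).left).obj L ≅
      Coh.structureModule (X ⊗ Y).left)) :
    Nonempty (L ≅ Coh.structureModule (X ⊗ Y ⊗ Z).left) := by
  have := geometricallyConnected_of_integral X.hom
  have : IsLocallyNoetherian Z.left := LocallyOfFiniteType.isLocallyNoetherian Z.hom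
  have : IsIntegral Z.left := GeometricallyIntegral.isIntegral_of_subsingleton Z.hom
  have sqY : IsPullback (fst Y Z).left (snd Y Z).left Y.hom Z.hom := IsPullback.of_hasPullback _ _
  have sqX : IsPullback (fst X (Y ⊗ Z)).left (snd X (Y ⊗ Z)).left X.hom (Y ⊗ Z).hom :=
    IsPullback.of_hasPullback _ _
  have : IsProper (snd Y Z).left := MorphismProperty.of_isPullback sqY ‹_›
  have : Flat (snd Y Z).left := MorphismProperty.of_isPullback sqY (inferInstance : Flat Y.hom)
  have : GeometricallyReduced (snd Y Z).left := MorphismProperty.of_isPullback sqY ‹_›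
  have hopen : UniversallyOpen (snd Y Z).left :=
    MorphismProperty.of_isPullback sqY (inferInstance : UniversallyOpen Y.hom)
  have : IsLocallyNoetherian (Y ⊗ Z).left := LocallyOfFiniteType.isLocallyNoetherian (snd Y Z).left
  have : IsReduced (Y ⊗ Z).left :=
    GeometricallyReduced.isReduced_of_flat_of_isLocallyNoetherian (snd Y Z).left
  let π := (snd X (Y ⊗ Z)).left
  have : IsProper π := MorphismProperty.of_isPullback sqX ‹_›
  have : Flat π := MorphismProperty.of_isPullback sqX (inferInstance : Flat X.hom)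
  have : GeometricallyIntegral π := MorphismProperty.of_isPullback sqX ‹_›
  obtain ⟨U, hU, σ, hσ⟩ := exists_gen_near x₀ y₀ z₀ L hL hx hy hz
  have hdense : Dense ((snd Y Z).left ⁻¹' (U : Set Z.left)) :=
    (U.isOpen.dense ⟨_, hU⟩).preimage (snd Y Z).left.isOpenMap
  have hall : ∀ b, FibTriv π L b := fun b => by
    refine ((isClosed_fibTriv_of_integral π hL).closure_subset_iff.2 ?_) (hdense b)
    exact fun b hb => fibTriv_of_gen π (V := (snd Y Z).left ⁻¹ᵁ U) hσ hb
  refine trivial_of_local π (e := (lift (toUnit (Y ⊗ Z) ≫ x₀) (𝟙 (Y ⊗ Z))).left) ?_ ?_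
    (exists_gen_of_fibTriv π hL (h0Const_of_integral π) hall) hx
  · exact congrArg Over.Hom.left (lift_snd (toUnit (Y ⊗ Z) ≫ x₀) (𝟙 (Y ⊗ Z)))
  · have := geometricallyConnected_of_integral π
    have := locallyOfFinitePresentation_of_isNoetherian π
    exact GrpschAbsch.H0General.app_bijective π

end Groth.Abvar.Cube
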