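import Groth.Agent.Abvar.Cube.Theta

/-!
# Inverse image of a class by multiplication by `n`
-/

universe u

open CategoryTheory Limits MonoidalCategory CartesianMonoidalCategory MonObj GrpObj AlgebraicGeometry

namespace Groth.Abvar.Cube

open PicCalc

variable {k : Type u} [Field k] {A : Over (Spec (CommRingCat.of k))} [GrpObj A]
  [IsProper A.hom] [GeometricallyIntegral A.hom]

/-- The recursion given by the cube. -/
theorem opull_pow_rec (c : PicLoc.PicSet A.left) (n : ℕ) :
    opull (𝟙 A ^ (n + 2)) c * opull (𝟙 A ^ n) c =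
      opull (𝟙 A ^ (n + 1)) c * opull (𝟙 A ^ (n + 1)) c * (c * opull (𝟙 A)⁻¹ c) := by
  have e := opull_cube c (𝟙 A ^ (n + 1)) (𝟙 A) (𝟙 A)⁻¹
  have h1 : 𝟙 A ^ (n + 1) * 𝟙 A * (𝟙 A)⁻¹ = 𝟙 A ^ (n + 1) := mul_inv_cancel_right _ _
  have h2 : 𝟙 A ^ (n + 1) * (𝟙 A)⁻¹ = 𝟙 A ^ n := by rw [pow_succ, mul_inv_cancel_right]
  rw [h1, h2, ← pow_succ, mul_inv_cancel, opull_one, opull_id, _root_.mul_one] at e
  rw [← e]
  exact _root_.mul_assoc _ _ _

/-- `[n]^* c = c^(n+1 choose 2) ([-1]^* c)^(n choose 2)`. -/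
theorem opull_pow (c : PicLoc.PicSet A.left) (n : ℕ) :
    opull (𝟙 A ^ n) c = c ^ ((n + 1).choose 2) * opull (𝟙 A)⁻¹ c ^ (n.choose 2) := by
  induction n using Nat.strong_induction_on with
  | _ n ih =>
    match n with
    | 0 =>
      rw [pow_zero, opull_one]
      exact (congrArg₂ (· * ·) (pow_zero _) (pow_zero _)).trans (_root_.one_mul _) |>.symm
    | 1 =>
      rw [pow_one, opull_id]
      exact ((congrArg₂ (· * ·) (pow_one c) (pow_zero _)).trans (_root_.mul_one _)).symm
    | m + 2 =>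
      have e := opull_pow_rec c m
      rw [ih (m + 1) (by omega), ih m (by omega)] at e
      have hm : (m + 1).choose 2 = m.choose 2 + m := by
        rw [Nat.choose_succ_succ', Nat.choose_one_right, add_comm]
      have hm1 : (m + 2).choose 2 = (m + 1).choose 2 + (m + 1) := by
        rw [Nat.choose_succ_succ', Nat.choose_one_right, add_comm]
      have hm2 : (m + 3).choose 2 = (m + 2).choose 2 + (m + 2) := by
        rw [Nat.choose_succ_succ', Nat.choose_one_right, add_comm]
      refine mul_right_cancel (e.trans ?_)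
      change _ = c ^ ((m + 3).choose 2) * opull (𝟙 A)⁻¹ c ^ ((m + 2).choose 2) * _
      generalize opull (𝟙 A)⁻¹ c = d
      rw [hm2, hm1, hm]
      simp only [pow_add, pow_one, pow_two]
      ac_rfl

/-- The same with the triangular numbers written out. -/
theorem opull_pow' (c : PicLoc.PicSet A.left) (n : ℕ) :
    opull (𝟙 A ^ n) c = c ^ (n * (n + 1) / 2) * opull (𝟙 A)⁻¹ c ^ (n * (n - 1) / 2) := by
  rw [opull_pow, Nat.choose_two_right, Nat.choose_two_right, Nat.add_sub_cancel, mul_comm (n + 1)]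

end Groth.Abvar.Cube
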