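import Groth.Agent.Abvar.Cube.Approx

/-!
# Triviality near a fibre over any base
-/

universe u

open CategoryTheory Limits MonoidalCategory CartesianMonoidalCategory AlgebraicGeometry
  TopologicalSpace

namespace Groth.Abvar.Cube

open Seesaw PicCalc
open Groth.PicAux (Gen)
open Groth.SpectralTopology (fgSchemes fgCone isLimitFgCone)

variable {R : CommRingCat.{u}}

/-- The projection to a stage, with source `Spec R`. -/
noncomputable def fgπ (j : (SpectralTopology.FGSub R)ᵒᵖ) : Spec R ⟶ (fgSchemes R).obj j :=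
  (fgCone R).π.app j

theorem fgπ_map {i j : (SpectralTopology.FGSub R)ᵒᵖ} (φ : j ⟶ i) :
    fgπ j ≫ (fgSchemes R).map φ = fgπ i := (fgCone R).w φ

/-- An invertible module on the base change of a stage comes from a later stage. -/
theorem exists_stage_module {i : (SpectralTopology.FGSub R)ᵒᵖ} {P₀ : Scheme.{u}}
    (p₀ : P₀ ⟶ (fgSchemes R).obj i) [QuasiCompact p₀] [QuasiSeparated p₀]
    {P : Scheme.{u}} {h : P ⟶ P₀} {p : P ⟶ Spec R}
    (sq : IsPullback h p p₀ (fgπ i)) {E : P.Modules} (hE : PicF.IsInvertible E) :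
    ∃ (j : (SpectralTopology.FGSub R)ᵒᵖ) (φ : j ⟶ i) (m : P ⟶ pullback p₀ ((fgSchemes R).map φ))
      (E₀ : (pullback p₀ ((fgSchemes R).map φ)).Modules),
      m ≫ pullback.fst _ _ = h ∧ m ≫ pullback.snd _ _ = p ≫ fgπ j ∧
      PicF.IsInvertible E₀ ∧ Nonempty ((Scheme.Modules.pullback m).obj E₀ ≅ E) := by
  have hc := (Functor.Initial.isLimitWhiskerEquiv (Over.forget i) (fgCone R)).symm (isLimitFgCone R)
  have hτ : ∀ k : Over i, (Cone.whisker (Over.forget i) (fgCone R)).π.app k ≫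
      (Groth.Limits.overTrans (fgSchemes R) i).app k = (fgCone R).π.app i := fun k =>
    (fgCone R).w k.hom
  let t := Groth.Limits.overTrans (fgSchemes R) i
  have hl := Groth.Limits.isLimitBcCone t p₀ _ ((fgCone R).π.app i) hτ hc
  have : ∀ k : Over i, CompactSpace ((Groth.Limits.bcDiagram t p₀).obj k) := fun k => by
    let g : pullback p₀ (t.app k) ⟶ (fgSchemes R).obj k.left := pullback.snd _ _
    have hg : QuasiCompact g :=
      MorphismProperty.pullback_snd (P := @QuasiCompact) p₀ (t.app k) ‹QuasiCompact p₀›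
    exact @QuasiCompact.compactSpace_of_compactSpace _ _ g hg inferInstance
  have : ∀ k : Over i, QuasiSeparatedSpace ((Groth.Limits.bcDiagram t p₀).obj k) := fun k => by
    let g : pullback p₀ (t.app k) ⟶ (fgSchemes R).obj k.left := pullback.snd _ _
    have hg : QuasiSeparated g :=
      MorphismProperty.pullback_snd (P := @QuasiSeparated) p₀ (t.app k) ‹QuasiSeparated p₀›
    exact @quasiSeparatedSpace_of_quasiSeparated _ _ g inferInstance hg
  have : ∀ (a b : Over i) (f : a ⟶ b), IsAffineHom ((Over.forget i ⋙ fgSchemes R).map f) :=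
    fun a b f => inferInstanceAs (IsAffineHom ((fgSchemes R).map f.left))
  have sq' : IsPullback h p p₀ ((fgCone R).π.app i) := sq
  let e := sq'.isoPullback
  obtain ⟨k, -, E₀, hE₀, ⟨j⟩⟩ := PicAux.LimitInv.exists_stage_invertible
    (Groth.Limits.bcDiagram t p₀) _ hl (Over.mk (𝟙 i))
    (PicAux.isInvertible_pullback e.inv hE)
  let π := (Groth.Limits.bcCone t p₀ (Cone.whisker (Over.forget i) (fgCone R)) ((fgCone R).π.app i) hτ).π.app k
  refine ⟨k.left, k.hom, e.hom ≫ π, E₀, ?_, ?_, hE₀, ⟨?_⟩⟩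
  · exact (Category.assoc _ _ _).trans
      ((congrArg (e.hom ≫ ·) (pullback.lift_fst _ _ _)).trans sq'.isoPullback_hom_fst)
  · exact (Category.assoc _ _ _).trans
      ((congrArg (e.hom ≫ ·) (pullback.lift_snd _ _ _)).trans ((Category.assoc _ _ _).symm.trans
        (congrArg (· ≫ (fgCone R).π.app k.left) sq'.isoPullback_hom_snd)))
  · exact ((Scheme.Modules.pullbackComp e.hom π).app E₀).symm ≪≫
      (Scheme.Modules.pullback e.hom).mapIso j ≪≫
      (Scheme.Modules.pullbackComp e.hom e.inv).app E ≪≫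
      (Scheme.Modules.pullbackCongr e.hom_inv_id).app E ≪≫
      (Scheme.Modules.pullbackId P).app E

/-- The normalisation of a class along two slices. -/
noncomputable def normalise {S : Scheme.{u}} {X Y : Over S} (x : 𝟙_ (Over S) ⟶ X)
    (y : 𝟙_ (Over S) ⟶ Y) (c : PicLoc.PicSet (X ⊗ Y).left) : PicLoc.PicSet (X ⊗ Y).left :=
  c * opull (toUnit (X ⊗ Y) ≫ lift x y) c /
    (opull (lift (fst X Y) (toUnit (X ⊗ Y) ≫ y)) c * opull (lift (toUnit (X ⊗ Y) ≫ x) (snd X Y)) c)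

theorem opull_normalise_left {S : Scheme.{u}} {X Y : Over S} (x : 𝟙_ (Over S) ⟶ X)
    (y : 𝟙_ (Over S) ⟶ Y) (c : PicLoc.PicSet (X ⊗ Y).left) :
    opull (lift (𝟙 X) (toUnit X ≫ y)) (normalise x y c) = 1 := by
  simp only [normalise, map_div, map_mul, ← opull_comp, comp_lift, lift_fst, lift_snd,
    ← Category.assoc, comp_toUnit, lift_snd_assoc, lift_fst_assoc]
  rw [div_eq_one]

theorem opull_normalise_right {S : Scheme.{u}} {X Y : Over S} (x : 𝟙_ (Over S) ⟶ X)
    (y : 𝟙_ (Over S) ⟶ Y) (c : PicLoc.PicSet (X ⊗ Y).left) :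
    opull (lift (toUnit Y ≫ x) (𝟙 Y)) (normalise x y c) = 1 := by
  simp only [normalise, map_div, map_mul, ← opull_comp, comp_lift, lift_fst, lift_snd,
    ← Category.assoc, comp_toUnit, lift_snd_assoc, lift_fst_assoc]
  rw [div_eq_one]
  exact mul_comm _ _

/-- A module trivial on two slices over an affine base is trivial near every fibre where it is
trivial and functions are constant. -/
theorem exists_gen_near_affine {X Y : Over (Spec R)} [IsProper X.hom] [Flat X.hom]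
    [LocallyOfFinitePresentation X.hom] [IsProper Y.hom] [Flat Y.hom]
    [LocallyOfFinitePresentation Y.hom]
    (x : 𝟙_ (Over (Spec R)) ⟶ X) (y : 𝟙_ (Over (Spec R)) ⟶ Y) (L : (X ⊗ Y).left.Modules)
    (hL : PicF.IsInvertible L)
    (hX : Nonempty ((Scheme.Modules.pullback (lift (𝟙 X) (toUnit X ≫ y)).left).obj L ≅
      Coh.structureModule X.left))
    (hY : Nonempty ((Scheme.Modules.pullback (lift (toUnit Y ≫ x) (𝟙 Y)).left).obj L ≅
      Coh.structureModule Y.left))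
    (s : Spec R) (ht : FibTriv (X ⊗ Y).hom L s) (h0X : H0Const X.hom s) (h0Y : H0Const Y.hom s)
    (h0 : H0Const (X ⊗ Y).hom s) :
    ∃ U : (Spec R).Opens, s ∈ U ∧ ∃ σ, Gen L ((X ⊗ Y).hom ⁻¹ᵁ U) σ := by
  obtain ⟨i, X₀, Y₀, hpX, hfX, hpY, hfY, x₀, y₀, gX, gY, sqX', sqY', hx₀', hy₀'⟩ :=
    exists_stage_pair x y
  have sqX : IsPullback gX X.hom X₀.hom (fgπ i) := sqX'
  have sqY : IsPullback gY Y.hom Y₀.hom (fgπ i) := sqY'
  have hx₀ : x.left ≫ gX = fgπ i ≫ x₀.left := hx₀'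
  have hy₀ : y.left ≫ gY = fgπ i ≫ y₀.left := hy₀'
  obtain ⟨h, h1, h2, sqh⟩ := isPullback_tensor (X' := X) (Y' := Y) sqX sqY
  have sq₀ : IsPullback (fst X₀ Y₀).left (snd X₀ Y₀).left X₀.hom Y₀.hom :=
    IsPullback.of_hasPullback _ _
  have : IsProper (snd X₀ Y₀).left := MorphismProperty.of_isPullback sq₀ hpX
  have hw₀ : (snd X₀ Y₀).left ≫ Y₀.hom = (X₀ ⊗ Y₀).hom := Over.w _
  have : IsProper (X₀ ⊗ Y₀).hom := hw₀ ▸ inferInstanceAs (IsProper (_ ≫ _))
  obtain ⟨j, φ, m, E₀, hm1, hm2, hE₀, ⟨η⟩⟩ := exists_stage_module (X₀ ⊗ Y₀).hom sqh hL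
  -- the families over the stage `j`
  let b := fgπ j
  let X₁ := Over.mk (pullback.snd X₀.hom ((fgSchemes R).map φ))
  let Y₁ := Over.mk (pullback.snd Y₀.hom ((fgSchemes R).map φ))
  have hX₁ : IsPullback (pullback.fst X₀.hom ((fgSchemes R).map φ)) X₁.hom X₀.hom
      ((fgSchemes R).map φ) := IsPullback.of_hasPullback _ _
  have hY₁ : IsPullback (pullback.fst Y₀.hom ((fgSchemes R).map φ)) Y₁.hom Y₀.hom
      ((fgSchemes R).map φ) := IsPullback.of_hasPullback _ _
  obtain ⟨k, k1, k2, sqk⟩ := isPullback_tensor (X' := X₁) (Y' := Y₁) hX₁ hY₁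
  obtain ⟨x₁, hx₁⟩ := exists_section (X' := X₁) hX₁ x₀
  obtain ⟨y₁, hy₁⟩ := exists_section (X' := Y₁) hY₁ y₀
  obtain ⟨gX₁, sqX₁', hgX₁⟩ := exists_stage_bump φ sqX'
  obtain ⟨gY₁, sqY₁', hgY₁⟩ := exists_stage_bump φ sqY'
  have sqX₁ : IsPullback gX₁ X.hom X₁.hom b := sqX₁'
  have sqY₁ : IsPullback gY₁ Y.hom Y₁.hom b := sqY₁'
  obtain ⟨h₁, h₁1, h₁2, sqh₁⟩ := isPullback_tensor (X := X₁) (Y := Y₁) (X' := X) (Y' := Y)
    (S := (fgSchemes R).obj j) (a := b) sqX₁ sqY₁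
  let ι := sqk.isoPullback
  have hh₁ : h₁ ≫ ι.hom = m := by
    refine (IsPullback.of_hasPullback (X₀ ⊗ Y₀).hom ((fgSchemes R).map φ)).hom_ext ?_ ?_
    · rw [Category.assoc, sqk.isoPullback_hom_fst, hm1]
      refine (IsPullback.of_hasPullback X₀.hom Y₀.hom).hom_ext ?_ ?_
      · change (h₁ ≫ k) ≫ (fst X₀ Y₀).left = h ≫ (fst X₀ Y₀).left
        rw [Category.assoc, k1, ← Category.assoc, h₁1, h1, Category.assoc]
        exact congrArg ((fst X Y).left ≫ ·) hgX₁
      · change (h₁ ≫ k) ≫ (snd X₀ Y₀).left = h ≫ (snd X₀ Y₀).left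
        rw [Category.assoc, k2, ← Category.assoc, h₁2, h2, Category.assoc]
        exact congrArg ((snd X Y).left ≫ ·) hgY₁
    · rw [Category.assoc, sqk.isoPullback_hom_snd, hm2]
      exact sqh₁.w
  have hxb : x.left ≫ gX₁ = b ≫ x₁.left := by
    refine hX₁.hom_ext ?_ ?_
    · rw [Category.assoc, hgX₁, Category.assoc, hx₁, ← Category.assoc, fgπ_map]
      exact hx₀
    · rw [Category.assoc, sqX₁.w, Category.assoc, Over.w x₁, ← Category.assoc]
      exact (congrArg (· ≫ b) (Over.w x)).trans ((Category.id_comp b).trans (Category.comp_id b).symm)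
  have hyb : y.left ≫ gY₁ = b ≫ y₁.left := by
    refine hY₁.hom_ext ?_ ?_
    · rw [Category.assoc, hgY₁, Category.assoc, hy₁, ← Category.assoc, fgπ_map]
      exact hy₀
    · rw [Category.assoc, sqY₁.w, Category.assoc, Over.w y₁, ← Category.assoc]
      exact (congrArg (· ≫ b) (Over.w y)).trans ((Category.id_comp b).trans (Category.comp_id b).symm)
  -- the normalised class
  let c₀ := pull ι.hom (cls hE₀)
  obtain ⟨L₁, hL₁, e₁⟩ := PicGrp.exists_eq_cls (normalise x₁ y₁ c₀)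
  have ec : pull h₁ c₀ = cls hL := by
    rw [← pull_comp, hh₁, pull_cls]
    exact (nonempty_iso_iff _ hL).1 ⟨η⟩
  have hLX : opull (lift (𝟙 X) (toUnit X ≫ y)) (cls hL) = 1 := by
    rw [show opull _ _ = _ from pull_cls _ hL]
    exact (nonempty_iso_structure_iff _).1 hX
  have hLY : opull (lift (toUnit Y ≫ x) (𝟙 Y)) (cls hL) = 1 := by
    rw [show opull _ _ = _ from pull_cls _ hL]
    exact (nonempty_iso_structure_iff _).1 hY
  have e₂ : pull h₁ (normalise x₁ y₁ c₀) = normalise x y (cls hL) := by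
    simp only [normalise, map_div, map_mul, ← ec]
    have q₀ : (toUnit (X ⊗ Y) ≫ lift x y).left ≫ h₁ = h₁ ≫ (toUnit (X₁ ⊗ Y₁) ≫ lift x₁ y₁).left :=
      toUnit_compat sqh₁.w _ _ (lift_compat h₁1 h₁2 hxb hyb)
    have q₁ : (lift (fst X Y) (toUnit (X ⊗ Y) ≫ y)).left ≫ h₁ =
        h₁ ≫ (lift (fst X₁ Y₁) (toUnit (X₁ ⊗ Y₁) ≫ y₁)).left :=
      lift_compat h₁1 h₁2 h₁1.symm (toUnit_compat sqh₁.w y₁ y hyb)
    have q₂ : (lift (toUnit (X ⊗ Y) ≫ x) (snd X Y)).left ≫ h₁ =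
        h₁ ≫ (lift (toUnit (X₁ ⊗ Y₁) ≫ x₁) (snd X₁ Y₁)).left :=
      lift_compat h₁1 h₁2 (toUnit_compat sqh₁.w x₁ x hxb) h₁2.symm
    simp only [opull, ← pull_comp, q₀, q₁, q₂]
  have e₃ : normalise x y (cls hL) = cls hL := by
    have a₀ : opull (toUnit (X ⊗ Y) ≫ lift x y) (cls hL) = 1 := by
      rw [show toUnit (X ⊗ Y) ≫ lift x y =
        (toUnit (X ⊗ Y) ≫ x) ≫ lift (𝟙 X) (toUnit X ≫ y) by simp, opull_comp, hLX, map_one]
    have a₁ : opull (lift (fst X Y) (toUnit (X ⊗ Y) ≫ y)) (cls hL) = 1 := by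
      rw [show lift (fst X Y) (toUnit (X ⊗ Y) ≫ y) = fst X Y ≫ lift (𝟙 X) (toUnit X ≫ y) by simp,
        opull_comp, hLX, map_one]
    have a₂ : opull (lift (toUnit (X ⊗ Y) ≫ x) (snd X Y)) (cls hL) = 1 := by
      rw [show lift (toUnit (X ⊗ Y) ≫ x) (snd X Y) = snd X Y ≫ lift (toUnit Y ≫ x) (𝟙 Y) by simp,
        opull_comp, hLY, map_one]
    simp only [normalise, a₀, a₁, a₂, _root_.mul_one, div_one]
  obtain ⟨κ⟩ : Nonempty ((Scheme.Modules.pullback h₁).obj L₁ ≅ L) := by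
    rw [nonempty_iso_iff (PicLoc.isInvertible_pullback h₁ hL₁) hL, ← pull_cls h₁ hL₁,
      show cls hL₁ = normalise x₁ y₁ c₀ from e₁.symm, e₂, e₃]
  have hX₁' : Nonempty ((Scheme.Modules.pullback (lift (𝟙 X₁) (toUnit X₁ ≫ y₁)).left).obj L₁ ≅
      Coh.structureModule X₁.left) := by
    rw [nonempty_iso_structure_iff (PicLoc.isInvertible_pullback _ hL₁), ← pull_cls _ hL₁,
      show cls hL₁ = normalise x₁ y₁ c₀ from e₁.symm]
    exact opull_normalise_left x₁ y₁ c₀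
  have hY₁' : Nonempty ((Scheme.Modules.pullback (lift (toUnit Y₁ ≫ x₁) (𝟙 Y₁)).left).obj L₁ ≅
      Coh.structureModule Y₁.left) := by
    rw [nonempty_iso_structure_iff (PicLoc.isInvertible_pullback _ hL₁), ← pull_cls _ hL₁,
      show cls hL₁ = normalise x₁ y₁ c₀ from e₁.symm]
    exact opull_normalise_right x₁ y₁ c₀
  -- the fibre over the image of the point
  have : IsProper X₁.hom := inferInstanceAs (IsProper (pullback.snd _ _))
  have : IsProper Y₁.hom := inferInstanceAs (IsProper (pullback.snd _ _))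
  have : Flat X₁.hom := inferInstanceAs (Flat (pullback.snd _ _))
  have : Flat Y₁.hom := inferInstanceAs (Flat (pullback.snd _ _))
  have : IsProper (X₁ ⊗ Y₁).hom := MorphismProperty.of_isPullback sqk ‹_›
  have h0₁ := (h0Const_iff_of_isPullback sqh₁ s).1 h0
  have ht₁ : FibTriv (X₁ ⊗ Y₁).hom L₁ (b s) :=
    fibTriv_of_bc sqh₁ s hL₁ h0 (ht.map fun r => (Scheme.Modules.pullback _).mapIso κ ≪≫ r)
  obtain ⟨U, hU, σ, hσ⟩ := exists_gen_near_slices' (S := (fgSchemes R).obj j) x₁ y₁ L₁ hL₁ hX₁'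
    hY₁' (b s) ht₁ ((h0Const_iff_of_isPullback sqX₁ s).1 h0X)
    ((h0Const_iff_of_isPullback sqY₁ s).1 h0Y) h0₁
  refine ⟨b ⁻¹ᵁ U, hU, ?_⟩
  have e : (X ⊗ Y).hom ⁻¹ᵁ (b ⁻¹ᵁ U) = h₁ ⁻¹ᵁ ((X₁ ⊗ Y₁).hom ⁻¹ᵁ U) := by
    rw [← Scheme.Hom.comp_preimage, ← Scheme.Hom.comp_preimage, sqh₁.w]
  exact ⟨_, ((hσ.pull h₁).map κ.hom).res e.le⟩

/-- A module trivial on two slices over any base is trivial near every fibre where it is trivial and
functions are constant. -/
theorem exists_gen_near_any {S : Scheme.{u}} {X Y : Over S} [IsProper X.hom] [Flat X.hom]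
    [LocallyOfFinitePresentation X.hom] [IsProper Y.hom] [Flat Y.hom]
    [LocallyOfFinitePresentation Y.hom]
    (x : 𝟙_ (Over S) ⟶ X) (y : 𝟙_ (Over S) ⟶ Y) (L : (X ⊗ Y).left.Modules)
    (hL : PicF.IsInvertible L)
    (hX : Nonempty ((Scheme.Modules.pullback (lift (𝟙 X) (toUnit X ≫ y)).left).obj L ≅
      Coh.structureModule X.left))
    (hY : Nonempty ((Scheme.Modules.pullback (lift (toUnit Y ≫ x) (𝟙 Y)).left).obj L ≅
      Coh.structureModule Y.left))
    (s : S) (ht : FibTriv (X ⊗ Y).hom L s) (h0X : H0Const X.hom s) (h0Y : H0Const Y.hom s)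
    (h0 : H0Const (X ⊗ Y).hom s) :
    ∃ U : S.Opens, s ∈ U ∧ ∃ σ, Gen L ((X ⊗ Y).hom ⁻¹ᵁ U) σ := by
  obtain ⟨_, ⟨V, hV, rfl⟩, hsV, -⟩ :=
    S.isBasis_affineOpens.exists_subset_of_mem_open (Set.mem_univ s) isOpen_univ
  obtain ⟨w, rfl⟩ : s ∈ Set.range hV.fromSpec := by rw [hV.range_fromSpec]; exact hsV
  let XV := Over.mk (pullback.snd X.hom hV.fromSpec)
  let YV := Over.mk (pullback.snd Y.hom hV.fromSpec)
  have hXV : IsPullback (pullback.fst X.hom hV.fromSpec) XV.hom X.hom hV.fromSpec :=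
    IsPullback.of_hasPullback _ _
  have hYV : IsPullback (pullback.fst Y.hom hV.fromSpec) YV.hom Y.hom hV.fromSpec :=
    IsPullback.of_hasPullback _ _
  obtain ⟨h, h1, h2, sqh⟩ := isPullback_tensor (X' := XV) (Y' := YV) hXV hYV
  obtain ⟨xV, hxV⟩ := exists_section (X' := XV) hXV x
  obtain ⟨yV, hyV⟩ := exists_section (X' := YV) hYV y
  have : IsProper XV.hom := inferInstanceAs (IsProper (pullback.snd _ _))
  have : IsProper YV.hom := inferInstanceAs (IsProper (pullback.snd _ _))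
  have : Flat XV.hom := inferInstanceAs (Flat (pullback.snd _ _))
  have : Flat YV.hom := inferInstanceAs (Flat (pullback.snd _ _))
  have : LocallyOfFinitePresentation XV.hom :=
    inferInstanceAs (LocallyOfFinitePresentation (pullback.snd _ _))
  have : LocallyOfFinitePresentation YV.hom :=
    inferInstanceAs (LocallyOfFinitePresentation (pullback.snd _ _))
  have sq : IsPullback (fst X Y).left (snd X Y).left X.hom Y.hom := IsPullback.of_hasPullback _ _
  have : IsProper (snd X Y).left := MorphismProperty.of_isPullback sq ‹_›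
  have hw : (snd X Y).left ≫ Y.hom = (X ⊗ Y).hom := Over.w _
  have : IsProper (X ⊗ Y).hom := hw ▸ inferInstanceAs (IsProper (_ ≫ _))
  have hXs : Nonempty ((Scheme.Modules.pullback (lift (𝟙 XV) (toUnit XV ≫ yV)).left).obj
      ((Scheme.Modules.pullback h).obj L) ≅ Coh.structureModule XV.left) := by
    obtain ⟨i⟩ := trivial_of_factor (g' := (lift (𝟙 XV) (toUnit XV ≫ yV)).left ≫ h)
      (pullback.fst X.hom hV.fromSpec) (lift_compat h1 h2
        (show (𝟙 XV : XV ⟶ XV).left ≫ pullback.fst X.hom hV.fromSpec =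
            pullback.fst X.hom hV.fromSpec ≫ (𝟙 X : X ⟶ X).left from
          (Category.id_comp _).trans (Category.comp_id _).symm)
        (toUnit_compat hXV.w y yV hyV)).symm hX
    exact ⟨(Scheme.Modules.pullbackComp _ h).app L ≪≫ i⟩
  have hYs : Nonempty ((Scheme.Modules.pullback (lift (toUnit YV ≫ xV) (𝟙 YV)).left).obj
      ((Scheme.Modules.pullback h).obj L) ≅ Coh.structureModule YV.left) := by
    obtain ⟨i⟩ := trivial_of_factor (g' := (lift (toUnit YV ≫ xV) (𝟙 YV)).left ≫ h)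
      (pullback.fst Y.hom hV.fromSpec) (lift_compat h1 h2 (toUnit_compat hYV.w x xV hxV)
        (show (𝟙 YV : YV ⟶ YV).left ≫ pullback.fst Y.hom hV.fromSpec =
            pullback.fst Y.hom hV.fromSpec ≫ (𝟙 Y : Y ⟶ Y).left from
          (Category.id_comp _).trans (Category.comp_id _).symm)).symm hY
    exact ⟨(Scheme.Modules.pullbackComp _ h).app L ≪≫ i⟩
  obtain ⟨U, hU, σ, hσ⟩ := exists_gen_near_affine (R := Γ(S, V)) xV yV _
    (PicAux.isInvertible_pullback h hL) hXs hYs w (fibTriv_of_isPullback sqh w ht)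
    ((h0Const_iff_of_isPullback hXV w).2 h0X) ((h0Const_iff_of_isPullback hYV w).2 h0Y)
    ((h0Const_iff_of_isPullback sqh w).2 h0)
  let ι := sqh.isoPullback
  refine exists_gen_descend (X ⊗ Y).hom hV L (x := w) ⟨U, hU, ?_⟩
  have e : pullback.snd (X ⊗ Y).hom hV.fromSpec ⁻¹ᵁ U = ι.inv ⁻¹ᵁ ((XV ⊗ YV).hom ⁻¹ᵁ U) := by
    rw [← Scheme.Hom.comp_preimage, sqh.isoPullback_inv_snd]
  exact ⟨_, ((hσ.pull ι.inv).map ((Scheme.Modules.pullbackComp ι.inv h).app L ≪≫
    (Scheme.Modules.pullbackCongr sqh.isoPullback_inv_fst).app L).hom).res e.le⟩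

end Groth.Abvar.Cube
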