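import Groth.Agent.Abvar.Cube.Sections
import Groth.Agent.AlgGrp1.Basic

/-!
# Functions on products of affine opens of two schemes over a field
-/

universe u

open CategoryTheory Limits MonoidalCategory CartesianMonoidalCategory AlgebraicGeometry
  TopologicalSpace Opposite
open scoped TensorProduct
open Groth.PicAux (resX resX_resX)

namespace Groth.Abvar.Cube

variable {k : Type u} [CommRing k] {X Y : Over (Spec (CommRingCat.of k))}

/-- The left object of an object over a base, as a scheme over the base. -/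
noncomputable scoped instance overLeft (X : Over (Spec (CommRingCat.of k))) :
    X.left.Over (Spec (CommRingCat.of k)) := ⟨X.hom⟩

theorem appLE_resX {T Z : Scheme.{u}} (f : T ⟶ Z) {V V' : Z.Opens} (h : V' ≤ V) {U : T.Opens}
    (e : U ≤ f ⁻¹ᵁ V') (x : Γ(Z, V)) :
    f.appLE V' U e (resX Z h x) = f.appLE V U (e.trans (f.preimage_mono h)) x :=
  congr($(f.map_appLE e (homOfLE h).op) x)

theorem resX_appLE {T Z : Scheme.{u}} (f : T ⟶ Z) {V : Z.Opens} {U U' : T.Opens}
    (e : U ≤ f ⁻¹ᵁ V) (h : U' ≤ U) (x : Γ(Z, V)) :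
    resX T h (f.appLE V U e x) = f.appLE V U' (h.trans e) x :=
  congr($(f.appLE_map e (homOfLE h).op) x)

/-- A morphism over the base respects scalars. -/
theorem appLE_toSec {T Z : Over (Spec (CommRingCat.of k))} (f : T ⟶ Z) {V : Z.left.Opens}
    {U : T.left.Opens} (e : U ≤ f.left ⁻¹ᵁ V) (c : k) :
    f.left.appLE V U e (CohBase.toSec k V c) = CohBase.toSec k U c := by
  have hw : f.left ≫ (Z.left ↘ Spec (CommRingCat.of k)) = T.left ↘ Spec (CommRingCat.of k) :=
    Over.w f
  show f.left.appLE V U e (resX Z.left le_top ((Z.left ↘ Spec (CommRingCat.of k)).appTop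
      ((Scheme.ΓSpecIso (CommRingCat.of k)).inv c))) =
    resX T.left le_top ((T.left ↘ Spec (CommRingCat.of k)).appTop
      ((Scheme.ΓSpecIso (CommRingCat.of k)).inv c))
  rw [← hw, Scheme.Hom.comp_appTop, CommRingCat.comp_apply]
  exact (appLE_resX f.left le_top e _).trans rfl

variable (X Y) in
/-- The product of two opens. -/
noncomputable abbrev box (U : X.left.Opens) (V : Y.left.Opens) : (X ⊗ Y).left.Opens :=
  (fst X Y).left ⁻¹ᵁ U ⊓ (snd X Y).left ⁻¹ᵁ V

theorem box_mono {U U' : X.left.Opens} {V V' : Y.left.Opens} (hU : U' ≤ U) (hV : V' ≤ V) :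
    box X Y U' V' ≤ box X Y U V :=
  inf_le_inf ((fst X Y).left.preimage_mono hU) ((snd X Y).left.preimage_mono hV)

theorem box_inf (U U' : X.left.Opens) (V V' : Y.left.Opens) :
    box X Y U V ⊓ box X Y U' V' = box X Y (U ⊓ U') (V ⊓ V') := by
  show (_ ⊓ _) ⊓ (_ ⊓ _) = (fst X Y).left ⁻¹ᵁ (U ⊓ U') ⊓ (snd X Y).left ⁻¹ᵁ (V ⊓ V')
  rw [Scheme.Hom.preimage_inf, Scheme.Hom.preimage_inf, inf_inf_inf_comm]

/-- The functions `s ⊠ t` on a product of opens. -/
noncomputable def prodFun (U : X.left.Opens) (V : Y.left.Opens) :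
    fnA k U ⊗[k] fnA k V →+ Γ((X ⊗ Y).left, box X Y U V) :=
  TensorProduct.liftAddHom
    (AddMonoidHom.mk' (fun s => AddMonoidHom.mk'
      (fun t => (fst X Y).left.appLE U (box X Y U V) inf_le_left (ofA s) *
        (snd X Y).left.appLE V (box X Y U V) inf_le_right (ofA t))
      fun t t' => by
        change _ * (snd X Y).left.appLE _ _ _ (ofA t + ofA t') = _
        rw [map_add, mul_add])
      fun s s' => AddMonoidHom.ext fun t => by
        change (fst X Y).left.appLE _ _ _ (ofA s + ofA s') * _ = _ * _ + _ * _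
        rw [map_add, add_mul])
    fun c s t => by
      change (fst X Y).left.appLE _ _ _ (ofA (c • s)) * (snd X Y).left.appLE _ _ _ (ofA t) =
        (fst X Y).left.appLE _ _ _ (ofA s) * (snd X Y).left.appLE _ _ _ (ofA (c • t))
      rw [ofA_smul, ofA_smul, map_mul, map_mul, appLE_toSec, appLE_toSec]
      ring

theorem prodFun_tmul (U : X.left.Opens) (V : Y.left.Opens) (s : fnA k U) (t : fnA k V) :
    prodFun U V (s ⊗ₜ t) = (fst X Y).left.appLE U (box X Y U V) inf_le_left (ofA s) *
      (snd X Y).left.appLE V (box X Y U V) inf_le_right (ofA t) := rfl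

theorem prodFun_res {U U' : X.left.Opens} {V V' : Y.left.Opens} (hU : U' ≤ U) (hV : V' ≤ V)
    (z : fnA k U ⊗[k] fnA k V) :
    resX (X ⊗ Y).left (box_mono hU hV) (prodFun U V z) =
      prodFun U' V' (TensorProduct.map (CohBase.secRes k (Coh.structureModule X.left) hU)
        (CohBase.secRes k (Coh.structureModule Y.left) hV) z) := by
  induction z using TensorProduct.induction_on with
  | zero => simp
  | tmul s t =>
    rw [TensorProduct.map_tmul, prodFun_tmul, prodFun_tmul, map_mul, resX_appLE, resX_appLE,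
      ofA_res, ofA_res, appLE_resX, appLE_resX]
  | add x y hx hy => simp only [map_add, hx, hy]

/-- Functions on a product of affine opens. -/
theorem prodFun_bijective {U : X.left.Opens} {V : Y.left.Opens} (hU : IsAffineOpen U)
    (hV : IsAffineOpen V) : Function.Bijective (prodFun U V) := by
  have H : IsPullback (fst X Y).left (snd X Y).left X.hom Y.hom :=
    IsPullback.of_hasPullback X.hom Y.hom
  let US : (Spec (CommRingCat.of k)).Opens := ⊤
  have hiso := isIso_pushoutSection_of_isAffineOpen H (US := US) (UT := V) (UX := U)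
    (UY := box X Y U V) le_top le_top rfl (isAffineOpen_top _) hV hU
  rw [isIso_pushoutSection_iff] at hiso
  letI : Algebra k Γ(X.left, U) := (CohBase.toSec k U).toAlgebra
  letI : Algebra k Γ(Y.left, V) := (CohBase.toSec k V).toAlgebra
  have hP : IsPushout (CommRingCat.ofHom (algebraMap k Γ(X.left, U)))
      (CommRingCat.ofHom (algebraMap k Γ(Y.left, V)))
      ((fst X Y).left.appLE U (box X Y U V) inf_le_left)
      ((snd X Y).left.appLE V (box X Y U V) inf_le_right) := by
    refine hiso.of_iso (Scheme.ΓSpecIso (CommRingCat.of k)) (Iso.refl _) (Iso.refl _) (Iso.refl _)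
      ?_ ?_ ?_ ?_
    · rw [← Iso.inv_comp_eq]
      exact CommRingCat.hom_ext (RingHom.ext fun a => rfl)
    · rw [← Iso.inv_comp_eq]
      exact CommRingCat.hom_ext (RingHom.ext fun a => rfl)
    · exact (Category.comp_id _).trans (Category.id_comp _).symm
    · exact (Category.comp_id _).trans (Category.id_comp _).symm
  let e := (CommRingCat.isPushout_tensorProduct k Γ(X.left, U) Γ(Y.left, V)).isoIsPushout _ _ hP
  let eR := e.commRingCatIsoToRingEquiv
  let ψ : Γ(X.left, U) ⊗[k] Γ(Y.left, V) ≃ₗ[k] fnA k U ⊗[k] fnA k V :=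
    TensorProduct.congr
      { toFun := toA k, invFun := ofA, left_inv := fun _ => rfl, right_inv := fun _ => rfl,
        map_add' := fun _ _ => rfl, map_smul' := fun _ _ => rfl }
      { toFun := toA k, invFun := ofA, left_inv := fun _ => rfl, right_inv := fun _ => rfl,
        map_add' := fun _ _ => rfl, map_smul' := fun _ _ => rfl }
  have hfun : (prodFun U V : _ → Γ((X ⊗ Y).left, box X Y U V)) ∘ ψ = eR := by
    funext z
    show prodFun U V (ψ z) = eR z
    induction z using TensorProduct.induction_on with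
    | zero => simp
    | tmul x y =>
      have h1 : eR (x ⊗ₜ[k] 1) = (fst X Y).left.appLE U (box X Y U V) inf_le_left x :=
        congr($((CommRingCat.isPushout_tensorProduct k Γ(X.left, U)
          Γ(Y.left, V)).inl_isoIsPushout_hom _ _ hP) x)
      have h2 : eR ((1 : Γ(X.left, U)) ⊗ₜ[k] y) =
          (snd X Y).left.appLE V (box X Y U V) inf_le_right y :=
        congr($((CommRingCat.isPushout_tensorProduct k Γ(X.left, U)
          Γ(Y.left, V)).inr_isoIsPushout_hom _ _ hP) y)
      rw [show x ⊗ₜ[k] y = (x ⊗ₜ[k] (1 : Γ(Y.left, V))) * ((1 : Γ(X.left, U)) ⊗ₜ[k] y) by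
          rw [Algebra.TensorProduct.tmul_mul_tmul, mul_one, one_mul],
        map_mul eR, h1, h2, Algebra.TensorProduct.tmul_mul_tmul, mul_one, one_mul]
      rfl
    | add x y hx hy => simp only [map_add, hx, hy]
  exact (Function.Bijective.of_comp_iff _ ψ.bijective).1 (hfun ▸ eR.bijective)

/-- The value of a function at a rational point. -/
noncomputable def evPt (y : 𝟙_ (Over (Spec (CommRingCat.of k))) ⟶ Y) {V : Y.left.Opens}
    (h : ⊤ ≤ y.left ⁻¹ᵁ V) : fnA k V →ₗ[k] k where
  toFun t := (Scheme.ΓSpecIso (CommRingCat.of k)).hom (y.left.appLE V ⊤ h (ofA t))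
  map_add' s t := by
    show (Scheme.ΓSpecIso (CommRingCat.of k)).hom (y.left.appLE V ⊤ h (ofA s + ofA t)) = _
    erw [map_add, map_add]
  map_smul' c t := by
    rw [ofA_smul, map_mul, appLE_toSec]
    erw [map_mul]
    congr 1
    show (Scheme.ΓSpecIso (CommRingCat.of k)).hom
      (((𝟙_ (Over (Spec (CommRingCat.of k)))).hom.appTop ≫ 𝟙 _) ((Scheme.ΓSpecIso (CommRingCat.of k)).inv c)) = c
    simp [Over.tensorUnit_hom]

theorem appLE_evPt (y : 𝟙_ (Over (Spec (CommRingCat.of k))) ⟶ Y) {V : Y.left.Opens}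
    (h : ⊤ ≤ y.left ⁻¹ᵁ V) {T : Over (Spec (CommRingCat.of k))} {U : T.left.Opens}
    (e : U ≤ (toUnit T ≫ y).left ⁻¹ᵁ V) (t : fnA k V) :
    (toUnit T ≫ y).left.appLE V U e (ofA t) = CohBase.toSec k U (evPt y h t) := by
  have h1 : (toUnit T ≫ y).left.appLE V U e (ofA t) =
      (toUnit T).left.appLE ⊤ U le_top (y.left.appLE V ⊤ h (ofA t)) :=
    congr($((Scheme.Hom.appLE_comp_appLE _ _ _ _ _ h le_top).symm) (ofA t))
  rw [h1]
  refine Eq.trans ?_ (congrArg (fun b => resX T.left (le_top : U ≤ ⊤) (T.hom.appTop b))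
    (congr($((Scheme.ΓSpecIso (CommRingCat.of k)).hom_inv_id) (y.left.appLE V ⊤ h (ofA t)))).symm)
  rfl

/-- Restriction of a product function to a horizontal slice. -/
theorem slice_prodFun (y : 𝟙_ (Over (Spec (CommRingCat.of k))) ⟶ Y) {U U' : X.left.Opens}
    {V : Y.left.Opens} (h : ⊤ ≤ y.left ⁻¹ᵁ V)
    (e : U' ≤ (lift (𝟙 X) (toUnit X ≫ y)).left ⁻¹ᵁ box X Y U V) (hU : U' ≤ U)
    (z : fnA k U ⊗[k] fnA k V) :
    (lift (𝟙 X) (toUnit X ≫ y)).left.appLE (box X Y U V) U' e (prodFun U V z) =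
      ofA (CohBase.secRes k (Coh.structureModule X.left) hU
        (TensorProduct.rid k (fnA k U) ((evPt y h).lTensor (fnA k U) z))) := by
  induction z using TensorProduct.induction_on with
  | zero => simp only [map_zero]; rfl
  | tmul s t =>
    rw [prodFun_tmul, map_mul, LinearMap.lTensor_tmul, TensorProduct.rid_tmul, map_smul, ofA_smul,
      ofA_res]
    have h1 : ∀ {Z : Over (Spec (CommRingCat.of k))} (p : X ⊗ Y ⟶ Z) (r : X ⟶ Z)
        (hr : lift (𝟙 X) (toUnit X ≫ y) ≫ p = r) {S : Z.left.Opens}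
        (ep : box X Y U V ≤ p.left ⁻¹ᵁ S) (x : Γ(Z.left, S)),
        ∃ er, (lift (𝟙 X) (toUnit X ≫ y)).left.appLE (box X Y U V) U' e
          (p.left.appLE S (box X Y U V) ep x) = r.left.appLE S U' er x := by
      rintro Z p r rfl S ep x
      exact ⟨_, congr($(Scheme.Hom.appLE_comp_appLE _ p.left S (box X Y U V) U' ep e) x)⟩
    obtain ⟨e1, q1⟩ := h1 (fst X Y) (𝟙 X) (lift_fst _ _) inf_le_left (ofA s)
    obtain ⟨e2, q2⟩ := h1 (snd X Y) (toUnit X ≫ y) (lift_snd _ _) inf_le_right (ofA t)
    rw [q1, q2, appLE_evPt y h e2, mul_comm]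
    congr 1
  | add a b ha hb =>
    simp only [map_add, ha, hb]
    rfl

end Groth.Abvar.Cube
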