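import Groth.Agent.CohBase.CxModel
import Groth.Agent.PicAux.Sections
import Mathlib.AlgebraicGeometry.Morphisms.Flat

/-!
# Functions on affine base changes

For `P` over `Spec A` and an `A`-algebra `B` with base change `g : Q ⟶ P`, the functions on the
preimage of an affine open `W` are `Γ(P, W) ⊗_A B`, naturally in `W`.
-/

universe u

open CategoryTheory Limits AlgebraicGeometry TopologicalSpace Opposite
open scoped TensorProduct
open Groth.PicAux (resX)

namespace Groth.Abvar.Cube

variable {A : Type u} [CommRing A] {B : Type u} [CommRing B] [Algebra A B]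
  {P : Scheme.{u}} [P.Over (Spec (CommRingCat.of A))] {Q : Scheme.{u}} {g : Q ⟶ P}
  {q : Q ⟶ Spec (CommRingCat.of B)}

/-- Functions on an open as an `A`-module. -/
noncomputable abbrev fnA (A : Type u) [CommRing A] {P : Scheme.{u}} [P.Over (Spec (CommRingCat.of A))]
    (W : P.Opens) : ModuleCat.{u} A :=
  CohBase.secA A (Coh.structureModule P) W

/-- A function as an element of the module of functions. -/
noncomputable def toA (A : Type u) [CommRing A] {P : Scheme.{u}} [P.Over (Spec (CommRingCat.of A))]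
    {W : P.Opens} (x : Γ(P, W)) : fnA A W := x

/-- An element of the module of functions as a function. -/
noncomputable def ofA {W : P.Opens} (x : fnA A W) : Γ(P, W) := x

theorem ofA_smul {W : P.Opens} (a : A) (x : fnA A W) :
    ofA (a • x) = CohBase.toSec A W a * ofA x := rfl

theorem ofA_res {V W : P.Opens} (h : V ≤ W) (x : fnA A W) :
    ofA (CohBase.secRes A (Coh.structureModule P) h x) = resX P h (ofA x) := rfl

/-- A scalar as a function on the preimage. -/
noncomputable def qFun (q : Q ⟶ Spec (CommRingCat.of B)) (V : Q.Opens) : B →+* Γ(Q, V) :=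
  (resX Q (le_top : V ≤ ⊤)).comp (Coh.toGlobal q)

theorem resX_qFun {V W : Q.Opens} (h : V ≤ W) (b : B) :
    resX Q h (qFun q W b) = qFun q V b := PicAux.resX_resX _ _ _

theorem app_res {V W : P.Opens} (h : V ≤ W) (x : Γ(P, W)) :
    g.app V (resX P h x) = resX Q (g.preimage_mono h) (g.app W x) :=
  congr($(g.naturality (homOfLE h).op) x)

/-- The structure maps agree. -/
theorem qFun_algebraMap
    (H : IsPullback g q (P ↘ Spec (CommRingCat.of A))
      (Spec.map (CommRingCat.ofHom (algebraMap A B)))) (W : P.Opens) (a : A) :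
    qFun q (g ⁻¹ᵁ W) (algebraMap A B a) = g.app W (CohBase.toSec A W a) := by
  have h1 := congrArg (fun m : Q ⟶ Spec (CommRingCat.of A) =>
    m.appTop ((Scheme.ΓSpecIso (CommRingCat.of A)).inv a)) H.w
  simp only [Scheme.Hom.comp_appTop, CommRingCat.comp_apply] at h1
  have h2 : (Spec.map (CommRingCat.ofHom (algebraMap A B))).appTop
      ((Scheme.ΓSpecIso (CommRingCat.of A)).inv a) =
      (Scheme.ΓSpecIso (CommRingCat.of B)).inv (algebraMap A B a) :=
    congr($((Scheme.ΓSpecIso_inv_naturality (CommRingCat.ofHom (algebraMap A B))).symm) a)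
  rw [h2] at h1
  show resX Q le_top (q.appTop ((Scheme.ΓSpecIso (CommRingCat.of B)).inv (algebraMap A B a))) =
    g.app W (resX P le_top
      ((P ↘ Spec (CommRingCat.of A)).appTop ((Scheme.ΓSpecIso (CommRingCat.of A)).inv a)))
  rw [app_res, ← h1]
  rfl

variable (H : IsPullback g q (P ↘ Spec (CommRingCat.of A))
  (Spec.map (CommRingCat.ofHom (algebraMap A B))))

/-- The comparison map `Γ(P, W) ⊗_A B → Γ(Q, g⁻¹ W)`. -/
noncomputable def bcFun (W : P.Opens) : fnA A W ⊗[A] B →+ Γ(Q, g ⁻¹ᵁ W) :=
  TensorProduct.liftAddHom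
    (AddMonoidHom.mk' (fun x => AddMonoidHom.mk' (fun b => g.app W (ofA x) * qFun q (g ⁻¹ᵁ W) b)
      fun b b' => by rw [map_add, mul_add])
      fun x y => AddMonoidHom.ext fun b => by
        change g.app W (ofA x + ofA y) * _ = g.app W (ofA x) * _ + g.app W (ofA y) * _
        rw [map_add, add_mul])
    fun a x b => by
      change g.app W (ofA (a • x)) * qFun q (g ⁻¹ᵁ W) b =
        g.app W (ofA x) * qFun q (g ⁻¹ᵁ W) (a • b)
      rw [ofA_smul, map_mul, Algebra.smul_def, map_mul, qFun_algebraMap H]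
      ring

theorem bcFun_tmul (W : P.Opens) (x : fnA A W) (b : B) :
    bcFun H W (x ⊗ₜ b) = g.app W (ofA x) * qFun q (g ⁻¹ᵁ W) b := rfl

theorem bcFun_res {V W : P.Opens} (h : V ≤ W) (z : fnA A W ⊗[A] B) :
    resX Q (g.preimage_mono h) (bcFun H W z) =
      bcFun H V ((CohBase.secRes A (Coh.structureModule P) h).rTensor B z) := by
  induction z using TensorProduct.induction_on with
  | zero => simp
  | tmul x b =>
    rw [LinearMap.rTensor_tmul, bcFun_tmul, bcFun_tmul, map_mul, resX_qFun, ofA_res, app_res]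
  | add x y hx hy => simp only [map_add, hx, hy]

theorem bcFun_bijective {W : P.Opens} (hW : IsAffineOpen W) :
    Function.Bijective (bcFun H W) := by
  let φA := CommRingCat.ofHom (algebraMap A B)
  let US : (Spec (CommRingCat.of A)).Opens := ⊤
  let UT : (Spec (CommRingCat.of B)).Opens := ⊤
  have hUY : g ⁻¹ᵁ W = g ⁻¹ᵁ W ⊓ q ⁻¹ᵁ UT := (inf_top_eq _).symm
  have hiso := isIso_pushoutSection_of_isAffineOpen H (US := US) (UT := UT) (UX := W)
    le_top le_top hUY (isAffineOpen_top _) (isAffineOpen_top _) hW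
  rw [isIso_pushoutSection_iff] at hiso
  letI : Algebra A Γ(P, W) := (CohBase.toSec A W).toAlgebra
  have hP : IsPushout (CommRingCat.ofHom (algebraMap A Γ(P, W))) φA (g.app W)
      (CommRingCat.ofHom (qFun q (g ⁻¹ᵁ W))) := by
    refine hiso.of_iso (Scheme.ΓSpecIso (CommRingCat.of A)) (Iso.refl _)
      (Scheme.ΓSpecIso (CommRingCat.of B)) (Iso.refl _) ?_ ?_ ?_ ?_
    · rw [← Iso.inv_comp_eq]
      exact CommRingCat.hom_ext (RingHom.ext fun a => rfl)
    · exact (congrArg (· ≫ (Scheme.ΓSpecIso (CommRingCat.of B)).hom)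
        (Scheme.Hom.appLE_eq_app (Spec.map φA))).trans (Scheme.ΓSpecIso_naturality φA)
    · exact (Category.comp_id _).trans ((Scheme.Hom.appLE_eq_app g).trans (Category.id_comp _).symm)
    · rw [← Iso.inv_comp_eq]
      exact CommRingCat.hom_ext (RingHom.ext fun b => rfl)
  let e := (CommRingCat.isPushout_tensorProduct A Γ(P, W) B).isoIsPushout _ _ hP
  let eR := e.commRingCatIsoToRingEquiv
  have hbij : Function.Bijective eR := eR.bijective
  have hval : ∀ z : Γ(P, W) ⊗[A] B, bcFun H W
      ((TensorProduct.congr (R := A)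
        ({ toFun := toA A, invFun := ofA, left_inv := fun _ => rfl, right_inv := fun _ => rfl,
           map_add' := fun _ _ => rfl, map_smul' := fun _ _ => rfl } : Γ(P, W) ≃ₗ[A] fnA A W)
        (LinearEquiv.refl A B)) z) = eR z := by
    intro z
    induction z using TensorProduct.induction_on with
    | zero => simp
    | tmul x b =>
      have h1 : eR (x ⊗ₜ[A] 1) = g.app W x :=
        congr($((CommRingCat.isPushout_tensorProduct A Γ(P, W) B).inl_isoIsPushout_hom _ _ hP) x)
      have h2 : eR ((1 : Γ(P, W)) ⊗ₜ[A] b) = qFun q (g ⁻¹ᵁ W) b :=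
        congr($((CommRingCat.isPushout_tensorProduct A Γ(P, W) B).inr_isoIsPushout_hom _ _ hP) b)
      rw [TensorProduct.congr_tmul, bcFun_tmul,
        show x ⊗ₜ[A] b = (x ⊗ₜ[A] (1 : B)) * ((1 : Γ(P, W)) ⊗ₜ[A] b) by
          rw [Algebra.TensorProduct.tmul_mul_tmul, mul_one, one_mul],
        map_mul, h1, h2]
      rfl
    | add x y hx hy => simp only [map_add, hx, hy]
  have hfun : (bcFun H W : fnA A W ⊗[A] B → Γ(Q, g ⁻¹ᵁ W)) ∘ (TensorProduct.congr (R := A)
      ({ toFun := toA A, invFun := ofA, left_inv := fun _ => rfl, right_inv := fun _ => rfl,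
         map_add' := fun _ _ => rfl, map_smul' := fun _ _ => rfl } : Γ(P, W) ≃ₗ[A] fnA A W)
      (LinearEquiv.refl A B)) = eR := funext hval
  exact (Function.Bijective.of_comp_iff _ (LinearEquiv.bijective _)).1 (hfun ▸ hbij)

end Groth.Abvar.Cube
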