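import Groth.Agent.Abvar.Cube.Base
import Groth.Agent.Abvar.PicCalc

/-!
# Consequences of the theorem of the cube over a locally Noetherian base
-/

universe u

open CategoryTheory Limits MonoidalCategory CartesianMonoidalCategory MonObj GrpObj AlgebraicGeometry

namespace Groth.Abvar.Cube

open PicCalc

variable {S : Scheme.{u}} {A : Over S} [GrpObj A]

/-- The alternating product of the cube, with the neutral term. -/
noncomputable def thetaBase {T : Over S} (c : PicLoc.PicSet A.left) (f g h : T ⟶ A) :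
    PicLoc.PicSet T.left :=
  opull (f * g * h) c * opull f c * opull g c * opull h c /
    (opull (f * g) c * opull (f * h) c * opull (g * h) c * opull (1 : T ⟶ A) c)

theorem opull_thetaBase {T T' : Over S} (m : T' ⟶ T) (c : PicLoc.PicSet A.left) (f g h : T ⟶ A) :
    opull m (thetaBase c f g h) = thetaBase c (m ≫ f) (m ≫ g) (m ≫ h) := by
  simp only [thetaBase, map_div, map_mul, ← opull_comp, MonObj.comp_mul, MonObj.comp_one]

theorem thetaBase_one {T : Over S} (c : PicLoc.PicSet A.left) (f g : T ⟶ A) :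
    thetaBase c 1 f g = 1 ∧ thetaBase c f 1 g = 1 ∧ thetaBase c f g 1 = 1 := by
  have h1 : ∀ f : T ⟶ A, (1 : T ⟶ A) * f = f := fun f => _root_.one_mul f
  have h2 : ∀ f : T ⟶ A, f * (1 : T ⟶ A) = f := fun f => _root_.mul_one f
  refine ⟨?_, ?_, ?_⟩ <;> simp only [thetaBase, h1, h2] <;> rw [div_eq_one] <;> ac_rfl

variable [IsLocallyNoetherian S] [IsProper A.hom] [Flat A.hom] [GeometricallyIntegral A.hom]

/-- The theorem of the cube over a locally Noetherian base, for classes. -/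
theorem thetaBase_eq_one {T : Over S} (c : PicLoc.PicSet A.left) (f g h : T ⟶ A) :
    thetaBase c f g h = 1 := by
  suffices hu : thetaBase c (fst A (A ⊗ A)) (snd A (A ⊗ A) ≫ fst A A)
      (snd A (A ⊗ A) ≫ snd A A) = 1 by
    have e := congrArg (opull (lift f (lift g h))) hu
    rw [opull_thetaBase, map_one] at e
    simpa using e
  obtain ⟨L, hL, e⟩ := PicGrp.exists_eq_cls
    (thetaBase c (fst A (A ⊗ A)) (snd A (A ⊗ A) ≫ fst A A) (snd A (A ⊗ A) ≫ snd A A))
  rw [e, ← nonempty_iso_structure_iff]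
  refine trivial_cube_base η[A] η[A] η[A] L hL ?_ ?_ ?_
  all_goals
    rw [nonempty_iso_structure_iff (PicLoc.isInvertible_pullback _ hL), ← pull_cls _ hL]
    change opull _ (PicGrp.cls L hL) = 1
    rw [← e, opull_thetaBase]
  · simp only [lift_fst, lift_snd_assoc, Category.id_comp, ← Hom.one_def]
    exact (thetaBase_one c _ _).1
  · simp only [lift_fst, lift_snd_assoc, lift_snd, lift_fst_assoc, ← Hom.one_def]
    exact (thetaBase_one c _ _).2.1
  · simp only [lift_fst, lift_snd_assoc, lift_snd, lift_fst_assoc, ← Hom.one_def]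
    exact (thetaBase_one c _ _).2.2

/-- The theorem of the cube over a locally Noetherian base, without quotients. -/
theorem opull_cube_base {T : Over S} (c : PicLoc.PicSet A.left) (f g h : T ⟶ A) :
    opull (f * g * h) c * opull f c * opull g c * opull h c =
      opull (f * g) c * opull (f * h) c * opull (g * h) c * opull (1 : T ⟶ A) c :=
  div_eq_one.1 (thetaBase_eq_one c f g h)

/-- The recursion given by the cube. -/
theorem opull_pow_rec_base (c : PicLoc.PicSet A.left) (n : ℕ) :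
    opull (𝟙 A ^ (n + 2)) c * opull (𝟙 A ^ n) c *
        (opull (1 : A ⟶ A) c * opull (1 : A ⟶ A) c) =
      opull (𝟙 A ^ (n + 1)) c * opull (𝟙 A ^ (n + 1)) c * (c * opull (𝟙 A)⁻¹ c) := by
  have e := opull_cube_base c (𝟙 A ^ (n + 1)) (𝟙 A) (𝟙 A)⁻¹
  have h1 : 𝟙 A ^ (n + 1) * 𝟙 A * (𝟙 A)⁻¹ = 𝟙 A ^ (n + 1) := mul_inv_cancel_right _ _
  have h2 : 𝟙 A ^ (n + 1) * (𝟙 A)⁻¹ = 𝟙 A ^ n := by rw [pow_succ, mul_inv_cancel_right]
  rw [h1, h2, ← pow_succ, mul_inv_cancel, opull_id] at e
  refine Eq.trans ?_ (e.symm.trans (_root_.mul_assoc _ _ _))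
  exact (_root_.mul_assoc _ _ _).symm

/-- The inverse image by multiplication by a natural number. -/
theorem opull_pow_base (c : PicLoc.PicSet A.left) (n : ℕ) :
    opull (𝟙 A ^ n) c * opull (1 : A ⟶ A) c ^ (n ^ 2) =
      c ^ ((n + 1).choose 2) * opull (𝟙 A)⁻¹ c ^ (n.choose 2) * opull (1 : A ⟶ A) c := by
  induction n using Nat.strong_induction_on with
  | _ n ih =>
    match n with
    | 0 =>
      rw [show 𝟙 A ^ 0 = (1 : A ⟶ A) from pow_zero _]
      simp only [zero_pow two_ne_zero, pow_zero, show Nat.choose 0 2 = 0 from rfl,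
        show Nat.choose (0 + 1) 2 = 0 from rfl, _root_.one_mul, _root_.mul_one]
    | 1 =>
      rw [pow_one (𝟙 A), opull_id]
      simp only [one_pow, pow_one, pow_zero, show Nat.choose 2 2 = 1 from rfl,
        show Nat.choose 1 2 = 0 from rfl, _root_.mul_one]
    | m + 2 =>
      have e := opull_pow_rec_base c m
      have i1 := ih (m + 1) (by omega)
      have i0 := ih m (by omega)
      have hm : (m + 1).choose 2 = m.choose 2 + m := by
        rw [Nat.choose_succ_succ', Nat.choose_one_right, add_comm]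
      have hm1 : (m + 2).choose 2 = (m + 1).choose 2 + (m + 1) := by
        rw [Nat.choose_succ_succ', Nat.choose_one_right, add_comm]
      have hm2 : (m + 3).choose 2 = (m + 2).choose 2 + (m + 2) := by
        rw [Nat.choose_succ_succ', Nat.choose_one_right, add_comm]
      generalize opull (𝟙 A)⁻¹ c = d at *
      generalize opull (1 : A ⟶ A) c = o at *
      generalize opull (𝟙 A ^ (m + 2)) c = p₂ at *
      generalize opull (𝟙 A ^ (m + 1)) c = p₁ at *
      generalize opull (𝟙 A ^ m) c = p₀ at *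
      refine mul_right_cancel (b := p₀ * o ^ (m ^ 2)) ?_
      calc p₂ * o ^ (m + 2) ^ 2 * (p₀ * o ^ (m ^ 2))
          = (p₂ * p₀ * (o * o)) * (o ^ ((m + 1) ^ 2) * o ^ ((m + 1) ^ 2)) := by
            rw [show (m + 2) ^ 2 = 1 + 1 + ((m + 1) ^ 2 + (m + 1) ^ 2) - m ^ 2 by
              rw [eq_comm, Nat.sub_eq_iff_eq_add (by nlinarith)]; ring]
            rw [show p₂ * o ^ (1 + 1 + ((m + 1) ^ 2 + (m + 1) ^ 2) - m ^ 2) * (p₀ * o ^ (m ^ 2)) =
              p₂ * p₀ * (o ^ (1 + 1 + ((m + 1) ^ 2 + (m + 1) ^ 2) - m ^ 2) * o ^ (m ^ 2)) by ac_rfl,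
              ← pow_add, Nat.sub_add_cancel (by nlinarith)]
            simp only [pow_add, pow_one]
            ac_rfl
        _ = (p₁ * o ^ ((m + 1) ^ 2)) * (p₁ * o ^ ((m + 1) ^ 2)) * (c * d) := by rw [e]; ac_rfl
        _ = _ := by
          rw [i1, i0, hm2, hm1, hm]
          simp only [pow_add, pow_one, pow_two]
          ac_rfl

/-- The inverse image by multiplication by an integer. -/
theorem opull_zpow_base (c : PicLoc.PicSet A.left) (n : ℤ) :
    opull (𝟙 A ^ n) c * opull (1 : A ⟶ A) c ^ (n.natAbs ^ 2) =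
      c ^ (((n ^ 2 + n) / 2).toNat) * opull (𝟙 A)⁻¹ c ^ (((n ^ 2 - n) / 2).toNat) *
        opull (1 : A ⟶ A) c := by
  have key : ∀ m : ℕ, (((m : ℤ) ^ 2 + m) / 2).toNat = (m + 1).choose 2 ∧
      (((m : ℤ) ^ 2 - m) / 2).toNat = m.choose 2 := fun m => by
    refine ⟨?_, ?_⟩
    · rw [Nat.choose_two_right, Nat.add_sub_cancel,
        show (m : ℤ) ^ 2 + m = (((m + 1) * m : ℕ) : ℤ) by push_cast; ring]
      exact congrArg Int.toNat (Int.natCast_ediv _ 2).symm
    · rw [Nat.choose_two_right, show (m : ℤ) ^ 2 - m = ((m * (m - 1) : ℕ) : ℤ) by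
        rcases m with - | m
        · rfl
        · push_cast [Nat.add_sub_cancel]; ring]
      exact congrArg Int.toNat (Int.natCast_ediv _ 2).symm
  obtain ⟨m, rfl | rfl⟩ := Int.eq_nat_or_neg n
  · rw [zpow_natCast, Int.natAbs_natCast, (key m).1, (key m).2]
    exact opull_pow_base c m
  · have hm : (𝟙 A ^ m : A ⟶ A) ≫ (𝟙 A)⁻¹ = (𝟙 A ^ m)⁻¹ := by
      rw [GrpObj.comp_inv, Category.comp_id]
    have hinv : (𝟙 A)⁻¹ ≫ (𝟙 A)⁻¹ = 𝟙 A := by rw [GrpObj.comp_inv, Category.comp_id]; exact _root_.inv_inv _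
    have hone : (1 : A ⟶ A) ≫ (𝟙 A)⁻¹ = 1 := by rw [GrpObj.comp_inv, Category.comp_id, inv_one]
    have e := opull_pow_base (opull (𝟙 A)⁻¹ c) m
    rw [← opull_comp, ← opull_comp, ← opull_comp, hm, hinv, hone, opull_id] at e
    rw [zpow_neg, zpow_natCast, Int.natAbs_neg, Int.natAbs_natCast, neg_sq,
      show ((m : ℤ) ^ 2 - -(m : ℤ)) = (m : ℤ) ^ 2 + m by ring,
      show ((m : ℤ) ^ 2 + -(m : ℤ)) = (m : ℤ) ^ 2 - m by ring, (key m).1, (key m).2, e]
    ac_rfl

end Groth.Abvar.Cube
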