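import Groth.Agent.Abvar.Cube.AnyBase

/-!
# Modules on a triple product trivial on two slices
-/

universe u

open CategoryTheory Limits MonoidalCategory CartesianMonoidalCategory AlgebraicGeometry
  TopologicalSpace

namespace Groth.Abvar.Cube

open Seesaw

variable {S X Y Z : Scheme.{u}} (pX : X ⟶ S) (pY : Y ⟶ S) (pZ : Z ⟶ S)
  [Flat pX] [IsProper pX] [LocallyOfFinitePresentation pX] [GeometricallyIntegral pX]
  [Flat pY] [IsProper pY] [LocallyOfFinitePresentation pY] [GeometricallyIntegral pY]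
  {x : S ⟶ X} (hx : x ≫ pX = 𝟙 S) {y : S ⟶ Y} (hy : y ≫ pY = 𝟙 S)
  {L : (pullback (pullback.fst pX pY ≫ pX) pZ).Modules}

set_option maxHeartbeats 1000000 in
include hx hy in
/-- The trivial fibres over the third factor of a module trivial on two slices form an open and closed
set, over which the module is trivial. -/
theorem exists_clopen_trivial (hL : PicF.IsInvertible L)
    (u : Y ⟶ pullback pX pY) (hu₁ : u ≫ pullback.fst pX pY = pY ≫ x)
    (hu₂ : u ≫ pullback.snd pX pY = 𝟙 Y)
    (v : X ⟶ pullback pX pY) (hv₁ : v ≫ pullback.fst pX pY = 𝟙 X)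
    (hv₂ : v ≫ pullback.snd pX pY = pX ≫ y)
    (mY : pullback (u ≫ pullback.fst pX pY ≫ pX) pZ ⟶ pullback (pullback.fst pX pY ≫ pX) pZ)
    (hmY₁ : mY ≫ pullback.fst _ _ = pullback.fst _ _ ≫ u)
    (hmY₂ : mY ≫ pullback.snd _ _ = pullback.snd _ _)
    (mX : pullback (v ≫ pullback.fst pX pY ≫ pX) pZ ⟶ pullback (pullback.fst pX pY ≫ pX) pZ)
    (hmX₁ : mX ≫ pullback.fst _ _ = pullback.fst _ _ ≫ v)
    (hmX₂ : mX ≫ pullback.snd _ _ = pullback.snd _ _)
    (h₁ : Nonempty ((Scheme.Modules.pullback mY).obj L ≅ Coh.structureModule _))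
    (h₂ : Nonempty ((Scheme.Modules.pullback mX).obj L ≅ Coh.structureModule _)) :
    IsClopen {z | FibTriv (pullback.snd (pullback.fst pX pY ≫ pX) pZ) L z} ∧
      ∀ W : Z.Opens, (∀ z ∈ W, FibTriv (pullback.snd (pullback.fst pX pY ≫ pX) pZ) L z) →
        Nonempty ((Scheme.Modules.pullback
          ((pullback.snd (pullback.fst pX pY ≫ pX) pZ) ⁻¹ᵁ W).ι).obj L ≅ Coh.structureModule _) := by
  let A : Over S := Over.mk pX
  let B : Over S := Over.mk pY
  let X' := Over.mk (pullback.snd pX pZ)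
  let Y' := Over.mk (pullback.snd pY pZ)
  have hX' : IsPullback (pullback.fst pX pZ) X'.hom A.hom pZ := IsPullback.of_hasPullback _ _
  have hY' : IsPullback (pullback.fst pY pZ) Y'.hom B.hom pZ := IsPullback.of_hasPullback _ _
  obtain ⟨h, h1, h2, sq'⟩ := isPullback_tensor (X := A) (Y := B) (X' := X') (Y' := Y') hX' hY'
  have sq : IsPullback h (X' ⊗ Y').hom (pullback.fst pX pY ≫ pX) pZ := sq'
  let ι := sq.isoPullback
  have hπ : ι.hom ≫ pullback.snd _ _ = (X' ⊗ Y').hom := sq.isoPullback_hom_snd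
  obtain ⟨x', hx'⟩ := exists_section (X := A) (X' := X') hX' (Over.homMk x hx : 𝟙_ (Over S) ⟶ A)
  obtain ⟨y', hy'⟩ := exists_section (X := B) (X' := Y') hY' (Over.homMk y hy : 𝟙_ (Over S) ⟶ B)
  let L' := (Scheme.Modules.pullback ι.hom).obj L
  have hL' : PicF.IsInvertible L' := PicAux.isInvertible_pullback _ hL
  have : IsProper X'.hom := inferInstanceAs (IsProper (pullback.snd _ _))
  have : IsProper Y'.hom := inferInstanceAs (IsProper (pullback.snd _ _))
  have : Flat X'.hom := inferInstanceAs (Flat (pullback.snd _ _))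
  have : Flat Y'.hom := inferInstanceAs (Flat (pullback.snd _ _))
  have : LocallyOfFinitePresentation X'.hom :=
    inferInstanceAs (LocallyOfFinitePresentation (pullback.snd _ _))
  have : LocallyOfFinitePresentation Y'.hom :=
    inferInstanceAs (LocallyOfFinitePresentation (pullback.snd _ _))
  have : GeometricallyIntegral X'.hom := inferInstanceAs (GeometricallyIntegral (pullback.snd _ _))
  have : GeometricallyIntegral Y'.hom := inferInstanceAs (GeometricallyIntegral (pullback.snd _ _))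
  have hfstP : ι.hom ≫ pullback.fst _ _ = h := sq.isoPullback_hom_fst
  have hsliceX : Nonempty ((Scheme.Modules.pullback (lift (𝟙 X') (toUnit X' ≫ y')).left).obj L' ≅
      Coh.structureModule X'.left) := by
    let s := (lift (𝟙 X') (toUnit X' ≫ y')).left
    have hs : s ≫ h = pullback.fst pX pZ ≫ (lift (𝟙 A) (toUnit A ≫ (Over.homMk y hy : 𝟙_ (Over S) ⟶ B))).left :=
      lift_compat h1 h2
        (show (𝟙 X' : X' ⟶ X').left ≫ pullback.fst pX pZ =
            pullback.fst pX pZ ≫ (𝟙 A : A ⟶ A).left from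
          (Category.id_comp _).trans (Category.comp_id _).symm)
        (toUnit_compat (T := A) (X := B) (T' := X') (X' := Y') (gT := pullback.fst pX pZ) (gX := pullback.fst pY pZ) hX'.w _ y' hy')
    have hvl : (lift (𝟙 A) (toUnit A ≫ (Over.homMk y hy : 𝟙_ (Over S) ⟶ B))).left = v :=
      pullback.hom_ext ((congrArg Over.Hom.left (lift_fst _ _)).trans hv₁.symm)
        ((congrArg Over.Hom.left (lift_snd _ _)).trans
          ((congrArg (· ≫ y) Over.toUnit_left).trans hv₂.symm))
    have hvc : v ≫ pullback.fst pX pY ≫ pX = pX := by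
      rw [← Category.assoc, hv₁, Category.id_comp]
    let e : pullback pX pZ ⟶ pullback (v ≫ pullback.fst pX pY ≫ pX) pZ :=
      pullback.lift (pullback.fst _ _) (pullback.snd _ _) (by rw [hvc]; exact pullback.condition)
    have he : e ≫ mX = s ≫ ι.hom := by
      refine (IsPullback.of_hasPullback _ pZ).hom_ext ?_ ?_
      · rw [Category.assoc, Category.assoc, hmX₁, hfstP, hs, hvl]
        exact (Category.assoc _ _ _).symm.trans (congrArg (· ≫ v) (pullback.lift_fst _ _ _))
      · rw [Category.assoc, Category.assoc, hmX₂, hπ]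
        exact (pullback.lift_snd _ _ _).trans (Over.w (lift (𝟙 X') (toUnit X' ≫ y'))).symm
    obtain ⟨i⟩ := trivial_of_factor e he h₂
    exact ⟨(Scheme.Modules.pullbackComp _ ι.hom).app L ≪≫ i⟩
  have hsliceY : Nonempty ((Scheme.Modules.pullback (lift (toUnit Y' ≫ x') (𝟙 Y')).left).obj L' ≅
      Coh.structureModule Y'.left) := by
    let s := (lift (toUnit Y' ≫ x') (𝟙 Y')).left
    have hs : s ≫ h = pullback.fst pY pZ ≫ (lift (toUnit B ≫ (Over.homMk x hx : 𝟙_ (Over S) ⟶ A)) (𝟙 B)).left :=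
      lift_compat h1 h2 (toUnit_compat (T := B) (X := A) (T' := Y') (X' := X') (gT := pullback.fst pY pZ) (gX := pullback.fst pX pZ) hY'.w _ x' hx')
        (show (𝟙 Y' : Y' ⟶ Y').left ≫ pullback.fst pY pZ =
            pullback.fst pY pZ ≫ (𝟙 B : B ⟶ B).left from
          (Category.id_comp _).trans (Category.comp_id _).symm)
    have hul : (lift (toUnit B ≫ (Over.homMk x hx : 𝟙_ (Over S) ⟶ A)) (𝟙 B)).left = u :=
      pullback.hom_ext ((congrArg Over.Hom.left (lift_fst _ _)).trans
          ((congrArg (· ≫ x) Over.toUnit_left).trans hu₁.symm))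
        ((congrArg Over.Hom.left (lift_snd _ _)).trans hu₂.symm)
    have huc : u ≫ pullback.fst pX pY ≫ pX = pY := by
      rw [← Category.assoc, hu₁, Category.assoc, hx, Category.comp_id]
    let e : pullback pY pZ ⟶ pullback (u ≫ pullback.fst pX pY ≫ pX) pZ :=
      pullback.lift (pullback.fst _ _) (pullback.snd _ _) (by rw [huc]; exact pullback.condition)
    have he : e ≫ mY = s ≫ ι.hom := by
      refine (IsPullback.of_hasPullback _ pZ).hom_ext ?_ ?_
      · rw [Category.assoc, Category.assoc, hmY₁, hfstP, hs, hul]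
        exact (Category.assoc _ _ _).symm.trans (congrArg (· ≫ u) (pullback.lift_fst _ _ _))
      · rw [Category.assoc, Category.assoc, hmY₂, hπ]
        exact (pullback.lift_snd _ _ _).trans (Over.w (lift (toUnit Y' ≫ x') (𝟙 Y'))).symm
    obtain ⟨i⟩ := trivial_of_factor e he h₁
    exact ⟨(Scheme.Modules.pullbackComp _ ι.hom).app L ≪≫ i⟩
  let π := pullback.snd (pullback.fst pX pY ≫ pX) pZ
  have sqι : IsPullback ι.inv π (X' ⊗ Y').hom (𝟙 Z) :=
    IsPullback.of_horiz_isIso ⟨by rw [Category.comp_id]; exact sq.isoPullback_inv_snd⟩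
  have sqι' : IsPullback ι.hom (X' ⊗ Y').hom π (𝟙 Z) :=
    IsPullback.of_horiz_isIso ⟨by rw [Category.comp_id]; exact hπ⟩
  let η : (Scheme.Modules.pullback ι.inv).obj L' ≅ L :=
    (Scheme.Modules.pullbackComp ι.inv ι.hom).app L ≪≫
      (Scheme.Modules.pullbackCongr ι.inv_hom_id).app L ≪≫ (Scheme.Modules.pullbackId _).app L
  have key : ∀ z, FibTriv π L z ↔ FibTriv (X' ⊗ Y').hom L' z := fun z =>
    ⟨fun h => fibTriv_of_isPullback sqι' z h,
      fun h => (fibTriv_of_isPullback sqι z h).map fun i =>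
        (Scheme.Modules.pullback _).mapIso η.symm ≪≫ i⟩
  refine ⟨?_, fun W hW => ?_⟩
  · rw [show {z | FibTriv π L z} = {z | FibTriv (X' ⊗ Y').hom L' z} from Set.ext key]
    exact isClopen_fibTriv x' y' hL' hsliceX hsliceY
  · have H : IsPullback ((π ⁻¹ᵁ W).ι ≫ ι.inv) (π ∣_ W) (X' ⊗ Y').hom (W.ι ≫ 𝟙 Z) :=
      ((isPullback_morphismRestrict π W).flip).paste_horiz sqι
    obtain ⟨i⟩ := trivial_of_fibres_bc x' y' hL' hsliceX hsliceY (W.ι ≫ 𝟙 Z) H fun b => by
      rw [Category.comp_id]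
      exact (key _).1 (hW _ b.2)
    exact ⟨(Scheme.Modules.pullback _).mapIso η.symm ≪≫
      (Scheme.Modules.pullbackComp (π ⁻¹ᵁ W).ι ι.inv).app L' ≪≫ i⟩

end Groth.Abvar.Cube
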